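import Cfsg.Prelude.Def_HallClasses
import Cfsg.Agent.H94.Pronormal
set_option linter.all false

/-!
# Pronormality of the subgroups of odd index in direct products (helper158)

`PN G`: all subgroups of odd index of `G` are pronormal and the quotient of the normalizer of a
Sylow 2-subgroup by the Sylow subgroup is abelian.  This passes to quotients and to finite
direct products.
-/

set_option autoImplicit false

namespace Cfsg.Agent.H158.PronProd

open Subgroup

universe u v

/-- All subgroups of odd index are pronormal, and `N(S)/S` is abelian for `S` a Sylow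
2-subgroup. -/
structure PN (G : Type u) [Group G] : Prop where
  pron : ∀ H : Subgroup G, Odd H.index → Cfsg.IsPronormal H
  comm : ∀ S : Sylow 2 G, ∀ a ∈ normalizer ((S : Subgroup G) : Set G),
    ∀ b ∈ normalizer ((S : Subgroup G) : Set G), a * b * a⁻¹ * b⁻¹ ∈ (S : Subgroup G)

theorem mem_map_conj {G : Type u} [Group G] {H : Subgroup G} {g x : G} :
    x ∈ H.map (MulAut.conj g).toMonoidHom ↔ g⁻¹ * x * g ∈ H := by
  constructor
  · rintro ⟨y, hy, rfl⟩
    simpa [mul_assoc] using hy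
  · intro h
    exact ⟨_, h, by simp [mul_assoc]⟩

theorem conj_mem_map_conj {G : Type u} [Group G] {H : Subgroup G} {g x : G} (hx : x ∈ H) :
    g * x * g⁻¹ ∈ H.map (MulAut.conj g).toMonoidHom := ⟨x, hx, by simp⟩

theorem norm_of {C : Type u} [Group C] (R : Subgroup C) (c y : C)
    (he : R.map (MulAut.conj c).toMonoidHom = R.map (MulAut.conj y).toMonoidHom) :
    y⁻¹ * c ∈ normalizer (R : Set C) := by
  rw [mem_normalizer_iff]
  intro z
  constructor
  · intro hz
    have h1 : c * z * c⁻¹ ∈ R.map (MulAut.conj y).toMonoidHom := he ▸ conj_mem_map_conj hz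
    rw [mem_map_conj] at h1
    simpa [mul_assoc] using h1
  · intro hz
    have h1 : y * (y⁻¹ * c * z * (y⁻¹ * c)⁻¹) * y⁻¹ ∈ R.map (MulAut.conj c).toMonoidHom :=
      he ▸ conj_mem_map_conj hz
    rw [mem_map_conj] at h1
    have h2 : c⁻¹ * (y * (y⁻¹ * c * z * (y⁻¹ * c)⁻¹) * y⁻¹) * c = z := by group
    rw [h2] at h1
    exact h1

theorem norm_of' {C : Type u} [Group C] (R : Subgroup C) (c : C)
    (hc : c ∈ normalizer (R : Set C)) : R.map (MulAut.conj c).toMonoidHom ≤ R := by
  rintro _ ⟨z, hz, rfl⟩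
  exact (mem_normalizer_iff.1 hc z).1 hz

theorem PN.of_surjective {G : Type u} {G' : Type v} [Group G] [Group G'] [Finite G]
    (f : G →* G') (hf : Function.Surjective f) (h : PN G) : PN G' := by
  have : Finite G' := Finite.of_surjective f hf
  refine ⟨fun H hH g => ?_, fun S a ha b hb => ?_⟩
  · obtain ⟨g, rfl⟩ := hf g
    have h1 : Odd (H.comap f).index := by
      rw [Subgroup.index_comap_of_surjective _ hf]; exact hH
    obtain ⟨x, hx, he⟩ := h.pron _ h1 g
    have h2 : ∀ y : G, ((H.comap f).map (MulAut.conj y).toMonoidHom).map f =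
        H.map (MulAut.conj (f y)).toMonoidHom := by
      intro y
      ext z
      constructor
      · rintro ⟨_, ⟨w, hw, rfl⟩, rfl⟩
        exact ⟨f w, hw, by simp⟩
      · rintro ⟨w, hw, rfl⟩
        obtain ⟨w, rfl⟩ := hf w
        exact ⟨_, ⟨w, hw, rfl⟩, by simp⟩
    refine ⟨f x, ?_, ?_⟩
    · have h3 := Subgroup.mem_map_of_mem f hx
      rw [Subgroup.map_sup, h2, Subgroup.map_comap_eq_self_of_surjective hf] at h3
      exact h3
    · rw [← h2 g, he, h2 x]
  · obtain ⟨P⟩ : Nonempty (Sylow 2 G) := inferInstance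
    obtain ⟨t, ht⟩ := MulAction.exists_smul_eq G' (P.mapSurjective hf) S
    obtain ⟨s, rfl⟩ := hf t
    have hS : ((s • P : Sylow 2 G) : Subgroup G).map f = (S : Subgroup G') := by
      rw [← ht]
      ext z
      rw [Sylow.coe_subgroup_smul, Sylow.coe_subgroup_smul]
      constructor
      · rintro ⟨w, hw, rfl⟩
        rw [SetLike.mem_coe, Subgroup.mem_pointwise_smul_iff_inv_smul_mem] at hw
        rw [Subgroup.mem_pointwise_smul_iff_inv_smul_mem]
        refine ⟨_, hw, ?_⟩
        simp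
      · intro hz
        rw [Subgroup.mem_pointwise_smul_iff_inv_smul_mem] at hz
        obtain ⟨w, hw, hw'⟩ := hz
        refine ⟨s * w * s⁻¹, ?_, ?_⟩
        · rw [SetLike.mem_coe, Subgroup.mem_pointwise_smul_iff_inv_smul_mem]
          have h0 : (MulAut.conj s)⁻¹ • (s * w * s⁻¹) = w := by
            rw [← map_inv, MulAut.smul_def, MulAut.conj_apply, inv_inv]
            group
          rw [h0]; exact hw
        · have h4 : f w = (f s)⁻¹ * z * f s := by simpa using hw'
          rw [map_mul, map_mul, map_inv, h4]; group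
    set Q := s • P with hQ
    -- lift normalizer elements
    have key : ∀ a ∈ normalizer ((S : Subgroup G') : Set G'),
        ∃ a' ∈ normalizer ((Q : Subgroup G) : Set G), ∃ k, f k = 1 ∧ a = f a' := by
      intro a ha
      obtain ⟨a, rfl⟩ := hf a
      set T : Subgroup G := (S : Subgroup G').comap f with hT
      have hQT : (Q : Subgroup G) ≤ T := by
        rw [hT, ← hS]; exact le_comap_map f _
      have hQT' : ((a • Q : Sylow 2 G) : Subgroup G) ≤ T := by
        intro x hx
        rw [Sylow.coe_subgroup_smul, Subgroup.mem_pointwise_smul_iff_inv_smul_mem] at hx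
        have h1 := hQT hx
        rw [hT, Subgroup.mem_comap] at h1
        have h2 : f (a⁻¹ * x * a) ∈ (S : Subgroup G') := by
          have h0 : (MulAut.conj a)⁻¹ • x = a⁻¹ * x * a := by
            rw [← map_inv, MulAut.smul_def, MulAut.conj_apply, inv_inv]
          rw [← h0]; exact h1
        have h3 := (mem_normalizer_iff.1 ha _).1 h2
        rw [map_mul, map_mul, map_inv] at h3
        have h4 : f a * ((f a)⁻¹ * f x * f a) * (f a)⁻¹ = f x := by group
        rw [h4] at h3
        exact h3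
      obtain ⟨⟨w, hwT⟩, hw⟩ := MulAction.exists_smul_eq T ((a • Q : Sylow 2 G).subtype hQT')
        (Q.subtype hQT)
      rw [Sylow.smul_subtype] at hw
      have hw2 : w • a • Q = Q := Sylow.subtype_injective hw
      rw [smul_smul] at hw2
      have h4 : w * a ∈ normalizer ((Q : Subgroup G) : Set G) :=
        Sylow.smul_eq_iff_mem_normalizer.1 hw2
      -- f w ∈ S = f Q
      have h5 : f w ∈ ((Q : Subgroup G).map f) := by rw [hS]; exact hwT
      obtain ⟨q, hq, hqw⟩ := h5
      refine ⟨q⁻¹ * (w * a), mul_mem (inv_mem (le_normalizer hq)) h4, 1, map_one f, ?_⟩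
      rw [map_mul, map_mul, map_inv, hqw]; group
    obtain ⟨a', ha', -, -, rfl⟩ := key a ha
    obtain ⟨b', hb', -, -, rfl⟩ := key b hb
    rw [← hS]
    exact ⟨_, h.comm Q a' ha' b' hb', by simp⟩

section Prod

variable {A : Type u} {B : Type v} [Group A] [Group B] [Finite A] [Finite B]

/-- The projection of a Sylow 2-subgroup of `A × B` to `A` is a Sylow subgroup and lies in the
Sylow subgroup. -/
theorem sylow_fst (Q : Sylow 2 (A × B)) :
    ∃ S : Sylow 2 A, (S : Subgroup A) = (Q : Subgroup (A × B)).map (MonoidHom.fst A B) ∧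
      ∀ a ∈ (S : Subgroup A), (a, (1 : B)) ∈ (Q : Subgroup (A × B)) := by
  set QA := (Q : Subgroup (A × B)).map (MonoidHom.fst A B) with hQA
  set QB := (Q : Subgroup (A × B)).map (MonoidHom.snd A B) with hQB
  have h2A : IsPGroup 2 QA := Q.isPGroup'.map _
  have h2B : IsPGroup 2 QB := Q.isPGroup'.map _
  have key : ∀ X : Subgroup A, IsPGroup 2 X → QA ≤ X → X.prod QB ≤ (Q : Subgroup (A × B)) := by
    intro X hX hle
    have h1 : IsPGroup 2 (X.prod QB) := by
      intro x
      obtain ⟨⟨x, y⟩, hx, hy⟩ := x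
      obtain ⟨k, hk⟩ := hX ⟨x, hx⟩
      obtain ⟨l, hl⟩ := h2B ⟨y, hy⟩
      refine ⟨k + l, ?_⟩
      have hk' : x ^ 2 ^ k = 1 := congrArg Subtype.val hk
      have hl' : y ^ 2 ^ l = 1 := congrArg Subtype.val hl
      apply Subtype.ext
      show ((x, y) : A × B) ^ 2 ^ (k + l) = 1
      rw [pow_add]
      ext
      · show x ^ (2 ^ k * 2 ^ l) = 1
        rw [pow_mul, hk', one_pow]
      · show y ^ (2 ^ k * 2 ^ l) = 1
        rw [mul_comm, pow_mul, hl', one_pow]
    have h3 : (Q : Subgroup (A × B)) ≤ X.prod QB := by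
      rintro ⟨x, y⟩ hxy
      exact ⟨hle ⟨_, hxy, rfl⟩, ⟨_, hxy, rfl⟩⟩
    exact (Q.is_maximal' h1 h3).le
  refine ⟨⟨QA, h2A, ?_⟩, rfl, ?_⟩
  · intro X hX hle
    refine le_antisymm ?_ hle
    intro x hx
    have h4 := key X hX hle (show ((x, 1) : A × B) ∈ X.prod QB from ⟨hx, one_mem _⟩)
    exact ⟨_, h4, rfl⟩
  · intro a ha
    exact key QA h2A le_rfl (show ((a, 1) : A × B) ∈ QA.prod QB from ⟨ha, one_mem _⟩)

theorem odd_index_of_sylow_le {G : Type u} [Group G] [Finite G] (S : Sylow 2 G) {H : Subgroup G}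
    (h : (S : Subgroup G) ≤ H) : Odd H.index := by
  have h1 : ¬ 2 ∣ (S : Subgroup G).index := S.not_dvd_index
  rw [← Nat.not_even_iff_odd, even_iff_two_dvd]
  exact fun h2 => h1 (h2.trans (Subgroup.index_dvd_of_le h))

theorem exists_sylow_le' {G : Type u} [Group G] [Finite G] {H : Subgroup G} (h : Odd H.index) :
    ∃ S : Sylow 2 G, (S : Subgroup G) ≤ H := by
  apply Cfsg.Agent.H94.Pronormal.exists_sylow_le
  rw [← even_iff_two_dvd, Nat.not_even_iff_odd]
  exact h

/-- Frattini: if `S` is a Sylow subgroup of `G` inside `K`, and `a` normalizes `K`, then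
`a = k n` with `k ∈ K` and `n` in the normalizer of `S`. -/
theorem frattini {G : Type u} [Group G] [Finite G] (S : Sylow 2 G) {K : Subgroup G}
    (hS : (S : Subgroup G) ≤ K) {a : G} (ha : a ∈ normalizer (K : Set G)) :
    ∃ k ∈ K, ∃ n ∈ normalizer ((S : Subgroup G) : Set G), a = k * n := by
  have h1 : ((a • S : Sylow 2 G) : Subgroup G) ≤ K := by
    intro x hx
    rw [Sylow.coe_subgroup_smul, Subgroup.mem_pointwise_smul_iff_inv_smul_mem] at hx
    have h2 := (mem_normalizer_iff.1 ha _).1 (hS hx)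
    have h3 : a * (MulAut.conj a⁻¹ • x) * a⁻¹ = x := by simp [mul_assoc]
    simpa [mul_assoc] using h2
  obtain ⟨⟨w, hw⟩, hws⟩ := MulAction.exists_smul_eq K ((a • S : Sylow 2 G).subtype h1)
    (S.subtype hS)
  rw [Sylow.smul_subtype] at hws
  have hw2 : w • a • S = S := Sylow.subtype_injective hws
  rw [smul_smul] at hw2
  have h4 : w * a ∈ normalizer ((S : Subgroup G) : Set G) := Sylow.smul_eq_iff_mem_normalizer.1 hw2
  exact ⟨w⁻¹, inv_mem hw, w * a, h4, by group⟩

/-- The elements of `A` normalizing the projection of `H` normalize `H`. -/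
theorem key_left (hA : PN A) (H : Subgroup (A × B)) (S : Sylow 2 A)
    (hS : ∀ a ∈ (S : Subgroup A), (a, (1 : B)) ∈ H) {a : A}
    (ha : a ∈ normalizer ((H.map (MonoidHom.fst A B) : Subgroup A) : Set A)) {x : A} {y : B}
    (hxy : (x, y) ∈ H) : (a * x * a⁻¹, y) ∈ H := by
  set R := H.map (MonoidHom.fst A B) with hR
  set HA : Subgroup A := H.comap (MonoidHom.inl A B) with hHA
  have memHA : ∀ z, z ∈ HA ↔ (z, (1 : B)) ∈ H := fun z => Iff.rfl
  have hSHA : (S : Subgroup A) ≤ HA := hS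
  have hodd : Odd HA.index := odd_index_of_sylow_le S hSHA
  have hHAR : HA ≤ R := fun z hz => ⟨_, hz, rfl⟩
  have hRn : ∀ r ∈ R, ∀ z ∈ HA, r * z * r⁻¹ ∈ HA := by
    rintro r ⟨⟨r', s⟩, hrs, rfl⟩ z hz
    have h1 := mul_mem (mul_mem hrs hz) (inv_mem hrs)
    have h2 : ((r', s) : A × B) * (MonoidHom.inl A B) z * (r', s)⁻¹ = (r' * z * r'⁻¹, 1) := by
      ext <;> simp
    rw [h2] at h1
    exact h1
  -- elements normalizing `R` normalize `HA`
  have hNn : ∀ n ∈ normalizer (R : Set A), ∀ z ∈ HA, n * z * n⁻¹ ∈ HA := by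
    intro n hn z hz
    obtain ⟨w, hw, he⟩ := hA.pron HA hodd n
    have h1 : HA ⊔ HA.map (MulAut.conj n).toMonoidHom ≤ R := by
      rw [sup_le_iff]
      refine ⟨hHAR, ?_⟩
      rintro _ ⟨z, hz, rfl⟩
      exact (mem_normalizer_iff.1 hn z).1 (hHAR hz)
    have h2 : n * z * n⁻¹ ∈ HA.map (MulAut.conj w).toMonoidHom := he ▸ conj_mem_map_conj hz
    rw [mem_map_conj] at h2
    have h3 := hRn w (h1 hw) _ h2
    have h4 : w * (w⁻¹ * (n * z * n⁻¹) * w) * w⁻¹ = n * z * n⁻¹ := by group
    rw [h4] at h3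
    exact h3
  have hNn' : ∀ n ∈ normalizer (R : Set A), n ∈ normalizer (HA : Set A) := by
    intro n hn
    rw [mem_normalizer_iff]
    intro z
    refine ⟨hNn n hn z, fun h => ?_⟩
    have h1 := hNn n⁻¹ (inv_mem hn) _ h
    have h2 : n⁻¹ * (n * z * n⁻¹) * n⁻¹⁻¹ = z := by group
    rw [h2] at h1
    exact h1
  -- decompositions
  obtain ⟨k, hk, n, hn, rfl⟩ := frattini S hSHA (hNn' a ha)
  have hkN : k ∈ normalizer (R : Set A) := le_normalizer (hHAR hk)
  have hnN : n ∈ normalizer (R : Set A) := by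
    have := mul_mem (inv_mem hkN) ha
    rwa [inv_mul_cancel_left] at this
  obtain ⟨l, hl, m, hm, hx⟩ := frattini S hSHA (hNn' x (le_normalizer ⟨_, hxy, rfl⟩))
  -- `n x n⁻¹ ∈ HA x`
  have h5 : n * x * n⁻¹ * x⁻¹ ∈ HA := by
    have h6 : n * m * n⁻¹ * m⁻¹ ∈ HA := hSHA (hA.comm S n hn m hm)
    have h7 : n * l * n⁻¹ ∈ HA := hNn n hnN l hl
    have h8 : n * x * n⁻¹ * x⁻¹ = (n * l * n⁻¹) * (n * m * n⁻¹ * m⁻¹) * l⁻¹ := by
      rw [hx]; group
    rw [h8]
    exact mul_mem (mul_mem h7 h6) (inv_mem hl)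
  have h9 : ((n * x * n⁻¹ * x⁻¹, (1 : B)) : A × B) ∈ H := h5
  have h10 := mul_mem h9 hxy
  have h11 : ((n * x * n⁻¹ * x⁻¹, (1 : B)) : A × B) * (x, y) = (n * x * n⁻¹, y) := by
    ext <;> simp
  rw [h11] at h10
  have h12 : ((k, (1 : B)) : A × B) ∈ H := hk
  have h13 := mul_mem (mul_mem h12 h10) (inv_mem h12)
  have h14 : ((k, (1 : B)) : A × B) * (n * x * n⁻¹, y) * (k, 1)⁻¹ = (k * n * x * (k * n)⁻¹, y) := by
    ext
    · simp [mul_assoc]
    · simp
  rw [h14] at h13
  exact h13

theorem key_right (hB : PN B) (H : Subgroup (A × B)) (S : Sylow 2 B)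
    (hS : ∀ b ∈ (S : Subgroup B), ((1 : A), b) ∈ H) {b : B}
    (hb : b ∈ normalizer ((H.map (MonoidHom.snd A B) : Subgroup B) : Set B)) {x : A} {y : B}
    (hxy : (x, y) ∈ H) : (x, b * y * b⁻¹) ∈ H := by
  let e : A × B ≃* B × A := MulEquiv.prodComm
  have h1 : (H.map e.toMonoidHom).map (MonoidHom.fst B A) = H.map (MonoidHom.snd A B) := by
    rw [Subgroup.map_map]
    rfl
  have h2 : ∀ p : A × B, (p.2, p.1) ∈ H.map e.toMonoidHom ↔ p ∈ H := by
    intro p
    constructor
    · rintro ⟨q, hq, hqe⟩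
      have : q = p := e.injective hqe
      rw [← this]; exact hq
    · intro hp
      exact ⟨p, hp, rfl⟩
  have h3 := key_left hB (H.map e.toMonoidHom) S (fun b hb => (h2 (1, b)).2 (hS b hb)) (a := b)
    (by rw [h1]; exact hb) ((h2 (x, y)).2 hxy)
  exact (h2 (x, b * y * b⁻¹)).1 h3

theorem PN.prod (hA : PN A) (hB : PN B) : PN (A × B) := by
  refine ⟨fun H hH g => ?_, fun Q a ha b hb => ?_⟩
  · obtain ⟨Q, hQ⟩ := exists_sylow_le' hH
    obtain ⟨SA, hSA, hSA'⟩ := sylow_fst Q
    have hB' : ∃ SB : Sylow 2 B, ∀ b ∈ (SB : Subgroup B), ((1 : A), b) ∈ H := by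
      have e : A × B ≃* B × A := MulEquiv.prodComm
      let Q' : Sylow 2 (B × A) := Q.mapSurjective
        (f := (MulEquiv.prodComm : A × B ≃* B × A).toMonoidHom) (MulEquiv.surjective _)
      obtain ⟨SB, hSB, hSB'⟩ := sylow_fst Q'
      refine ⟨SB, fun b hb => ?_⟩
      obtain ⟨⟨x, y⟩, hq, hqe⟩ := hSB' b hb
      have h1 : x = 1 := congrArg Prod.snd hqe
      have h2 : y = b := congrArg Prod.fst hqe
      subst h1 h2
      exact hQ hq
    obtain ⟨SB, hSB⟩ := hB'
    have hSAH : ∀ a ∈ (SA : Subgroup A), (a, (1 : B)) ∈ H := fun a ha => hQ (hSA' a ha)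
    set RA := H.map (MonoidHom.fst A B) with hRA
    set RB := H.map (MonoidHom.snd A B) with hRB
    have hSARA : (SA : Subgroup A) ≤ RA := fun a ha => ⟨_, hSAH a ha, rfl⟩
    have hSBRB : (SB : Subgroup B) ≤ RB := fun b hb => ⟨_, hSB b hb, rfl⟩
    have pA := hA.pron RA (odd_index_of_sylow_le SA hSARA)
    have pB := hB.pron RB (odd_index_of_sylow_le SB hSBRB)
    -- step 1
    have mapfst : ∀ g : A × B, (H.map (MulAut.conj g).toMonoidHom).map (MonoidHom.fst A B) =
        RA.map (MulAut.conj g.1).toMonoidHom := by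
      intro g
      rw [hRA, Subgroup.map_map, Subgroup.map_map]
      rfl
    have mapsnd : ∀ g : A × B, (H.map (MulAut.conj g).toMonoidHom).map (MonoidHom.snd A B) =
        RB.map (MulAut.conj g.2).toMonoidHom := by
      intro g
      rw [hRB, Subgroup.map_map, Subgroup.map_map]
      rfl
    obtain ⟨yB, hyB, heB⟩ := pB g.2
    rw [← mapsnd g, hRB, ← Subgroup.map_sup] at hyB
    obtain ⟨x, hx, rfl⟩ := hyB
    have hx2 : (x⁻¹ * g).2 ∈ normalizer (RB : Set B) := by
      have := norm_of RB g.2 _ heB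
      exact this
    -- step 2
    set g' := x⁻¹ * g with hg'
    obtain ⟨yA, hyA, heA⟩ := pA g'.1
    rw [← mapfst g', hRA, ← Subgroup.map_sup] at hyA
    obtain ⟨x', hx', rfl⟩ := hyA
    have hx'1 : (x'⁻¹ * g').1 ∈ normalizer (RA : Set A) := norm_of RA g'.1 _ heA
    have hx'2 : x'.2 ∈ RB := by
      have h1 : x'.2 ∈ (H ⊔ H.map (MulAut.conj g').toMonoidHom).map (MonoidHom.snd A B) :=
        ⟨x', hx', rfl⟩
      rw [Subgroup.map_sup, mapsnd g'] at h1
      exact (sup_le_iff.2 ⟨le_rfl, norm_of' RB _ hx2⟩) h1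
    have hx'2' : (x'⁻¹ * g').2 ∈ normalizer (RB : Set B) :=
      mul_mem (inv_mem (le_normalizer hx'2)) hx2
    set g'' := x'⁻¹ * g' with hg''
    -- `g''` normalizes `H`
    have hnH : ∀ c : A × B, c.1 ∈ normalizer (RA : Set A) → c.2 ∈ normalizer (RB : Set B) →
        ∀ p ∈ H, c * p * c⁻¹ ∈ H := by
      intro c h1 h2 p hp
      have h3 := key_left hA H SA hSAH h1 (x := p.1) (y := p.2) hp
      have h4 := key_right hB H SB hSB h2 h3
      exact h4
    have hH'' : H.map (MulAut.conj g'').toMonoidHom = H := by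
      apply le_antisymm
      · rintro _ ⟨p, hp, rfl⟩
        exact hnH g'' hx'1 hx'2' p hp
      · intro p hp
        rw [mem_map_conj]
        have := hnH g''⁻¹ (inv_mem hx'1) (inv_mem hx'2') p hp
        rwa [inv_inv] at this
    refine ⟨x * x', ?_, ?_⟩
    · refine mul_mem hx ?_
      have h1 : H ⊔ H.map (MulAut.conj g').toMonoidHom ≤ H ⊔ H.map (MulAut.conj g).toMonoidHom := by
        rw [sup_le_iff]
        refine ⟨le_sup_left, ?_⟩
        rintro _ ⟨p, hp, rfl⟩
        have h2 : (MulAut.conj g').toMonoidHom p = x⁻¹ * (g * p * g⁻¹) * x := by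
          simp [hg', mul_assoc]
        rw [h2]
        exact mul_mem (mul_mem (inv_mem hx) (le_sup_right (α := Subgroup (A × B))
          (conj_mem_map_conj hp))) hx
      exact h1 hx'
    · have hg : g = (x * x') * g'' := by rw [hg'', hg']; group
      conv_lhs => rw [hg]
      rw [Cfsg.Agent.H94.Pronormal.map_conj_mul, hH'']
  · obtain ⟨SA, hSA, hSA'⟩ := sylow_fst Q
    have hB' : ∃ SB : Sylow 2 B, (SB : Subgroup B) = (Q : Subgroup (A × B)).map (MonoidHom.snd A B) ∧
        ∀ b ∈ (SB : Subgroup B), ((1 : A), b) ∈ (Q : Subgroup (A × B)) := by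
      let Q' : Sylow 2 (B × A) := Q.mapSurjective
        (f := (MulEquiv.prodComm : A × B ≃* B × A).toMonoidHom) (MulEquiv.surjective _)
      obtain ⟨SB, hSB, hSB'⟩ := sylow_fst Q'
      refine ⟨SB, ?_, fun b hb => ?_⟩
      · rw [hSB]
        show ((Q : Subgroup (A × B)).map _).map _ = _
        rw [Subgroup.map_map]
        rfl
      · obtain ⟨⟨x, y⟩, hq, hqe⟩ := hSB' b hb
        have h1 : x = 1 := congrArg Prod.snd hqe
        have h2 : y = b := congrArg Prod.fst hqe
        subst h1 h2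
        exact hq
    obtain ⟨SB, hSB, hSB'⟩ := hB'
    have hnA : ∀ c ∈ normalizer ((Q : Subgroup (A × B)) : Set (A × B)),
        c.1 ∈ normalizer ((SA : Subgroup A) : Set A) := by
      have h0 : ∀ c ∈ normalizer ((Q : Subgroup (A × B)) : Set (A × B)),
          ∀ z ∈ (SA : Subgroup A), c.1 * z * c.1⁻¹ ∈ (SA : Subgroup A) := by
        intro c hc z hz
        have h1 := (mem_normalizer_iff.1 hc _).1 (hSA' z hz)
        rw [hSA]
        exact ⟨_, h1, rfl⟩
      intro c hc
      rw [mem_normalizer_iff]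
      intro z
      refine ⟨h0 c hc z, fun h => ?_⟩
      have h1 := h0 c⁻¹ (inv_mem hc) _ h
      have h2 : (c⁻¹).1 * (c.1 * z * c.1⁻¹) * (c⁻¹).1⁻¹ = z := by
        rw [Prod.fst_inv]; group
      rwa [h2] at h1
    have hnB : ∀ c ∈ normalizer ((Q : Subgroup (A × B)) : Set (A × B)),
        c.2 ∈ normalizer ((SB : Subgroup B) : Set B) := by
      have h0 : ∀ c ∈ normalizer ((Q : Subgroup (A × B)) : Set (A × B)),
          ∀ z ∈ (SB : Subgroup B), c.2 * z * c.2⁻¹ ∈ (SB : Subgroup B) := by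
        intro c hc z hz
        have h1 := (mem_normalizer_iff.1 hc _).1 (hSB' z hz)
        rw [hSB]
        exact ⟨_, h1, rfl⟩
      intro c hc
      rw [mem_normalizer_iff]
      intro z
      refine ⟨h0 c hc z, fun h => ?_⟩
      have h1 := h0 c⁻¹ (inv_mem hc) _ h
      have h2 : (c⁻¹).2 * (c.2 * z * c.2⁻¹) * (c⁻¹).2⁻¹ = z := by
        rw [Prod.snd_inv]; group
      rwa [h2] at h1
    have h1 := hSA' _ (hA.comm SA _ (hnA a ha) _ (hnA b hb))
    have h2 := hSB' _ (hB.comm SB _ (hnB a ha) _ (hnB b hb))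
    have h3 := mul_mem h1 h2
    have h4 : ((a.1 * b.1 * a.1⁻¹ * b.1⁻¹, (1 : B)) : A × B) *
        ((1 : A), a.2 * b.2 * a.2⁻¹ * b.2⁻¹) = a * b * a⁻¹ * b⁻¹ := by
      ext <;> simp
    rwa [h4] at h3

end Prod

theorem PN.of_equiv {G : Type u} {G' : Type v} [Group G] [Group G'] [Finite G]
    (e : G ≃* G') (h : PN G) : PN G' :=
  PN.of_surjective e.toMonoidHom e.surjective h

theorem PN.of_subsingleton {G : Type u} [Group G] [Subsingleton G] : PN G := by
  refine ⟨fun H _ g => ⟨1, one_mem _, ?_⟩, fun S a _ b _ => ?_⟩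
  · rw [Subsingleton.elim g 1]
  · rw [Subsingleton.elim (a * b * a⁻¹ * b⁻¹) 1]; exact one_mem _

theorem PN.pi : ∀ {t : ℕ} (G : Fin t → Type u) [∀ i, Group (G i)] [∀ i, Finite (G i)]
    (_ : ∀ i, PN (G i)), PN (Π i, G i) := by
  intro t
  induction t with
  | zero =>
    intro G _ _ _
    have : Subsingleton (Π i, G i) := by
      refine ⟨fun a b => ?_⟩
      funext i
      exact i.elim0
    exact PN.of_subsingleton
  | succ t ih =>
    intro G _ _ h
    have h1 : PN (Π i : Fin t, G i.succ) := ih (fun i => G i.succ) (fun i => h i.succ)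
    have h2 : PN (G 0 × Π i : Fin t, G i.succ) := PN.prod (h 0) h1
    let e : (G 0 × Π i : Fin t, G i.succ) ≃* Π i, G i :=
      { toFun := fun p => Fin.cons p.1 p.2
        invFun := fun f => (f 0, fun i => f i.succ)
        left_inv := fun p => by simp
        right_inv := fun f => by
          funext i
          refine Fin.cases ?_ (fun j => ?_) i <;> simp
        map_mul' := fun p q => by
          funext i
          refine Fin.cases ?_ (fun j => ?_) i <;> simp }
    exact PN.of_equiv e h2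

end Cfsg.Agent.H158.PronProd
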