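import Cfsg.Agent.H166.Cov.Defs
set_option linter.all false

-- part: H158/Pencil
section
/-!
# S2483, task A: a pencil without common invariant parts

We count the observable pairs `(φ, T)` by the injection `(g, c) ↦ (e₀ ∘ g, g⁻¹ C_c g)`, where `C_c`
is the companion operator.
-/

set_option autoImplicit false

namespace Cfsg.Agent.H158.Pencil

open Module Polynomial Cfsg.Agent.H166.Cov

universe u

variable {F : Type u} [Field F] {V W U : Type u} [AddCommGroup V] [Module F V]
  [AddCommGroup W] [Module F W] [AddCommGroup U] [Module F U]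

/-- companion operator -/
def cmp {k : ℕ} (c : Fin (k + 1) → F) : (Fin (k + 1) → F) →ₗ[F] (Fin (k + 1) → F) :=
  LinearMap.pi fun i => if h : (i : ℕ) < k then LinearMap.proj ⟨i + 1, by omega⟩
    else ∑ j, c j • LinearMap.proj j

theorem cmp_lt {k : ℕ} (c x : Fin (k + 1) → F) (i : ℕ) (h : i < k) :
    cmp c x ⟨i, by omega⟩ = x ⟨i + 1, by omega⟩ := by
  simp [cmp, h]

theorem cmp_last {k : ℕ} (c x : Fin (k + 1) → F) :
    cmp c x ⟨k, by omega⟩ = ∑ j, c j * x j := by
  simp [cmp]

theorem obs_cmp {k : ℕ} (c : Fin (k + 1) → F) (S : Submodule F (Fin (k + 1) → F))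
    (h0 : ∀ x ∈ S, x ⟨0, by omega⟩ = 0) (hS : ∀ x ∈ S, cmp c x ∈ S) : S = ⊥ := by
  have key : ∀ i : ℕ, ∀ hi : i < k + 1, ∀ x ∈ S, x ⟨i, hi⟩ = 0 := by
    intro i
    induction i with
    | zero => intro hi x hx; exact h0 x hx
    | succ i ih =>
      intro hi x hx
      rw [← cmp_lt c x i (by omega)]
      exact ih (by omega) _ (hS x hx)
  rw [eq_bot_iff]
  intro x hx
  rw [Submodule.mem_bot]
  funext i
  exact key i i.2 x hx

/-- numerical inequality -/
theorem prod_ineq {q m : ℕ} (hq : 4 ≤ q) :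
    q ^ (m * m) < 2 * ∏ i : Fin m, (q ^ m - q ^ (i : ℕ)) := by
  have key : ∀ k ≤ m, ((q : ℝ) ^ m) ^ k * ((q - 1) * (q : ℝ) ^ m - (q ^ k - 1)) ≤
      (q : ℝ) ^ m * (q - 1) * ∏ i ∈ Finset.range k, ((q : ℝ) ^ m - q ^ i) := by
    intro k
    induction k with
    | zero =>
      intro _
      simp
      ring_nf
      exact le_refl _
    | succ k ih =>
      intro hk
      have h1 := ih (by omega)
      rw [Finset.prod_range_succ]
      have hq1 : (1 : ℝ) ≤ q := by
        have : (4 : ℝ) ≤ q := by exact_mod_cast hq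
        linarith
      have h2 : (0 : ℝ) ≤ (q : ℝ) ^ m - q ^ k := by
        rw [sub_nonneg]
        exact pow_le_pow_right₀ hq1 (by omega)
      have h3 := mul_le_mul_of_nonneg_right h1 h2
      have h4 : (1 : ℝ) ≤ (q : ℝ) ^ k := one_le_pow₀ hq1
      have h5 : (0 : ℝ) ≤ ((q : ℝ) ^ m) ^ k := by positivity
      have h6 : 0 ≤ ((q : ℝ) ^ m) ^ k * (((q : ℝ) ^ k - 1) * q ^ k) := by
        apply mul_nonneg h5
        apply mul_nonneg (by linarith) (by linarith)
      calc ((q : ℝ) ^ m) ^ (k + 1) * ((q - 1) * (q : ℝ) ^ m - (q ^ (k + 1) - 1))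
          ≤ ((q : ℝ) ^ m) ^ k * ((q - 1) * (q : ℝ) ^ m - (q ^ k - 1)) * ((q : ℝ) ^ m - q ^ k) := by
            have e : ((q : ℝ) ^ m) ^ k * ((q - 1) * (q : ℝ) ^ m - (q ^ k - 1)) *
                ((q : ℝ) ^ m - q ^ k) = ((q : ℝ) ^ m) ^ (k + 1) *
                ((q - 1) * (q : ℝ) ^ m - (q ^ (k + 1) - 1)) +
                ((q : ℝ) ^ m) ^ k * (((q : ℝ) ^ k - 1) * q ^ k) := by
              ring
            rw [e]
            linarith
        _ ≤ _ := h3
        _ = _ := by ring
  have h := key m le_rfl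
  have hq1 : (4 : ℝ) ≤ q := by exact_mod_cast hq
  have hQ : (0 : ℝ) < (q : ℝ) ^ m := by positivity
  have hQm : (0 : ℝ) < ((q : ℝ) ^ m) ^ m := by positivity
  set r : ℝ := ∏ i ∈ Finset.range m, ((q : ℝ) ^ m - q ^ i) with hr
  have h7 : ((q : ℝ) ^ m) ^ m * ((q - 2) * (q : ℝ) ^ m) < (q : ℝ) ^ m * (q - 1) * r := by
    refine lt_of_lt_of_le ?_ h
    apply mul_lt_mul_of_pos_left _ hQm
    linarith
  have h8 : ((q : ℝ) ^ m) ^ m * (q - 2) < (q - 1) * r := by
    have : (q : ℝ) ^ m * (((q : ℝ) ^ m) ^ m * (q - 2)) < (q : ℝ) ^ m * ((q - 1) * r) := by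
      calc _ = ((q : ℝ) ^ m) ^ m * ((q - 2) * (q : ℝ) ^ m) := by ring
        _ < _ := h7
        _ = _ := by ring
    exact lt_of_mul_lt_mul_left this hQ.le
  have h9 : ((q : ℝ) ^ m) ^ m < 2 * r := by
    by_contra hcon
    rw [not_lt] at hcon
    have : (q - 1) * (2 * r) ≤ (q - 1) * ((q : ℝ) ^ m) ^ m :=
      mul_le_mul_of_nonneg_left hcon (by linarith)
    nlinarith
  have h10 : ((∏ i : Fin m, (q ^ m - q ^ (i : ℕ)) : ℕ) : ℝ) = r := by
    rw [Nat.cast_prod, hr, Finset.prod_range]
    refine Finset.prod_congr rfl fun i _ => ?_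
    rw [Nat.cast_sub (Nat.pow_le_pow_right (by omega) i.2.le)]
    push_cast
    rfl
  have h11 : ((q ^ (m * m) : ℕ) : ℝ) = ((q : ℝ) ^ m) ^ m := by
    push_cast
    rw [pow_mul]
  have : ((q ^ (m * m) : ℕ) : ℝ) < ((2 * ∏ i : Fin m, (q ^ m - q ^ (i : ℕ)) : ℕ) : ℝ) := by
    rw [Nat.cast_mul, h10, h11]
    exact_mod_cast h9
  exact_mod_cast this

/-- the good maps -/
def Good (a : W →ₗ[F] U) : Set (W →ₗ[F] U) :=
  {D | ∀ S : Submodule F W, (∀ x ∈ S, ∃ y ∈ S, D x = a y) → S = ⊥}

/-- the coordinates `M *ᵥ e x` as an equivalence -/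
noncomputable def crd {k : ℕ} (e : W ≃ₗ[F] (Fin (k + 1) → F)) (M : GL (Fin (k + 1)) F) :
    W ≃ₗ[F] (Fin (k + 1) → F) :=
  e.trans (LinearMap.GeneralLinearGroup.generalLinearEquiv F _
    (Matrix.GeneralLinearGroup.toLin M))

theorem crd_inj {k : ℕ} (e : W ≃ₗ[F] (Fin (k + 1) → F)) : Function.Injective (crd e) := by
  intro M N h
  have h1 : ∀ x, crd e M x = crd e N x := fun x => by rw [h]
  apply Matrix.GeneralLinearGroup.toLin.injective
  apply (LinearMap.GeneralLinearGroup.generalLinearEquiv F _).injective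
  ext1 x
  obtain ⟨y, rfl⟩ := e.surjective x
  exact h1 y

/-- the map built from coordinates `g` and coefficients `c` -/
noncomputable def mk {k : ℕ} (a : W →ₗ[F] U) (u : U) (g : W ≃ₗ[F] (Fin (k + 1) → F))
    (c : Fin (k + 1) → F) : W →ₗ[F] U :=
  a ∘ₗ (g.symm : (Fin (k + 1) → F) →ₗ[F] W) ∘ₗ cmp c ∘ₗ (g : W →ₗ[F] (Fin (k + 1) → F)) +
    ((LinearMap.proj ⟨0, by omega⟩ : (Fin (k + 1) → F) →ₗ[F] F) ∘ₗ
      (g : W →ₗ[F] (Fin (k + 1) → F))).smulRight u

theorem mk_apply {k : ℕ} (a : W →ₗ[F] U) (u : U) (g : W ≃ₗ[F] (Fin (k + 1) → F))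
    (c : Fin (k + 1) → F) (x : W) :
    mk a u g c x = a (g.symm (cmp c (g x))) + (g x) ⟨0, by omega⟩ • u := rfl

theorem decomp {a : W →ₗ[F] U} (ha : Function.Injective a) {u : U}
    (hu : u ∉ LinearMap.range a) {w w' : W} {r r' : F} (h : a w + r • u = a w' + r' • u) :
    w = w' ∧ r = r' := by
  have hr : r = r' := by
    by_contra hne
    apply hu
    have h1 : (r - r') • u = a (w' - w) := by
      rw [sub_smul, map_sub, sub_eq_sub_iff_add_eq_add, add_comm, h, add_comm]
    have h2 : r - r' ≠ 0 := sub_ne_zero.2 hne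
    refine ⟨(r - r')⁻¹ • (w' - w), ?_⟩
    rw [map_smul, ← h1, smul_smul, inv_mul_cancel₀ h2, one_smul]
  subst hr
  exact ⟨ha (add_right_cancel h), rfl⟩

theorem mk_good {k : ℕ} {a : W →ₗ[F] U} (ha : Function.Injective a) {u : U}
    (hu : u ∉ LinearMap.range a) (g : W ≃ₗ[F] (Fin (k + 1) → F)) (c : Fin (k + 1) → F) :
    mk a u g c ∈ Good a := by
  intro S hS
  have h1 : ∀ x ∈ S, (g x) ⟨0, by omega⟩ = 0 ∧ g.symm (cmp c (g x)) ∈ S := by
    intro x hx
    obtain ⟨y, hy, h⟩ := hS x hx
    rw [mk_apply] at h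
    have h2 : a (g.symm (cmp c (g x))) + (g x) ⟨0, by omega⟩ • u = a y + (0 : F) • u := by
      rw [h, zero_smul, add_zero]
    obtain ⟨h3, h4⟩ := decomp ha hu h2
    exact ⟨h4, h3 ▸ hy⟩
  have h2 : S.map (g : W →ₗ[F] (Fin (k + 1) → F)) = ⊥ := by
    apply obs_cmp c
    · rintro _ ⟨x, hx, rfl⟩
      exact (h1 x hx).1
    · rintro _ ⟨x, hx, rfl⟩
      refine ⟨_, (h1 x hx).2, ?_⟩
      simp
  exact Submodule.map_eq_bot_iff.1 h2

theorem mk_inj {k : ℕ} {a : W →ₗ[F] U} (ha : Function.Injective a) {u : U}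
    (hu : u ∉ LinearMap.range a) {g g' : W ≃ₗ[F] (Fin (k + 1) → F)} {c c' : Fin (k + 1) → F}
    (h : mk a u g c = mk a u g' c') : g = g' ∧ c = c' := by
  have h1 : ∀ x, g.symm (cmp c (g x)) = g'.symm (cmp c' (g' x)) ∧
      (g x) ⟨0, by omega⟩ = (g' x) ⟨0, by omega⟩ := by
    intro x
    apply decomp ha hu
    rw [← mk_apply, ← mk_apply, h]
  have h2 : ∀ i : ℕ, ∀ hi : i < k + 1, ∀ x, (g x) ⟨i, hi⟩ = (g' x) ⟨i, hi⟩ := by
    intro i
    induction i with
    | zero => intro hi x; exact (h1 x).2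
    | succ i ih =>
      intro hi x
      have h3 := ih (by omega) (g.symm (cmp c (g x)))
      rw [LinearEquiv.apply_symm_apply, cmp_lt c (g x) i (by omega), (h1 x).1,
        LinearEquiv.apply_symm_apply, cmp_lt c' (g' x) i (by omega)] at h3
      exact h3
  have hg : g = g' := by
    ext x i
    exact h2 i i.2 x
  refine ⟨hg, ?_⟩
  subst hg
  have h4 : ∀ y, cmp c y = cmp c' y := by
    intro y
    obtain ⟨x, rfl⟩ := g.surjective y
    exact g.symm.injective (h1 x).1
  funext j
  have h5 := congrFun (h4 (Pi.single j 1)) ⟨k, by omega⟩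
  rw [cmp_last, cmp_last] at h5
  simpa [Pi.single_apply] using h5

theorem card_good [Finite F] (hq : 4 ≤ Nat.card F) [FiniteDimensional F W]
    [FiniteDimensional F U] {k : ℕ} (hW : finrank F W = k + 1)
    (hd : finrank F U = finrank F W + 1) (a : W →ₗ[F] U) (ha : Function.Injective a) :
    Nat.card (W →ₗ[F] U) < 2 * Nat.card (Good a) := by
  classical
  have : Fintype F := Fintype.ofFinite F
  have : Finite W := Module.finite_of_finite F
  have : Finite U := Module.finite_of_finite F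
  have : Finite (W →ₗ[F] U) := Finite.of_injective (fun f => (f : W → U)) DFunLike.coe_injective
  obtain ⟨u, hu⟩ : ∃ u, u ∉ LinearMap.range a := by
    by_contra hcon
    push Not at hcon
    have h1 : LinearMap.range a = ⊤ := by
      rw [eq_top_iff]; intro x _; exact hcon x
    have h2 := LinearMap.finrank_range_of_inj ha
    rw [h1, finrank_top] at h2
    omega
  let e : W ≃ₗ[F] (Fin (k + 1) → F) := LinearEquiv.ofFinrankEq _ _ (by rw [hW]; simp)
  let Φ : GL (Fin (k + 1)) F × (Fin (k + 1) → F) → Good a := fun p =>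
    ⟨mk a u (crd e p.1) p.2, mk_good ha hu _ _⟩
  have hΦ : Function.Injective Φ := by
    rintro ⟨M, c⟩ ⟨N, d⟩ h
    have h1 := congrArg Subtype.val h
    obtain ⟨h2, h3⟩ := mk_inj ha hu h1
    exact Prod.ext (crd_inj e h2) h3
  have h1 : Nat.card (GL (Fin (k + 1)) F × (Fin (k + 1) → F)) ≤ Nat.card (Good a) :=
    Nat.card_le_card_of_injective Φ hΦ
  rw [Nat.card_prod, Matrix.card_GL_field, Nat.card_fun, Nat.card_eq_fintype_card (α := Fin (k+1)),
    Fintype.card_fin, ← Nat.card_eq_fintype_card (α := F)] at h1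
  have h2 : Nat.card (W →ₗ[F] U) = Nat.card F ^ ((k + 1) * (k + 2)) := by
    rw [Module.natCard_eq_pow_finrank (K := F), finrank_linearMap, hd, hW]
  have h3 := prod_ineq (m := k + 1) hq
  rw [h2]
  have h4 : Nat.card F ^ ((k + 1) * (k + 2)) =
      Nat.card F ^ ((k + 1) * (k + 1)) * Nat.card F ^ (k + 1) := by
    rw [← pow_add]; ring_nf
  rw [h4]
  have hpos : 0 < Nat.card F ^ (k + 1) := by
    apply pow_pos; omega
  calc _ < (2 * ∏ i : Fin (k + 1), (Nat.card F ^ (k + 1) - Nat.card F ^ (i : ℕ))) *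
        Nat.card F ^ (k + 1) := (Nat.mul_lt_mul_right hpos).2 h3
    _ = 2 * ((∏ i : Fin (k + 1), (Nat.card F ^ (k + 1) - Nat.card F ^ (i : ℕ))) *
        Nat.card F ^ (k + 1)) := by ring
    _ ≤ _ := Nat.mul_le_mul_left _ h1

theorem exists_pencil [Finite F] (hq : 4 ≤ Nat.card F) [FiniteDimensional F W]
    [FiniteDimensional F U] (hd : finrank F U = finrank F W + 1) (a b : W →ₗ[F] U)
    (ha : Function.Injective a) (hb : Function.Injective b) :
    ∃ D : W →ₗ[F] U, (∀ S : Submodule F W, (∀ x ∈ S, ∃ y ∈ S, D x = a y) → S = ⊥) ∧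
      (∀ S : Submodule F W, (∀ x ∈ S, ∃ y ∈ S, D x = b y) → S = ⊥) := by
  classical
  have : Finite W := Module.finite_of_finite F
  have : Finite U := Module.finite_of_finite F
  have : Finite (W →ₗ[F] U) := Finite.of_injective (fun f => (f : W → U)) DFunLike.coe_injective
  rcases Nat.eq_zero_or_pos (finrank F W) with h0 | h0
  · have h1 : ∀ x : W, x = 0 := by
      have := finrank_zero_iff.1 h0
      exact fun x => Subsingleton.elim _ _
    refine ⟨0, fun S _ => ?_, fun S _ => ?_⟩ <;>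
    · rw [eq_bot_iff]; intro x _; rw [Submodule.mem_bot]; exact h1 x
  · obtain ⟨k, hk⟩ := Nat.exists_eq_succ_of_ne_zero h0.ne'
    have h1 := card_good hq hk hd a ha
    have h2 := card_good hq hk hd b hb
    by_contra hcon
    have hdis : Disjoint (Good a) (Good b) := by
      rw [Set.disjoint_left]
      intro D hDa hDb
      exact hcon ⟨D, hDa, hDb⟩
    have h3 : (Good a ∪ Good b).ncard = (Good a).ncard + (Good b).ncard :=
      Set.ncard_union_eq hdis (Set.toFinite _) (Set.toFinite _)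
    have h4 : (Good a ∪ Good b).ncard ≤ Nat.card (W →ₗ[F] U) := by
      rw [← Set.ncard_univ]
      exact Set.ncard_le_ncard (Set.subset_univ _) (Set.toFinite _)
    have h5 := Nat.card_coe_set_eq (Good a)
    have h6 := Nat.card_coe_set_eq (Good b)
    omega

end Cfsg.Agent.H158.Pencil
end

-- part: H216/Cov/Pole
section
/-!
# Pole placement (task B of `tools/plans/S2483.md`, helper216)

`exists_charpoly_add` : if `φ` is observable for `T` and `f` is monic of degree `dim V` then `f` is the characteristic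
polynomial of `T + φ ⊗ b` for some vector `b`.

Proof: in a basis whose first coordinate is `φ` the characteristic polynomial of `T + φ ⊗ b` is `χ - w 0`, where
`w = cramer (X - T) b` satisfies `(X - T) w = χ b`; comparing coefficients, `b ↦ w 0` is an injective linear map from `V`
to the polynomials of degree less than `dim V`.
-/

set_option autoImplicit false

namespace Cfsg.Agent.H216.Pole

open Module Polynomial Cfsg.Agent.H166.Cov

universe u

variable {F : Type u} [Field F] {V W U : Type u} [AddCommGroup V] [Module F V]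
  [AddCommGroup W] [Module F W] [AddCommGroup U] [Module F U]

section mat

variable {n : ℕ} (M : Matrix (Fin (n + 1)) (Fin (n + 1)) F) (r : Fin (n + 1) → F)

/-- the vector of polynomials `adj (X - M) r` -/
noncomputable def w : Fin (n + 1) → F[X] := Matrix.cramer M.charmatrix fun i => C (r i)

/-- its coefficients -/
noncomputable def wc (k : ℕ) : Fin (n + 1) → F := fun i => (w M r i).coeff k

theorem charmatrix_w (i : Fin (n + 1)) : X * w M r i - ∑ j, C (M i j) * w M r j = M.charpoly * C (r i) := by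
  have h := congrFun (Matrix.mulVec_cramer M.charmatrix fun i => C (r i)) i
  rw [Pi.smul_apply, smul_eq_mul] at h
  rw [Matrix.charpoly, ← h, Matrix.mulVec, dotProduct]
  have h1 : ∀ j, M.charmatrix i j * Matrix.cramer M.charmatrix (fun i => C (r i)) j =
      (if i = j then X * w M r j else 0) - C (M i j) * w M r j := by
    intro j
    rw [Matrix.charmatrix_apply, sub_mul, Matrix.diagonal_apply]
    split_ifs <;> simp [w]
  rw [Finset.sum_congr rfl fun j _ => h1 j, Finset.sum_sub_distrib, Finset.sum_ite_eq, if_pos (Finset.mem_univ _)]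

theorem wc_succ (k : ℕ) : wc M r k = M.mulVec (wc M r (k + 1)) + M.charpoly.coeff (k + 1) • r := by
  funext i
  have h := congrArg (fun p : F[X] => p.coeff (k + 1)) (charmatrix_w M r i)
  simp only [coeff_sub, coeff_X_mul, finsetSum_coeff, coeff_C_mul, coeff_mul_C] at h
  rw [sub_eq_iff_eq_add] at h
  show (w M r i).coeff k = _
  rw [h, Pi.add_apply, Pi.smul_apply, smul_eq_mul, add_comm]
  rfl

theorem wc_zero : M.mulVec (wc M r 0) = -(M.charpoly.coeff 0 • r) := by
  funext i
  have h := congrArg (fun p : F[X] => p.coeff 0) (charmatrix_w M r i)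
  simp only [coeff_sub, coeff_X_mul_zero, finsetSum_coeff, coeff_C_mul, coeff_mul_C, zero_sub] at h
  rw [Pi.neg_apply, Pi.smul_apply, smul_eq_mul, ← h, neg_neg]
  rfl

theorem wc_eq_zero {k : ℕ} (hk : n + 1 ≤ k) : wc M r k = 0 := by
  have hdeg : M.charpoly.natDegree = n + 1 := by rw [Matrix.charpoly_natDegree_eq_dim, Fintype.card_fin]
  obtain ⟨K, hK⟩ : ∃ K, ∀ j, K ≤ j → wc M r j = 0 := by
    refine ⟨(Finset.univ.sup fun i => (w M r i).natDegree) + 1, fun j hj => ?_⟩
    funext i
    refine coeff_eq_zero_of_natDegree_lt ?_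
    have h1 : (w M r i).natDegree ≤ Finset.univ.sup fun i => (w M r i).natDegree :=
      Finset.le_sup (f := fun i => (w M r i).natDegree) (Finset.mem_univ i)
    omega
  have key : ∀ d k, n + 1 ≤ k → K ≤ k + d → wc M r k = 0 := by
    intro d
    induction d with
    | zero => intro k _ h; exact hK k h
    | succ d ih =>
      intro k h1 h2
      rw [wc_succ, ih (k + 1) (by omega) (by omega), Matrix.mulVec_zero,
        coeff_eq_zero_of_natDegree_lt (by omega), zero_smul, add_zero]
  exact key K k hk (by omega)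

theorem wc_last : wc M r n = r := by
  have hdeg : M.charpoly.natDegree = n + 1 := by rw [Matrix.charpoly_natDegree_eq_dim, Fintype.card_fin]
  have h1 : M.charpoly.coeff (n + 1) = 1 := by
    have h2 := M.charpoly_monic
    rwa [Monic, leadingCoeff, hdeg] at h2
  rw [wc_succ, wc_eq_zero M r le_rfl, Matrix.mulVec_zero, h1, one_smul, zero_add]

/-- adding a multiple of the first coordinate -/
theorem charpoly_updateCol : (M.updateCol 0 (fun i => M i 0 + r i)).charpoly = M.charpoly - w M r 0 := by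
  have h1 : (M.updateCol 0 (fun i => M i 0 + r i)).charmatrix =
      M.charmatrix.updateCol 0 ((fun i => M.charmatrix i 0) + -(fun i => C (r i))) := by
    ext1 i j
    by_cases hj : j = 0
    · subst hj
      simp only [Matrix.charmatrix_apply, Matrix.updateCol_self, Pi.add_apply, Pi.neg_apply, map_add]
      ring
    · rw [Matrix.updateCol_ne hj, Matrix.charmatrix_apply, Matrix.charmatrix_apply, Matrix.updateCol_ne hj]
  have h2 : M.charmatrix.updateCol 0 (fun i => M.charmatrix i 0) = M.charmatrix := Matrix.updateCol_eq_self _ _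
  rw [Matrix.charpoly, h1, Matrix.det_updateCol_add, h2, ← Matrix.cramer_apply, map_neg,
    Pi.neg_apply, ← sub_eq_add_neg]
  rfl

end mat

theorem w_add (n : ℕ) (M : Matrix (Fin (n + 1)) (Fin (n + 1)) F) (r r' : Fin (n + 1) → F) :
    w M (r + r') = w M r + w M r' := by
  have h1 : (fun i => C ((r + r') i)) = (fun i => C (r i)) + fun i => (C (r' i) : F[X]) := by
    funext i
    rw [Pi.add_apply, map_add]
    rfl
  rw [w, h1, map_add]
  rfl

theorem w_smul (n : ℕ) (M : Matrix (Fin (n + 1)) (Fin (n + 1)) F) (c : F) (r : Fin (n + 1) → F) :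
    w M (c • r) = (C c : F[X]) • w M r := by
  have h1 : (fun i => C ((c • r) i)) = (C c : F[X]) • fun i => (C (r i) : F[X]) := by
    funext i
    rw [Pi.smul_apply, smul_eq_mul, map_mul]
    rfl
  rw [w, h1, map_smul]
  rfl

/-- the polynomial `w 0` has degree at most `n` -/
theorem w_mem (n : ℕ) (M : Matrix (Fin (n + 1)) (Fin (n + 1)) F) (r : Fin (n + 1) → F) :
    w M r 0 ∈ degreeLT F (n + 1) := by
  rw [mem_degreeLT, degree_lt_iff_coeff_zero]
  intro k hk
  exact congrFun (wc_eq_zero M r hk) 0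

/-- a basis whose first coordinate is `φ` -/
theorem exists_basis [FiniteDimensional F V] {n : ℕ} (hn : finrank F V = n + 1) {φ : V →ₗ[F] F} (hφ : φ ≠ 0) :
    ∃ B : Basis (Fin (n + 1)) F V, ∀ x, φ x = B.equivFun x 0 := by
  obtain ⟨v, hv⟩ : ∃ v, φ v ≠ 0 := by
    by_contra hcon
    push Not at hcon
    exact hφ (LinearMap.ext hcon)
  have hsurj : Function.Surjective φ := fun c => ⟨(c / φ v) • v, by
    rw [map_smul, smul_eq_mul, div_mul_cancel₀ _ hv]⟩
  have hk : finrank F (LinearMap.ker φ) = n := by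
    have h1 := LinearMap.finrank_range_add_finrank_ker φ
    rw [LinearMap.range_eq_top.2 hsurj, finrank_top, finrank_self, hn] at h1
    omega
  let b' : Basis (Fin n) F (LinearMap.ker φ) := finBasisOfFinrankEq F _ hk
  obtain ⟨v, hv⟩ := hsurj 1
  let B : Basis (Fin (n + 1)) F V := Basis.mkFinCons v b' (fun c x hx h => by
      have h1 := congrArg φ h
      rw [map_add, map_smul, hv, LinearMap.mem_ker.1 hx, map_zero, smul_eq_mul, mul_one, add_zero] at h1
      exact h1) (fun z => ⟨-φ z, by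
      rw [LinearMap.mem_ker, map_add, map_smul, hv, smul_eq_mul, mul_one, add_neg_cancel]⟩)
  have hB : (B : Fin (n + 1) → V) = Fin.cons v (((↑) : LinearMap.ker φ → V) ∘ b') := Basis.coe_mkFinCons _ _ _ _
  refine ⟨B, fun x => ?_⟩
  have h1 : φ = B.coord 0 := by
    refine B.ext fun i => ?_
    rw [Basis.coord_apply, Basis.repr_self]
    refine Fin.cases ?_ (fun j => ?_) i
    · rw [Finsupp.single_eq_same, hB, Fin.cons_zero, hv]
    · rw [Finsupp.single_eq_of_ne (Fin.succ_ne_zero j).symm, hB, Fin.cons_succ]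
      exact LinearMap.mem_ker.1 (b' j).2
  rw [h1, Basis.coord_apply]
  rfl

theorem exists_charpoly_add [FiniteDimensional F V] {φ : V →ₗ[F] F} {T : End F V} (h : Obs φ T) {f : F[X]}
    (hf : f.Monic) (hd : f.natDegree = finrank F V) : ∃ b : V, LinearMap.charpoly (T + φ.smulRight b) = f := by
  rcases Nat.eq_zero_or_eq_succ_pred (finrank F V) with h0 | h0
  · refine ⟨0, ?_⟩
    have h1 : (LinearMap.charpoly (T + φ.smulRight 0)).natDegree = 0 := by rw [LinearMap.charpoly_natDegree, h0]
    rw [(LinearMap.charpoly_monic _).natDegree_eq_zero.1 h1, hf.natDegree_eq_zero.1 (hd.trans h0)]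
  obtain ⟨n, hn⟩ : ∃ n, finrank F V = n + 1 := ⟨_, h0⟩
  have hφ : φ ≠ 0 := by
    rintro rfl
    have h1 := h ⊤ (fun x _ => rfl) (fun x _ => Submodule.mem_top)
    have h2 := finrank_top F V
    rw [h1, finrank_bot] at h2
    omega
  obtain ⟨B, hB⟩ := exists_basis hn hφ
  set M := LinearMap.toMatrix B B T with hM
  have hT : ∀ y : Fin (n + 1) → F, T (B.equivFun.symm y) = B.equivFun.symm (M.mulVec y) := by
    intro y
    apply B.equivFun.injective
    rw [LinearEquiv.apply_symm_apply]
    have h1 := LinearMap.toMatrix_mulVec_repr B B T (B.equivFun.symm y)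
    have h2 : (B.repr (B.equivFun.symm y) : Fin (n + 1) → F) = y := B.equivFun.apply_symm_apply y
    rw [h2] at h1
    exact h1.symm
  -- the linear map
  let L : V →ₗ[F] degreeLT F (n + 1) :=
    { toFun := fun b => ⟨w M (B.equivFun b) 0, w_mem n M _⟩
      map_add' := fun b b' => Subtype.ext (by
        show w M (B.equivFun (b + b')) 0 = w M (B.equivFun b) 0 + w M (B.equivFun b') 0
        rw [map_add, w_add]; rfl)
      map_smul' := fun c b => Subtype.ext (by
        show w M (B.equivFun (c • b)) 0 = c • w M (B.equivFun b) 0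
        rw [map_smul, w_smul, Pi.smul_apply, smul_eq_mul, ← smul_eq_C_mul]) }
  have hinj : Function.Injective L := by
    rw [← LinearMap.ker_eq_bot, LinearMap.ker_eq_bot']
    intro b hb
    have hb0 : w M (B.equivFun b) 0 = 0 := congrArg Subtype.val hb
    set r := B.equivFun b with hr
    let v : ℕ → V := fun k => B.equivFun.symm (wc M r k)
    have hvn : v n = b := by
      show B.equivFun.symm (wc M r n) = b
      rw [wc_last, hr, LinearEquiv.symm_apply_apply]
    have hmem : ∀ k, v k ∈ Submodule.span F (Set.range v) := fun k => Submodule.subset_span ⟨k, rfl⟩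
    have hbm : b ∈ Submodule.span F (Set.range v) := hvn ▸ hmem n
    have hS := h (Submodule.span F (Set.range v)) (fun x hx => by
        induction hx using Submodule.span_induction with
        | mem x hx =>
          obtain ⟨k, rfl⟩ := hx
          rw [hB]
          show B.equivFun (B.equivFun.symm (wc M r k)) 0 = 0
          rw [LinearEquiv.apply_symm_apply]
          show (w M r 0).coeff k = 0
          rw [hb0, coeff_zero]
        | zero => rw [map_zero]
        | add x y _ _ hx hy => rw [map_add, hx, hy, add_zero]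
        | smul c x _ hx => rw [map_smul, hx, smul_zero]) (fun x hx => by
        induction hx using Submodule.span_induction with
        | mem x hx =>
          obtain ⟨k, rfl⟩ := hx
          show T (B.equivFun.symm (wc M r k)) ∈ _
          rw [hT]
          cases k with
          | zero =>
            rw [wc_zero, map_neg, map_smul, hr, LinearEquiv.symm_apply_apply]
            exact Submodule.neg_mem _ (Submodule.smul_mem _ _ hbm)
          | succ k =>
            have h1 : M.mulVec (wc M r (k + 1)) = wc M r k - M.charpoly.coeff (k + 1) • r := by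
              rw [wc_succ M r k]; abel
            rw [h1, map_sub, map_smul, hr, LinearEquiv.symm_apply_apply]
            exact Submodule.sub_mem _ (hmem k) (Submodule.smul_mem _ _ hbm)
        | zero => rw [map_zero]; exact Submodule.zero_mem _
        | add x y _ _ hx hy => rw [map_add]; exact Submodule.add_mem _ hx hy
        | smul c x _ hx => rw [map_smul]; exact Submodule.smul_mem _ _ hx)
    rw [hS] at hbm
    exact (Submodule.mem_bot F).1 hbm
  have hfr : finrank F (degreeLT F (n + 1)) = n + 1 := by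
    rw [(degreeLTEquiv F (n + 1)).finrank_eq, finrank_fin_fun]
  have : FiniteDimensional F (degreeLT F (n + 1)) := FiniteDimensional.of_finrank_pos (by rw [hfr]; omega)
  have hsurj : Function.Surjective L :=
    (LinearMap.injective_iff_surjective_of_finrank_eq_finrank (by rw [hn, hfr])).1 hinj
  have hMd : M.charpoly.natDegree = n + 1 := by rw [Matrix.charpoly_natDegree_eq_dim, Fintype.card_fin]
  have hdf : (M.charpoly - f) ∈ degreeLT F (n + 1) := by
    rw [mem_degreeLT]
    have h1 : M.charpoly.degree = f.degree := by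
      rw [degree_eq_natDegree M.charpoly_monic.ne_zero, degree_eq_natDegree hf.ne_zero, hMd, hd, hn]
    have h2 := degree_sub_lt_left h1 M.charpoly_monic.ne_zero (by
      rw [M.charpoly_monic.leadingCoeff, hf.leadingCoeff])
    rwa [degree_eq_natDegree M.charpoly_monic.ne_zero, hMd] at h2
  obtain ⟨b, hb⟩ := hsurj ⟨_, hdf⟩
  refine ⟨b, ?_⟩
  have hb' : w M (B.equivFun b) 0 = M.charpoly - f := congrArg Subtype.val hb
  rw [← LinearMap.charpoly_toMatrix (T + φ.smulRight b) B]
  have h1 : LinearMap.toMatrix B B (T + φ.smulRight b) =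
      M.updateCol 0 (fun i => M i 0 + B.equivFun b i) := by
    ext1 i j
    have hMij : M i j = B.repr (T (B j)) i := by rw [hM, LinearMap.toMatrix_apply]
    rw [LinearMap.toMatrix_apply, LinearMap.add_apply, map_add, Finsupp.add_apply, LinearMap.smulRight_apply, map_smul,
      Finsupp.smul_apply, hB]
    have h2 : B.equivFun (B j) 0 = if j = 0 then 1 else 0 := by
      rw [Basis.equivFun_self]
    rw [h2]
    by_cases hj : j = 0
    · subst hj
      rw [Matrix.updateCol_self, if_pos rfl, one_smul, hMij]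
      rfl
    · rw [Matrix.updateCol_ne hj, if_neg hj, zero_smul, add_zero, hMij]
  rw [h1, charpoly_updateCol, hb', sub_sub_cancel]

end Cfsg.Agent.H216.Pole
end

-- part: H12/CovQ
section
/-!
# Regular unipotent elements in dimension three (task Q of the project S2483, helper166)
-/

set_option autoImplicit false

namespace Cfsg.Agent.H12.CovQ

open Module Polynomial Cfsg.Agent.H166.Cov Matrix

universe u

variable {F : Type u} [Field F] {V : Type u} [AddCommGroup V] [Module F V]

/-! ### general lemmas on `SimS` -/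

theorem simS_smul {S T : End F V} (h : SimS S T) (c : F) : SimS (c • S) (c • T) := by
  obtain ⟨e, he, h2⟩ := h
  refine ⟨e, he, fun x => ?_⟩
  simp [h2]

theorem simS_trans {S T U : End F V} (h : SimS S T) (h' : SimS T U) : SimS S U := by
  obtain ⟨e, he, h2⟩ := h
  obtain ⟨e', he', h2'⟩ := h'
  refine ⟨e.trans e', ?_, fun x => ?_⟩
  · rw [show ((e.trans e' : V ≃ₗ[F] V) : V →ₗ[F] V) = (e' : V →ₗ[F] V) * (e : V →ₗ[F] V) from rfl,
      map_mul, he, he', one_mul]
  · simp [h2, h2']

theorem hps_smul {T g : End F V} {k : ℕ} (h : HPS T k g) (c : F) : HPS (c • T) k (c ^ k • g) := by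
  obtain ⟨L, h1, h2, h3⟩ := h
  refine ⟨L.map fun A => c • A, by simp [h1], ?_, ?_⟩
  · intro A hA
    obtain ⟨B, hB, rfl⟩ := List.mem_map.1 hA
    exact simS_smul (h2 B hB) c
  · rw [← h3, ← h1]
    clear h1 h2 h3
    induction L with
    | nil => simp
    | cons A L ih =>
      rw [List.map_cons, List.prod_cons, ih, List.prod_cons, List.length_cons, pow_succ']
      rw [smul_mul_smul_comm]

theorem hps_of_sims {S T g : End F V} {k : ℕ} (h : HPS T k g) (h' : SimS S T) : HPS S k g := by
  obtain ⟨L, h1, h2, h3⟩ := h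
  exact ⟨L, h1, fun A hA => simS_trans h' (h2 A hA), h3⟩

theorem simS_of_matrix (b : Basis (Fin 3) F V) {M N P : Matrix (Fin 3) (Fin 3) F} (hP : P.det = 1)
    (h : P * M = N * P) : SimS (Matrix.toLin b b M) (Matrix.toLin b b N) := by
  have hu : IsUnit (LinearMap.toMatrix b b (Matrix.toLin b b P)).det := by
    rw [LinearMap.toMatrix_toLin, hP]; exact isUnit_one
  refine ⟨LinearEquiv.ofIsUnitDet hu, ?_, fun x => ?_⟩
  · rw [show ((LinearEquiv.ofIsUnitDet hu : V ≃ₗ[F] V) : V →ₗ[F] V) = Matrix.toLin b b P from by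
      ext x; simp, LinearMap.det_toLin, hP]
  · show Matrix.toLin b b P (Matrix.toLin b b M x) = Matrix.toLin b b N (Matrix.toLin b b P x)
    have h1 := congrArg (fun A => Matrix.toLin b b A x) h
    simpa only [Matrix.toLin_mul b b b, LinearMap.comp_apply] using h1

/-- change of basis with determinant one -/
theorem simS_toLin (b c : Basis (Fin 3) F V) (h : b.det c = 1) (M : Matrix (Fin 3) (Fin 3) F) :
    SimS (Matrix.toLin b b M) (Matrix.toLin c c M) := by
  refine ⟨b.equiv c (Equiv.refl _), ?_, fun x => ?_⟩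
  · have h1 := Basis.det_comp b ((b.equiv c (Equiv.refl _) : V ≃ₗ[F] V) : V →ₗ[F] V) b
    rw [Basis.det_self, mul_one] at h1
    rw [← h1, ← h]
    congr 1
    ext i
    simp
  · have h2 : ((b.equiv c (Equiv.refl _) : V ≃ₗ[F] V) : V →ₗ[F] V) ∘ₗ Matrix.toLin b b M
        = Matrix.toLin c c M ∘ₗ ((b.equiv c (Equiv.refl _) : V ≃ₗ[F] V) : V →ₗ[F] V) := by
      refine b.ext fun i => ?_
      simp [Matrix.toLin_self]
    exact LinearMap.congr_fun h2 x

/-! ### the matrix computation -/

/-- the regular unipotent lower triangular matrix -/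
def J : Matrix (Fin 3) (Fin 3) F := !![1, 0, 0; 1, 1, 0; 0, 1, 1]

theorem hps_matrix (B : Basis (Fin 3) F V) {a b c d e f : F} (hdet : a * e - d * b = 1) (hd : d ≠ 0)
    (ht : 3 * d + e + a ≠ 2) :
    HPS (Matrix.toLin B B (J : Matrix (Fin 3) (Fin 3) F)) 3
      (Matrix.toLin B B !![d, 0, a; e, 0, b; f, 1, c]) := by
  obtain ⟨t, ht'⟩ : ∃ t, t = 3 * d + e + a := ⟨_, rfl⟩
  have ht2 : t - 2 ≠ 0 := by
    intro h; apply ht; rw [← ht']; linear_combination h
  obtain ⟨p, hp⟩ : ∃ p : F, p * (d * (t - 2) ^ 2) = -1 := ⟨-1 / (d * (t - 2) ^ 2), by field_simp⟩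
  obtain ⟨r, hr⟩ : ∃ r : F, d * (p - r) = 1 := ⟨p - 1 / d, by field_simp; ring⟩
  obtain ⟨ρ, hρ⟩ : ∃ ρ : F, ρ = (f - 3 * d) * (3 * d + e) + (f - 3 * d) + (c - 3 * a) * d
    - t * (f - 3 * d) := ⟨_, rfl⟩
  obtain ⟨s, hs⟩ : ∃ s : F, s = ρ - r - (t - 2) * p := ⟨_, rfl⟩
  obtain ⟨Q, hQ⟩ : ∃ Q : Matrix (Fin 3) (Fin 3) F, Q = !![1, 0, 3 * d + e; 0, 1, f - 3 * d; 0, 0, d] :=
    ⟨_, rfl⟩
  obtain ⟨Qi, hQi⟩ : ∃ Qi : Matrix (Fin 3) (Fin 3) F,
    Qi = !![1, 0, -(3 * d + e) / d; 0, 1, -(f - 3 * d) / d; 0, 0, 1 / d] := ⟨_, rfl⟩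
  have hQQ : Q * Qi = 1 := by
    rw [hQ, hQi]
    ext i j
    fin_cases i <;> fin_cases j <;> simp [Matrix.mul_apply, Fin.sum_univ_three, hd] <;> field_simp <;>
      try ring1
  have hQQ' : Qi * Q = 1 := by
    rw [hQ, hQi]
    ext i j
    fin_cases i <;> fin_cases j <;> simp [Matrix.mul_apply, Fin.sum_univ_three, hd] <;> field_simp <;>
      try ring1
  obtain ⟨M2, hM2⟩ : ∃ M : Matrix (Fin 3) (Fin 3) F, M = !![0, 0, -1; p, 1, r; 1, 0, 2] := ⟨_, rfl⟩
  obtain ⟨M3, hM3⟩ : ∃ M : Matrix (Fin 3) (Fin 3) F, M = !![1, 0, t - 2; -p, 1, s; 0, 0, 1] := ⟨_, rfl⟩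
  obtain ⟨R2, hR2⟩ : ∃ M : Matrix (Fin 3) (Fin 3) F, M = !![1, -1, 0; 0, p, r - p; 0, 1, 0] := ⟨_, rfl⟩
  obtain ⟨R3, hR3⟩ : ∃ M : Matrix (Fin 3) (Fin 3) F, M = !![0, t - 2, 0; 0, s, -p * (t - 2); 1, 0, 0] :=
    ⟨_, rfl⟩
  obtain ⟨A1, hA1⟩ : ∃ M : Matrix (Fin 3) (Fin 3) F, M = !![0, 0, 1; 1, 0, -3; 0, 1, 3] := ⟨_, rfl⟩
  obtain ⟨P1, hP1⟩ : ∃ M : Matrix (Fin 3) (Fin 3) F, M = !![1, -1, 1; 0, 1, -2; 0, 0, 1] := ⟨_, rfl⟩
  obtain ⟨h, hh⟩ : ∃ M : Matrix (Fin 3) (Fin 3) F,
    M = !![3 * d + e, 0, 3 * a + b; f - 3 * d, 1, c - 3 * a; d, 0, a] := ⟨_, rfl⟩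
  have hdQ : Q.det = d := by rw [hQ, Matrix.det_fin_three]; simp
  have d1 : P1.det = 1 := by rw [hP1, Matrix.det_fin_three]; simp
  have d2 : (Q * R2).det = 1 := by
    rw [Matrix.det_mul, hdQ, hR2, Matrix.det_fin_three]; simp; linear_combination hr
  have d3 : (Q * R3).det = 1 := by
    rw [Matrix.det_mul, hdQ, hR3, Matrix.det_fin_three]; simp; linear_combination -hp
  have e1 : P1 * J = A1 * P1 := by
    rw [hP1, hA1, J]
    ext i j
    fin_cases i <;> fin_cases j <;> simp [Matrix.mul_apply, Fin.sum_univ_three] <;> ring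
  have e2 : R2 * J = M2 * R2 := by
    rw [hR2, hM2, J]
    ext i j
    fin_cases i <;> fin_cases j <;> simp [Matrix.mul_apply, Fin.sum_univ_three] <;> ring
  have e3 : R3 * J = M3 * R3 := by
    rw [hR3, hM3, J]
    ext i j
    fin_cases i <;> fin_cases j <;> simp [Matrix.mul_apply, Fin.sum_univ_three] <;> ring
  have e4 : Q * (M2 * M3) = h * Q := by
    rw [hQ, hM2, hM3, hh]
    ext i j
    fin_cases i <;> fin_cases j <;> simp [Matrix.mul_apply, Fin.sum_univ_three, hs, hρ, ht'] <;>
      first | ring1 | linear_combination hdet | linear_combination -hdet | skip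
  have e5 : A1 * h = !![d, 0, a; e, 0, b; f, 1, c] := by
    rw [hA1, hh]
    ext i j
    fin_cases i <;> fin_cases j <;> simp [Matrix.mul_apply, Fin.sum_univ_three] <;> ring
  have hprod : A1 * ((Q * M2 * Qi) * (Q * M3 * Qi)) = !![d, 0, a; e, 0, b; f, 1, c] := by
    rw [← e5]
    congr 1
    calc (Q * M2 * Qi) * (Q * M3 * Qi) = Q * M2 * (Qi * Q) * M3 * Qi := by noncomm_ring
      _ = Q * (M2 * M3) * Qi := by rw [hQQ']; noncomm_ring
      _ = h * (Q * Qi) := by rw [e4]; noncomm_ring
      _ = h := by rw [hQQ, mul_one]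
  refine ⟨[Matrix.toLin B B A1, Matrix.toLin B B (Q * M2 * Qi), Matrix.toLin B B (Q * M3 * Qi)], rfl, ?_, ?_⟩
  · intro A hA
    simp only [List.mem_cons, List.not_mem_nil, or_false] at hA
    rcases hA with rfl | rfl | rfl
    · exact simS_of_matrix B d1 e1
    · refine simS_of_matrix B d2 ?_
      calc Q * R2 * J = Q * (R2 * J) := by noncomm_ring
        _ = Q * M2 * 1 * R2 := by rw [e2]; noncomm_ring
        _ = Q * M2 * Qi * (Q * R2) := by rw [← hQQ']; noncomm_ring
    · refine simS_of_matrix B d3 ?_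
      calc Q * R3 * J = Q * (R3 * J) := by noncomm_ring
        _ = Q * M3 * 1 * R3 := by rw [e3]; noncomm_ring
        _ = Q * M3 * Qi * (Q * R3) := by rw [← hQQ']; noncomm_ring
  · rw [← hprod]
    simp only [List.prod_cons, List.prod_nil, mul_one]
    rw [show Matrix.toLin B B (A1 * ((Q * M2 * Qi) * (Q * M3 * Qi))) =
        Matrix.toLin B B A1 * Matrix.toLin B B ((Q * M2 * Qi) * (Q * M3 * Qi)) from
        Matrix.toLin_mul B B B _ _,
      show Matrix.toLin B B ((Q * M2 * Qi) * (Q * M3 * Qi)) =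
        Matrix.toLin B B (Q * M2 * Qi) * Matrix.toLin B B (Q * M3 * Qi) from
        Matrix.toLin_mul B B B _ _]

theorem hps_conj {T g g' : End F V} {k : ℕ} (h : HPS T k g) (h' : SimS g g') : HPS T k g' := by
  obtain ⟨L, h1, h2, h3⟩ := h
  obtain ⟨e, he, hg⟩ := h'
  refine ⟨L.map fun A => ((e : V →ₗ[F] V) * A * (e.symm : V →ₗ[F] V) : End F V), by simp [h1], ?_, ?_⟩
  · intro A hA
    obtain ⟨B, hB, rfl⟩ := List.mem_map.1 hA
    obtain ⟨f, hf, hf2⟩ := h2 B hB
    refine ⟨f.trans e, ?_, fun x => ?_⟩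
    · rw [show ((f.trans e : V ≃ₗ[F] V) : V →ₗ[F] V) = (e : V →ₗ[F] V) * (f : V →ₗ[F] V) from rfl,
        map_mul, he, hf, one_mul]
    · simp [hf2]
  · have key : (L.map fun A => ((e : V →ₗ[F] V) * A * (e.symm : V →ₗ[F] V) : End F V)).prod =
        (e : V →ₗ[F] V) * L.prod * (e.symm : V →ₗ[F] V) := by
      clear h1 h2 h3 hg he
      induction L with
      | nil => ext x; simp
      | cons A L ih =>
        rw [List.map_cons, List.prod_cons, ih, List.prod_cons]
        ext x
        simp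
    rw [key, h3]
    ext x
    simp [hg]

theorem hps_matrix' (B : Basis (Fin 3) F V) {a b c d e f : F} (hdet : a * e - d * b = 1) :
    HPS (Matrix.toLin B B (J : Matrix (Fin 3) (Fin 3) F)) 3
      (Matrix.toLin B B !![d, 0, a; e, 0, b; f, 1, c]) := by
  -- choose `β` with `d + β a ≠ 0`
  obtain ⟨β, hβ⟩ : ∃ β : F, d + β * a ≠ 0 := by
    by_cases hd : d = 0
    · refine ⟨1, fun h => ?_⟩
      have ha : a = 0 := by rw [hd] at h; simpa using h
      rw [ha, hd] at hdet
      simp at hdet
    · exact ⟨0, by simpa using hd⟩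
  obtain ⟨α, hα⟩ : ∃ α : F, 3 * (d + β * a) + (e + β * b - α * (d + β * a)) + a ≠ 2 := by
    by_cases h0 : 3 * (d + β * a) + (e + β * b) + a = 2
    · refine ⟨1, fun h => hβ ?_⟩
      linear_combination h0 - h
    · exact ⟨0, by simpa using h0⟩
  have hd' : a * (e + β * b - α * (d + β * a)) - (d + β * a) * (b - α * a) = 1 := by
    linear_combination hdet
  refine hps_conj (hps_matrix B (f := f + α + β * c - β * (d + β * a)) (c := c - β * a) hd' hβ hα) ?_
  refine simS_of_matrix B (P := !![1, 0, 0; α, 1, 0; β, 0, 1]) ?_ ?_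
  · rw [Matrix.det_fin_three]; simp
  · ext i j
    fin_cases i <;> fin_cases j <;> simp [Matrix.mul_apply, Fin.sum_univ_three] <;> ring

/-! ### the adapted basis of a regular unipotent element -/

theorem nilp_of [FiniteDimensional F V] {T : End F V} {l : F} (hl : l ≠ 0)
    (hc : LinearMap.charpoly T = (X - C l) ^ 3) : (l⁻¹ • T - 1 : End F V) ^ 3 = 0 := by
  have h1 : (T - l • (1 : End F V)) ^ 3 = 0 := by
    have h2 := LinearMap.aeval_self_charpoly T
    rw [hc] at h2
    simpa [Algebra.algebraMap_eq_smul_one] using h2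
  have h3 : (l⁻¹ • T - 1 : End F V) = l⁻¹ • (T - l • (1 : End F V)) := by
    rw [smul_sub, smul_smul, inv_mul_cancel₀ hl, one_smul]
  rw [h3, _root_.smul_pow, h1, smul_zero]

theorem sq_ne_zero_of [FiniteDimensional F V] (hV : finrank F V = 3) {T : End F V} {l : F}
    (hl : l ≠ 0) (hT : Coc T) : (l⁻¹ • T - 1 : End F V) ^ 2 ≠ 0 := by
  intro h0
  obtain ⟨φ, hφ⟩ := hT
  have hTT : ∀ x, T (T x) = (2 * l) • T x - (l * l) • x := by
    intro x
    have h1 := LinearMap.congr_fun h0 x
    have h2 : (l⁻¹ • T - 1 : End F V) ((l⁻¹ • T - 1 : End F V) x) = 0 := by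
      rw [pow_two] at h1
      exact h1
    simp only [LinearMap.sub_apply, LinearMap.smul_apply, Module.End.one_apply, map_sub, map_smul] at h2
    have h3 : (l * l) • (l⁻¹ • (l⁻¹ • T (T x) - T x) - (l⁻¹ • T x - x)) = 0 := by rw [h2, smul_zero]
    have h4 : (l * l) • (l⁻¹ • (l⁻¹ • T (T x) - T x) - (l⁻¹ • T x - x)) =
        T (T x) - ((2 * l) • T x - (l * l) • x) := by
      simp only [smul_sub, smul_smul]
      rw [show l * l * (l⁻¹ * l⁻¹) = 1 by field_simp, show l * l * l⁻¹ = l by field_simp, one_smul,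
        two_mul, add_smul]
      abel
    rw [h4] at h3
    exact sub_eq_zero.1 h3
  have hker := LinearMap.ker_ne_bot_of_finrank_lt (f := (φ.prod (φ ∘ₗ T) : V →ₗ[F] F × F))
    (by rw [finrank_prod, finrank_self, hV]; norm_num)
  apply hker
  apply hφ
  · intro x hx
    have h5 : ((φ x, φ (T x)) : F × F) = 0 := LinearMap.mem_ker.1 hx
    exact (Prod.mk_eq_zero.1 h5).1
  · intro x hx
    have h5 : ((φ x, φ (T x)) : F × F) = 0 := LinearMap.mem_ker.1 hx
    obtain ⟨h6, h7⟩ := Prod.mk_eq_zero.1 h5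
    refine LinearMap.mem_ker.2 ?_
    show ((φ (T x), φ (T (T x))) : F × F) = 0
    rw [hTT, map_sub, map_smul, map_smul, h6, h7]
    simp

theorem exists_basis_J [FiniteDimensional F V] (hV : finrank F V = 3) {N : End F V}
    (h3 : N ^ 3 = 0) (h2 : N ^ 2 ≠ 0) :
    ∃ b : Basis (Fin 3) F V, N (b 0) = b 1 ∧ N (b 1) = b 2 ∧ N (b 2) = 0 := by
  obtain ⟨v, hv⟩ : ∃ v, (N ^ 2) v ≠ 0 := by
    by_contra h
    push Not at h
    exact h2 (LinearMap.ext h)
  have hv' : N (N v) ≠ 0 := by simpa [pow_two] using hv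
  have hN3 : N (N (N v)) = 0 := by
    have := LinearMap.congr_fun h3 v
    simpa [pow_succ] using this
  have hli : LinearIndependent F ![v, N v, N (N v)] := by
    rw [Fintype.linearIndependent_iff]
    intro g hg
    simp only [Fin.sum_univ_three, Matrix.cons_val_zero, Matrix.cons_val_one, Matrix.cons_val] at hg
    have e0 : g 0 = 0 := by
      have h4 := congrArg (fun x => N (N x)) hg
      simp only [map_add, map_smul, hN3, map_zero, smul_zero, add_zero] at h4
      exact (smul_eq_zero.1 h4).resolve_right hv'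
    have e1 : g 1 = 0 := by
      have h4 := congrArg (fun x => N x) hg
      simp only [map_add, map_smul, hN3, map_zero, smul_zero, add_zero, e0, zero_smul, zero_add] at h4
      exact (smul_eq_zero.1 h4).resolve_right hv'
    have e2 : g 2 = 0 := by
      rw [e0, e1, zero_smul, zero_smul, zero_add, zero_add] at hg
      exact (smul_eq_zero.1 hg).resolve_right hv'
    intro i
    fin_cases i
    · exact e0
    · exact e1
    · exact e2
  refine ⟨basisOfLinearIndependentOfCardEqFinrank hli (by simp [hV]), ?_, ?_, ?_⟩ <;>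
    simp [hN3]

/-- the matrix of `1 + N` in the adapted basis -/
theorem one_add_eq (b : Basis (Fin 3) F V) {N : End F V} (h0 : N (b 0) = b 1) (h1 : N (b 1) = b 2)
    (h2 : N (b 2) = 0) : 1 + N = Matrix.toLin b b (J : Matrix (Fin 3) (Fin 3) F) := by
  refine b.ext fun i => ?_
  rw [Matrix.toLin_self]
  fin_cases i <;> simp [J, Fin.sum_univ_three, h0, h1, h2]

/-! ### the adapted basis of a non-scalar element -/

theorem exists_basis_g [FiniteDimensional F V] (hV : finrank F V = 3) (b : Basis (Fin 3) F V)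
    {g : End F V} (hg : NS g) : ∃ c : Basis (Fin 3) F V, b.det c = 1 ∧ g (c 1) = c 2 := by
  obtain ⟨v, hv⟩ : ∃ v, LinearIndependent F ![v, g v] := by
    by_contra h
    push Not at h
    obtain ⟨a, ha⟩ := LinearMap.exists_eq_smul_id_of_forall_notLinearIndependent h
    exact hg a ha
  have hne : Submodule.span F (Set.range ![v, g v]) ≠ ⊤ := by
    intro h
    have h1 := finrank_span_eq_card hv
    rw [h, finrank_top, hV] at h1
    simp at h1
  obtain ⟨y, hy⟩ : ∃ y, y ∉ Submodule.span F (Set.range ![v, g v]) := by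
    by_contra h
    push Not at h
    exact hne (eq_top_iff.2 fun x _ => h x)
  have hli : LinearIndependent F ![y, v, g v] := linearIndependent_finCons.2 ⟨hv, hy⟩
  let c₀ := basisOfLinearIndependentOfCardEqFinrank hli (by simp [hV])
  have hc₀ : ⇑c₀ = ![y, v, g v] := coe_basisOfLinearIndependentOfCardEqFinrank _ _
  have hd : b.det c₀ ≠ 0 := (b.isUnit_det c₀).ne_zero
  let w : Fin 3 → Fˣ := ![(Units.mk0 _ hd)⁻¹, 1, 1]
  refine ⟨c₀.unitsSMul w, ?_, ?_⟩
  · have h1 : ⇑(c₀.unitsSMul w) = Function.update (⇑c₀) 0 ((b.det c₀)⁻¹ • c₀ 0) := by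
      ext i
      fin_cases i
      · simp [w, Basis.unitsSMul_apply, Units.smul_def]
      · simp [w, Basis.unitsSMul_apply]
      · simp [w, Basis.unitsSMul_apply]
    rw [h1, AlternatingMap.map_update_smul, Function.update_eq_self, smul_eq_mul, inv_mul_cancel₀ hd]
  · simp [w, Basis.unitsSMul_apply, hc₀]

theorem hps_core [FiniteDimensional F V] (hV : finrank F V = 3) {N : End F V}
    (h3 : N ^ 3 = 0) (h2 : N ^ 2 ≠ 0) {g : End F V} (hg : NS g) (hdet : LinearMap.det g = 1) :
    HPS (1 + N) 3 g := by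
  obtain ⟨b, b0, b1, b2⟩ := exists_basis_J hV h3 h2
  rw [one_add_eq b b0 b1 b2]
  obtain ⟨c, hc, hgc⟩ := exists_basis_g hV b hg
  refine hps_of_sims ?_ (simS_toLin b c hc _)
  obtain ⟨M, hM⟩ : ∃ M, M = LinearMap.toMatrix c c g := ⟨_, rfl⟩
  have hM' : M = !![M 0 0, 0, M 0 2; M 1 0, 0, M 1 2; M 2 0, 1, M 2 2] := by
    have h4 : ∀ i, M i 1 = c.repr (c 2) i := fun i => by
      rw [hM, LinearMap.toMatrix_apply, hgc]
    ext i j
    fin_cases i <;> fin_cases j <;> simp [h4]
  have hg' : g = Matrix.toLin c c M := by rw [hM, Matrix.toLin_toMatrix]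
  have hdM : M.det = 1 := by rw [hM, LinearMap.det_toMatrix, hdet]
  rw [hg', hM']
  apply hps_matrix'
  rw [hM', Matrix.det_fin_three] at hdM
  simp at hdM
  linear_combination hdM

/-- **task Q, first part** -/
theorem hps_three [Finite F] (hq : 4 ≤ Nat.card F) [FiniteDimensional F V] (hV : finrank F V = 3)
    {T : End F V} {l : F} (hl : l ≠ 0) (hT : Coc T) (hc : LinearMap.charpoly T = (X - C l) ^ 3)
    {g : End F V} (hg : NS g) (hdet : LinearMap.det g = LinearMap.det T ^ 3) : HPS T 3 g := by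
  have h3 := nilp_of hl hc
  have h2 := sq_ne_zero_of hV hl hT
  have hdT : LinearMap.det T = l ^ 3 := by
    rw [LinearMap.det_eq_sign_charpoly_coeff, hc, hV]
    rw [coeff_zero_eq_eval_zero]
    simp
    ring
  have hg' : NS ((l⁻¹) ^ 3 • g) := by
    intro c hc'
    apply hg (l ^ 3 * c)
    rw [← smul_smul, ← hc', smul_smul, ← mul_pow, mul_inv_cancel₀ hl, one_pow, one_smul]
  have hd' : LinearMap.det ((l⁻¹) ^ 3 • g) = 1 := by
    rw [LinearMap.det_smul, hV, hdet, hdT]
    field_simp
  have h4 := hps_smul (hps_core hV h3 h2 hg' hd') l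
  have e1 : l • (1 + (l⁻¹ • T - 1) : End F V) = T := by
    rw [add_sub_cancel, smul_smul, mul_inv_cancel₀ hl, one_smul]
  have e2 : l ^ 3 • (l⁻¹ ^ 3 • g) = g := by
    rw [smul_smul, ← mul_pow, mul_inv_cancel₀ hl, one_pow, one_smul]
  rwa [e1, e2] at h4

theorem hps_core_one [FiniteDimensional F V] (hV : finrank F V = 3) {N : End F V}
    (h3 : N ^ 3 = 0) (h2 : N ^ 2 ≠ 0) {r : F} (hr : r ≠ 0) (hr1 : r + 1 ≠ 0) :
    HPS (1 + N) 3 (1 : End F V) := by
  obtain ⟨b, b0, b1, b2⟩ := exists_basis_J hV h3 h2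
  have hN3 : N * (N * N) = 0 := by rw [← h3, pow_succ, pow_two, mul_assoc]
  obtain ⟨c, hc⟩ : ∃ c, c = -(r + 1) := ⟨_, rfl⟩
  have hc0 : c ≠ 0 := by rw [hc]; exact neg_ne_zero.2 hr1
  -- the three factors are `1 + N`, `1 + r N` and `1 + c N + d N²`
  obtain ⟨d, hd⟩ : ∃ d : F, d = (r + 1) ^ 2 - r := ⟨_, rfl⟩
  have e1 : (1 + N) = Matrix.toLin b b (J : Matrix (Fin 3) (Fin 3) F) := one_add_eq b b0 b1 b2
  have key : ∀ s t : F, s ≠ 0 → SimS (1 + N) (1 + s • N + t • (N * N)) := by
    intro s t hs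
    have e2 : (1 + s • N + t • (N * N)) =
        Matrix.toLin b b (!![1, 0, 0; s, 1, 0; t, s, 1] : Matrix (Fin 3) (Fin 3) F) := by
      refine b.ext fun i => ?_
      rw [Matrix.toLin_self]
      fin_cases i <;> simp [Fin.sum_univ_three, b0, b1, b2]
    rw [e1, e2]
    refine simS_of_matrix b (P := !![s⁻¹, 0, 0; 0, 1, 0; 0, s⁻¹ * t, s]) ?_ ?_
    · rw [Matrix.det_fin_three]; simp [hs]
    · ext i j
      fin_cases i <;> fin_cases j <;> simp [Matrix.mul_apply, Fin.sum_univ_three, J, hs] <;> ring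
  refine ⟨[1 + N, 1 + r • N, 1 + c • N + d • (N * N)], rfl, ?_, ?_⟩
  · intro A hA
    simp only [List.mem_cons, List.not_mem_nil, or_false] at hA
    rcases hA with rfl | rfl | rfl
    · have := key 1 0 one_ne_zero
      simpa using this
    · have := key r 0 hr
      simpa using this
    · exact key c d hc0
  · simp only [List.prod_cons, List.prod_nil, mul_one]
    have h5 : N * (N * (N * N)) = 0 := by rw [hN3, mul_zero]
    have h6 : (1 + N) * ((1 + r • N) * (1 + c • N + d • (N * N))) =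
        1 + (1 + r + c) • N + (r + c + r * c + d) • (N * N) + (r * c + d + r * d) • (N * (N * N))
          + (r * d) • (N * (N * (N * N))) := by
      simp only [mul_add, add_mul, mul_one, one_mul, smul_mul_assoc, mul_smul_comm]
      module
    rw [h6, h5, hN3, show 1 + r + c = 0 by rw [hc]; ring, show r + c + r * c + d = 0 by rw [hc, hd]; ring]
    simp

theorem exists_ne_zero_ne [Finite F] (hq : 4 ≤ Nat.card F) : ∃ r : F, r ≠ 0 ∧ r + 1 ≠ 0 := by
  classical
  have := Fintype.ofFinite F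
  by_contra h
  push Not at h
  have h1 : (Finset.univ : Finset F) ⊆ {0, -1} := by
    intro x _
    by_cases hx : x = 0
    · simp [hx]
    · have := h x hx
      have : x = -1 := by linear_combination this
      simp [this]
  have h2 := Finset.card_le_card h1
  rw [Finset.card_univ, ← Nat.card_eq_fintype_card] at h2
  have h3 : ({0, -1} : Finset F).card ≤ 2 := Finset.card_le_two
  omega

/-- **task Q, second part** -/
theorem hps_three_scalar [Finite F] (hq : 4 ≤ Nat.card F) [FiniteDimensional F V]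
    (hV : finrank F V = 3) {T : End F V} {l : F} (hl : l ≠ 0) (hT : Coc T)
    (hc : LinearMap.charpoly T = (X - C l) ^ 3) : HPS T 3 (l ^ 3 • (1 : End F V)) := by
  have h3 := nilp_of hl hc
  have h2 := sq_ne_zero_of hV hl hT
  obtain ⟨r, hr, hr1⟩ := exists_ne_zero_ne hq
  have h4 := hps_smul (hps_core_one hV h3 h2 hr hr1) l
  have e1 : l • (1 + (l⁻¹ • T - 1) : End F V) = T := by
    rw [add_sub_cancel, smul_smul, mul_inv_cancel₀ hl, one_smul]
  rwa [e1] at h4

end Cfsg.Agent.H12.CovQ
end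

-- part: H560/CovC
section
/-!
# Cyclic endomorphisms (task C of S2483)

* `coc_iff` : observable iff there is a cyclic vector;
* `Sim.of_coc` : two cyclic endomorphisms with the same characteristic polynomial are similar;
* `exists_coc` : every monic polynomial of degree `dim V` is the characteristic polynomial of a cyclic
  endomorphism of `V`.
-/

set_option autoImplicit false

namespace Cfsg.Agent.H560.CovC

open Module Polynomial Cfsg.Agent.H166.Cov

universe u

variable {F : Type u} [Field F] {V W U : Type u} [AddCommGroup V] [Module F V]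
  [AddCommGroup W] [Module F W] [AddCommGroup U] [Module F U]

/-- `v` is a cyclic vector for `T` -/
def Cyc (T : End F V) (v : V) : Prop := ∀ w : V, ∃ p : F[X], aeval T p v = w

section General

variable {V₁ V₂ : Type u} [AddCommGroup V₁] [Module F V₁] [AddCommGroup V₂] [Module F V₂]

/-- similarity in arbitrary universes -/
def SimG (S : End F V₁) (T : End F V₂) : Prop := ∃ e : V₁ ≃ₗ[F] V₂, ∀ x, e (S x) = T (e x)

theorem SimG.symm {S : End F V₁} {T : End F V₂} (h : SimG S T) : SimG T S := by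
  obtain ⟨e, he⟩ := h
  refine ⟨e.symm, fun x => ?_⟩
  rw [LinearEquiv.symm_apply_eq, he, LinearEquiv.apply_symm_apply]

theorem SimG.trans {V₃ : Type u} [AddCommGroup V₃] [Module F V₃] {S : End F V₁} {T : End F V₂}
    {R : End F V₃} (h : SimG S T) (h' : SimG T R) : SimG S R := by
  obtain ⟨e, he⟩ := h
  obtain ⟨e', he'⟩ := h'
  exact ⟨e.trans e', fun x => by simp [he, he']⟩

theorem aeval_apply_of_comm {S : End F V₁} {T : End F V₂} (e : V₁ →ₗ[F] V₂)
    (he : ∀ x, e (S x) = T (e x)) (p : F[X]) (x : V₁) : e (aeval S p x) = aeval T p (e x) := by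
  induction p using Polynomial.induction_on' with
  | add p q hp hq => simp [hp, hq]
  | monomial n a =>
    rw [← C_mul_X_pow_eq_monomial]
    simp only [map_mul, aeval_C, map_pow, aeval_X, Module.End.mul_apply,
      Module.algebraMap_end_apply, map_smul]
    congr 1
    induction n with
    | zero => simp
    | succ n ih => rw [pow_succ', pow_succ', Module.End.mul_apply, Module.End.mul_apply, he, ih]

theorem SimG.charpoly [FiniteDimensional F V₁] [FiniteDimensional F V₂] {S : End F V₁}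
    {T : End F V₂} (h : SimG S T) : LinearMap.charpoly S = LinearMap.charpoly T := by
  obtain ⟨e, he⟩ := h
  have h1 : e.conj S = T := by
    ext x
    rw [LinearEquiv.conj_apply_apply, he, LinearEquiv.apply_symm_apply]
  rw [← h1, LinearEquiv.charpoly_conj]

end General

/-- multiplication by the root on `F[X]/(f)` -/
noncomputable def rootMul (f : F[X]) : End F (AdjoinRoot f) :=
  LinearMap.mulLeft F (AdjoinRoot.root f)

theorem aeval_rootMul (f p : F[X]) (x : AdjoinRoot f) :
    aeval (rootMul f) p x = AdjoinRoot.mk f p * x := by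
  induction p using Polynomial.induction_on' with
  | add p q hp hq => simp [hp, hq, add_mul]
  | monomial n a =>
    rw [← C_mul_X_pow_eq_monomial]
    simp only [map_mul, aeval_C, map_pow, aeval_X, Module.End.mul_apply,
      Module.algebraMap_end_apply, AdjoinRoot.mk_C, AdjoinRoot.mk_X]
    rw [mul_assoc, Algebra.smul_def, AdjoinRoot.algebraMap_eq]
    congr 1
    induction n with
    | zero => simp
    | succ n ih =>
      rw [pow_succ', Module.End.mul_apply, ih, rootMul, LinearMap.mulLeft_apply, pow_succ', mul_assoc]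

theorem finiteDimensional_adjoinRoot {f : F[X]} (hf : f.Monic) :
    FiniteDimensional F (AdjoinRoot f) :=
  (AdjoinRoot.powerBasis' hf).finite

theorem finrank_adjoinRoot {f : F[X]} (hf : f.Monic) : finrank F (AdjoinRoot f) = f.natDegree := by
  rw [(AdjoinRoot.powerBasis' hf).finrank, AdjoinRoot.powerBasis'_dim]

theorem charpoly_rootMul {f : F[X]} (hf : f.Monic) :
    haveI := finiteDimensional_adjoinRoot hf
    LinearMap.charpoly (rootMul f) = f := by
  haveI := finiteDimensional_adjoinRoot hf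
  rw [← LinearMap.charpoly_toMatrix (rootMul f) (AdjoinRoot.powerBasis' hf).basis]
  have h := charpoly_leftMulMatrix (AdjoinRoot.powerBasis' hf)
  rw [Algebra.leftMulMatrix_apply] at h
  have h2 : minpoly F (AdjoinRoot.powerBasis' hf).gen = f := by
    rw [AdjoinRoot.powerBasis'_gen, AdjoinRoot.minpoly_root hf.ne_zero, hf.leadingCoeff, inv_one,
      C_1, mul_one]
  rw [h2] at h
  exact h

/-- the coefficient of `X ^ (n - 1)` of the remainder -/
noncomputable def topCoeff {f : F[X]} (hf : f.Monic) : AdjoinRoot f →ₗ[F] F :=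
  (lcoeff F (f.natDegree - 1)) ∘ₗ AdjoinRoot.modByMonicHom hf

theorem topCoeff_mk {f : F[X]} (hf : f.Monic) (p : F[X]) :
    topCoeff hf (AdjoinRoot.mk f p) = (p %ₘ f).coeff (f.natDegree - 1) := by
  simp [topCoeff]

theorem obs_topCoeff {f : F[X]} (hf : f.Monic) : Obs (topCoeff hf) (rootMul f) := by
  intro S h0 hS
  have hpow : ∀ k : ℕ, ∀ x ∈ S, AdjoinRoot.root f ^ k * x ∈ S := by
    intro k
    induction k with
    | zero => intro x hx; simpa using hx
    | succ k ih =>
      intro x hx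
      rw [pow_succ', mul_assoc]
      exact hS _ (ih x hx)
  rw [Submodule.eq_bot_iff]
  intro x hx
  by_contra hne
  set p : F[X] := AdjoinRoot.modByMonicHom hf x with hpdef
  have hmk : AdjoinRoot.mk f p = x := AdjoinRoot.mk_leftInverse hf x
  have hp0 : p ≠ 0 := by
    intro h; rw [h, map_zero] at hmk; exact hne hmk.symm
  have hplt : p.natDegree < f.natDegree := by
    have hmod : p = p %ₘ f := by
      rw [hpdef]
      conv_lhs => rw [← hmk, AdjoinRoot.modByMonicHom_mk]
    rw [hmod]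
    refine Polynomial.natDegree_modByMonic_lt _ hf ?_
    intro h1
    have : AdjoinRoot.mk f p = 0 := by rw [AdjoinRoot.mk_eq_zero, h1]; exact one_dvd _
    exact hne (hmk ▸ this)
  have h2 := h0 _ (hpow (f.natDegree - 1 - p.natDegree) x hx)
  rw [← hmk, ← AdjoinRoot.mk_X, ← map_pow, ← map_mul, topCoeff_mk] at h2
  have hdeg : (X ^ (f.natDegree - 1 - p.natDegree) * p).natDegree = f.natDegree - 1 := by
    rw [Polynomial.natDegree_X_pow_mul _ hp0]; omega
  rw [(Polynomial.modByMonic_eq_self_iff hf).mpr] at h2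
  · apply hp0
    have h3 : (X ^ (f.natDegree - 1 - p.natDegree) * p).leadingCoeff = 0 := by
      rw [Polynomial.leadingCoeff, hdeg]; exact h2
    rw [Polynomial.leadingCoeff_eq_zero] at h3
    exact (mul_eq_zero.mp h3).resolve_left (pow_ne_zero _ X_ne_zero)
  · apply Polynomial.degree_lt_degree
    rw [hdeg]; omega

theorem cyc_rootMul (f : F[X]) : Cyc (rootMul f) 1 := by
  intro w
  obtain ⟨p, hp⟩ := AdjoinRoot.mk_surjective w
  exact ⟨p, by rw [aeval_rootMul, mul_one, hp]⟩

/-- a cyclic vector identifies `T` with the multiplication by the root -/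
theorem Cyc.simG {V₁ : Type u} [AddCommGroup V₁] [Module F V₁] [FiniteDimensional F V₁]
    {T : End F V₁} {v : V₁} (h : Cyc T v) : SimG (rootMul (LinearMap.charpoly T)) T := by
  have hm : (LinearMap.charpoly T).Monic := LinearMap.charpoly_monic T
  haveI := finiteDimensional_adjoinRoot hm
  let θ₀ : F[X] →ₗ[F] V₁ := (LinearMap.applyₗ v) ∘ₗ (aeval T : F[X] →ₐ[F] End F V₁).toLinearMap
  have hθ₀ : ∀ p, θ₀ p = aeval T p v := fun p => rfl
  let θ : AdjoinRoot (LinearMap.charpoly T) →ₗ[F] V₁ := θ₀ ∘ₗ AdjoinRoot.modByMonicHom hm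
  have hθ : ∀ p, θ (AdjoinRoot.mk _ p) = aeval T p v := by
    intro p
    change θ₀ (AdjoinRoot.modByMonicHom hm (AdjoinRoot.mk _ p)) = _
    rw [AdjoinRoot.modByMonicHom_mk, hθ₀]
    conv_rhs => rw [← Polynomial.modByMonic_add_div p (LinearMap.charpoly T)]
    rw [map_add, map_mul, LinearMap.aeval_self_charpoly, zero_mul, add_zero]
  have hsurj : Function.Surjective θ := by
    intro w
    obtain ⟨p, hp⟩ := h w
    exact ⟨AdjoinRoot.mk _ p, by rw [hθ, hp]⟩
  have hfr : finrank F (AdjoinRoot (LinearMap.charpoly T)) = finrank F V₁ := by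
    rw [finrank_adjoinRoot hm, LinearMap.charpoly_natDegree]
  have hinj : Function.Injective θ :=
    (LinearMap.injective_iff_surjective_of_finrank_eq_finrank hfr).mpr hsurj
  refine ⟨LinearEquiv.ofBijective θ ⟨hinj, hsurj⟩, fun x => ?_⟩
  obtain ⟨p, rfl⟩ := AdjoinRoot.mk_surjective x
  change θ (rootMul _ (AdjoinRoot.mk _ p)) = T (θ (AdjoinRoot.mk _ p))
  rw [rootMul, LinearMap.mulLeft_apply, ← AdjoinRoot.mk_X, ← map_mul, hθ, hθ, map_mul, aeval_X,
    Module.End.mul_apply]

theorem Cyc.of_simG {V₁ V₂ : Type u} [AddCommGroup V₁] [Module F V₁] [AddCommGroup V₂] [Module F V₂]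
    {S : End F V₁} {T : End F V₂} {v : V₁} (h : Cyc S v) {e : V₁ ≃ₗ[F] V₂}
    (he : ∀ x, e (S x) = T (e x)) : Cyc T (e v) := by
  intro w
  obtain ⟨p, hp⟩ := h (e.symm w)
  refine ⟨p, ?_⟩
  rw [← LinearEquiv.coe_coe, ← aeval_apply_of_comm (e : V₁ →ₗ[F] V₂) he, hp]
  simp

theorem obs_of_simG {V₁ V₂ : Type u} [AddCommGroup V₁] [Module F V₁] [AddCommGroup V₂] [Module F V₂]
    {S : End F V₁} {T : End F V₂} {φ : V₁ →ₗ[F] F} (h : Obs φ S) {e : V₁ ≃ₗ[F] V₂}
    (he : ∀ x, e (S x) = T (e x)) : Obs (φ ∘ₗ (e.symm : V₂ →ₗ[F] V₁)) T := by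
  intro L h0 hL
  have h1 := h (L.comap (e : V₁ →ₗ[F] V₂)) ?_ ?_
  · rw [Submodule.eq_bot_iff] at h1 ⊢
    intro x hx
    have := h1 (e.symm x) (by simpa using hx)
    simpa using this
  · intro x hx
    have := h0 (e x) hx
    simpa using this
  · intro x hx
    change e (S x) ∈ L
    rw [he]
    exact hL _ hx

/-- an observable functional is a cyclic vector for the transposed map -/
theorem cyc_dualMap [FiniteDimensional F V] {T : End F V} {φ : V →ₗ[F] F} (h : Obs φ T) :
    Cyc (T.dualMap : End F (Module.Dual F V)) φ := by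
  have hT : ∀ (p : F[X]) (x : V), (aeval (T.dualMap : End F (Module.Dual F V)) p φ) x
      = φ (aeval T p x) := by
    intro p
    induction p using Polynomial.induction_on' with
    | add p q hp hq => intro x; simp [hp, hq]
    | monomial n a =>
      rw [← C_mul_X_pow_eq_monomial]
      simp only [map_mul, aeval_C, map_pow, aeval_X, Module.End.mul_apply,
        Module.algebraMap_end_apply]
      intro x
      rw [LinearMap.smul_apply, map_smul]
      congr 1
      induction n generalizing x with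
      | zero => simp
      | succ n ih =>
        rw [pow_succ', Module.End.mul_apply, LinearMap.dualMap_apply, ih, pow_succ,
          Module.End.mul_apply]
  let R : F[X] →ₗ[F] Module.Dual F V :=
    (LinearMap.applyₗ φ) ∘ₗ
      (aeval (T.dualMap : End F (Module.Dual F V)) : F[X] →ₐ[F] _).toLinearMap
  have hR : ∀ p x, R p x = φ (aeval T p x) := fun p x => hT p x
  have hbot : (LinearMap.range R).dualCoannihilator = ⊥ := by
    refine h _ ?_ ?_
    · intro x hx
      rw [Submodule.mem_dualCoannihilator] at hx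
      have := hx (R 1) ⟨1, rfl⟩
      rw [hR] at this
      simpa using this
    · intro x hx
      rw [Submodule.mem_dualCoannihilator] at hx ⊢
      rintro _ ⟨p, rfl⟩
      have := hx (R (p * X)) ⟨_, rfl⟩
      rw [hR, map_mul, aeval_X, Module.End.mul_apply] at this
      rw [hR]; exact this
  have htop : LinearMap.range R = ⊤ := by
    have h1 := Subspace.dualCoannihilator_dualAnnihilator_eq (W := LinearMap.range R)
    rw [← h1, hbot]; simp
  intro w
  have : w ∈ LinearMap.range R := by rw [htop]; trivial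
  obtain ⟨p, hp⟩ := this
  exact ⟨p, hp⟩

theorem charpoly_dualMap [FiniteDimensional F V] (T : End F V) :
    LinearMap.charpoly (T.dualMap : End F (Module.Dual F V)) = LinearMap.charpoly T := by
  classical
  let b := Module.finBasis F V
  rw [← LinearMap.charpoly_toMatrix T b, ← LinearMap.charpoly_toMatrix (T.dualMap) b.dualBasis,
    LinearMap.dualMap_def, LinearMap.toMatrix_transpose, Matrix.charpoly_transpose]

theorem simG_of_dualMap [FiniteDimensional F V] [FiniteDimensional F W] {S : End F V} {T : End F W}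
    (h : SimG (S.dualMap : End F (Module.Dual F V)) (T.dualMap : End F (Module.Dual F W))) :
    SimG S T := by
  obtain ⟨e, he⟩ := h
  -- `e.dualMap : W** ≃ V**`
  let g : W ≃ₗ[F] V :=
    (Module.evalEquiv F W).trans (e.dualMap.trans (Module.evalEquiv F V).symm)
  have hg : ∀ (w : W) (f : Module.Dual F V), f (g w) = (e f) w := by
    intro w f
    have h1 : Module.evalEquiv F V (g w) = e.dualMap (Module.evalEquiv F W w) := by
      simp [g]
    have h2 := congrArg (fun t => t f) h1
    simpa using h2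
  refine SimG.symm ⟨g, fun w => ?_⟩
  apply (Module.forall_dual_apply_eq_zero_iff F (g (T w) - S (g w))).mp _ |> sub_eq_zero.mp
  intro f
  rw [map_sub, hg, sub_eq_zero]
  have h1 : f (S (g w)) = (S.dualMap f) (g w) := rfl
  rw [h1, hg, he]
  rfl

theorem Sim.of_coc [FiniteDimensional F V] [FiniteDimensional F W] {S : End F V} {T : End F W}
    (hS : Coc S) (hT : Coc T) (h : LinearMap.charpoly S = LinearMap.charpoly T) : Sim S T := by
  obtain ⟨φ, hφ⟩ := hS
  obtain ⟨ψ, hψ⟩ := hT
  have h1 := (cyc_dualMap hφ).simG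
  have h2 := (cyc_dualMap hψ).simG
  rw [charpoly_dualMap] at h1 h2
  rw [h] at h1
  exact simG_of_dualMap (h1.symm.trans h2)

theorem coc_rootMul {f : F[X]} (hf : f.Monic) : Coc (rootMul f) := ⟨_, obs_topCoeff hf⟩

theorem Coc.of_simG {S : End F V} {T : End F W} (hS : Coc S) (h : SimG S T) : Coc T := by
  obtain ⟨φ, hφ⟩ := hS
  obtain ⟨e, he⟩ := h
  exact ⟨_, obs_of_simG hφ he⟩

theorem coc_iff [FiniteDimensional F V] (T : End F V) :
    Coc T ↔ ∃ v : V, ∀ w : V, ∃ p : F[X], aeval T p v = w := by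
  have hm : (LinearMap.charpoly T).Monic := LinearMap.charpoly_monic T
  have : FiniteDimensional F (AdjoinRoot (LinearMap.charpoly T)) := finiteDimensional_adjoinRoot hm
  constructor
  · intro h
    obtain ⟨e, he⟩ := Sim.of_coc (coc_rootMul hm) h (charpoly_rootMul hm)
    exact ⟨e 1, Cyc.of_simG (cyc_rootMul _) he⟩
  · rintro ⟨v, hv⟩
    exact Coc.of_simG (coc_rootMul hm) (Cyc.simG (T := T) (v := v) hv)

theorem exists_coc [FiniteDimensional F V] {f : F[X]} (hf : f.Monic)
    (hd : f.natDegree = finrank F V) : ∃ T : End F V, Coc T ∧ LinearMap.charpoly T = f := by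
  have : FiniteDimensional F (AdjoinRoot f) := finiteDimensional_adjoinRoot hf
  let e : AdjoinRoot f ≃ₗ[F] V := LinearEquiv.ofFinrankEq _ _ (by rw [finrank_adjoinRoot hf, hd])
  have hs : SimG (rootMul f) (e.conj (rootMul f)) :=
    ⟨e, fun x => by rw [LinearEquiv.conj_apply_apply, LinearEquiv.symm_apply_apply]⟩
  exact ⟨e.conj (rootMul f), Coc.of_simG (coc_rootMul hf) hs, by
    rw [LinearEquiv.charpoly_conj, charpoly_rootMul hf]⟩

end Cfsg.Agent.H560.CovC
end

-- part: H12/CovP
section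
/-!
# Square-zero perturbations (task P of the project S2483, helper166)
-/

set_option autoImplicit false

namespace Cfsg.Agent.H12.CovP

open Module Polynomial Cfsg.Agent.H166.Cov Cfsg.Agent.H12.CovQ

universe u

variable {F : Type u} [Field F]

section block

variable {W : Type u} [AddCommGroup W] [Module F W]

/-- `(x, y) ↦ (x + y, y)` -/
def U : End F (W × W) := LinearMap.prod (LinearMap.fst F W W + LinearMap.snd F W W) (LinearMap.snd F W W)

/-- `(x, y) ↦ (x, y + S x)` -/
def A (S : End F W) : End F (W × W) :=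
  LinearMap.prod (LinearMap.fst F W W) (LinearMap.snd F W W + S ∘ₗ LinearMap.fst F W W)

/-- the product -/
def M (S : End F W) : End F (W × W) := A S * U

@[simp] theorem U_apply (z : W × W) : (U : End F (W × W)) z = (z.1 + z.2, z.2) := rfl

@[simp] theorem A_apply (S : End F W) (z : W × W) : A S z = (z.1, z.2 + S z.1) := rfl

@[simp] theorem M_apply (S : End F W) (z : W × W) : M S z = (z.1 + z.2, z.2 + S (z.1 + z.2)) := rfl

theorem det_U [FiniteDimensional F W] : LinearMap.det (U : End F (W × W)) = 1 := by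
  let b := Module.finBasis F W
  rw [← LinearMap.det_toMatrix (b.prod b)]
  have : LinearMap.toMatrix (b.prod b) (b.prod b) (U : End F (W × W)) = Matrix.fromBlocks 1 1 0 1 := by
    ext i j
    rcases i with i | i <;> rcases j with j | j <;>
      simp [LinearMap.toMatrix_apply, Matrix.one_apply, Finsupp.single_apply, eq_comm]
  rw [this, Matrix.det_fromBlocks_zero₂₁, Matrix.det_one, mul_one]

theorem det_A [FiniteDimensional F W] (S : End F W) : LinearMap.det (A S) = 1 := by
  let b := Module.finBasis F W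
  rw [← LinearMap.det_toMatrix (b.prod b)]
  have : LinearMap.toMatrix (b.prod b) (b.prod b) (A S) = Matrix.fromBlocks 1 0 (LinearMap.toMatrix b b S) 1 := by
    ext i j
    rcases i with i | i <;> rcases j with j | j <;>
      simp [LinearMap.toMatrix_apply, Matrix.one_apply, Finsupp.single_apply, eq_comm]
  rw [this, Matrix.det_fromBlocks_zero₁₂, Matrix.det_one, mul_one]

/-- the conjugating map `(x, y) ↦ (k⁻¹ y, k⁻¹ S x)` -/
def E (S : End F W) (k : F) : End F (W × W) :=
  LinearMap.prod (k⁻¹ • LinearMap.snd F W W) (k⁻¹ • (S ∘ₗ LinearMap.fst F W W))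

@[simp] theorem E_apply (S : End F W) (k : F) (z : W × W) : E S k z = (k⁻¹ • z.2, k⁻¹ • S z.1) := rfl

theorem E_U (S : End F W) (k : F) (z : W × W) : E S k ((U : End F (W × W)) z) = A S (E S k z) := by
  simp [smul_add]

theorem det_E [FiniteDimensional F W] (S : End F W) (k : F) :
    LinearMap.det (E S k) = (-1) ^ finrank F W * LinearMap.det S * (k⁻¹) ^ (2 * finrank F W) := by
  have h1 : E S k = (LinearMap.prodMap (k⁻¹ • (1 : End F W)) ((-k⁻¹) • S)) * (U * A (-1 : End F W) * U) := by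
    refine LinearMap.ext fun z => ?_
    simp
  rw [h1, map_mul, map_mul, map_mul, det_U, det_A, LinearMap.det_prodMap, LinearMap.det_smul,
    LinearMap.det_smul, map_one, neg_pow]
  ring

/-- eigenvalues of `l • M S` -/
theorem eval_M [FiniteDimensional F W] (S : End F W) {l α s : F} (hl : l ≠ 0) (hα : α ≠ 0)
    (hs : s * α = (α - 1) ^ 2) (h : (LinearMap.charpoly (l • M S)).eval (l * α) = 0) :
    (LinearMap.charpoly S).eval s = 0 := by
  have h1 : Module.End.HasEigenvalue (l • M S) (l * α) :=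
    (Module.End.hasEigenvalue_iff_isRoot_charpoly _ _).2 h
  obtain ⟨⟨x, y⟩, hz⟩ := h1.exists_hasEigenvector
  have h2 := hz.apply_eq_smul
  have h3 : M S (x, y) = α • (x, y) := by
    have h4 := congrArg (fun z => l⁻¹ • z) h2
    simpa [smul_smul, ← mul_assoc, inv_mul_cancel₀ hl] using h4
  rw [M_apply] at h3
  have hx : x + y = α • x := congrArg Prod.fst h3
  have hy : y + S (x + y) = α • y := congrArg Prod.snd h3
  have hy' : y = (α - 1) • x := by rw [sub_smul, one_smul, ← hx]; abel
  have hSx : S x = s • x := by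
    have e1 : α • S x = (α * s) • x := by
      rw [← map_smul, ← hx, mul_comm α s, hs, pow_two, mul_smul, ← hy', sub_smul, one_smul, ← hy]
      abel
    have e2 := congrArg (fun z => α⁻¹ • z) e1
    simpa [smul_smul, ← mul_assoc, inv_mul_cancel₀ hα] using e2
  have hx0 : x ≠ 0 := by
    intro h0
    apply hz.2
    rw [hy', h0, smul_zero]
    rfl
  exact (Module.End.hasEigenvalue_iff_isRoot_charpoly _ _).1
    (Module.End.hasEigenvalue_of_hasEigenvector ⟨Module.End.mem_eigenspace_iff.2 hSx, hx0⟩)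

end block

theorem charpoly_line {l α s : F} (hα : α ≠ 0) (hs : s * α = (α - 1) ^ 2) :
    LinearMap.charpoly (l • M (s • (1 : End F F))) = (X - C (l * α)) * (X - C (l * α⁻¹)) := by
  rw [← LinearMap.charpoly_toMatrix _ (Basis.finTwoProd F), Matrix.charpoly_fin_two]
  have hs' : s = (α - 1) ^ 2 / α := by field_simp; exact hs
  have h1 : LinearMap.toMatrix (Basis.finTwoProd F) (Basis.finTwoProd F) (l • M (s • (1 : End F F))) =
      !![l, l; l * s, l * (1 + s)] := by
    ext i j
    fin_cases i <;> fin_cases j <;> simp [LinearMap.toMatrix_apply]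
  rw [h1, Matrix.trace_fin_two, Matrix.det_fin_two]
  simp only [Matrix.of_apply, Matrix.cons_val', Matrix.cons_val_zero, Matrix.cons_val_one,
    Matrix.cons_val_fin_one, Matrix.empty_val']
  have e1 : l + l * (1 + s) = l * α + l * α⁻¹ := by rw [hs']; field_simp; ring
  have e2 : l * (l * (1 + s)) - l * (l * s) = (l * α) * (l * α⁻¹) := by field_simp; ring
  rw [e1, e2]
  simp only [map_add, map_mul]
  ring

section coc

variable {W : Type u} [AddCommGroup W] [Module F W]

theorem M_rel (S : End F W) (z : W × W) : (S (M S z).1, S (M S z).2) = M S (M S z) - (2 : F) • M S z + z := by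
  ext <;> simp [two_smul] <;> abel

theorem M_injective (S : End F W) (z : W × W) (h : M S z = 0) : z = 0 := by
  obtain ⟨x, y⟩ := z
  rw [M_apply] at h
  have hx : x + y = 0 := congrArg Prod.fst h
  have hy : y + S (x + y) = 0 := congrArg Prod.snd h
  rw [hx, map_zero, add_zero] at hy
  rw [hy, add_zero] at hx
  rw [hx, hy]
  rfl

theorem coc_M [FiniteDimensional F W] {S : End F W} {φ : W →ₗ[F] F} (hφ : Obs φ S) {s : F}
    (hs0 : s ≠ 0) (hinj : ∀ x, S x = 0 → x = 0) (hs : ∀ x, S x = s • x → x = 0) :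
    Coc ((M (s • (1 : End F F))).prodMap (M S)) := by
  refine ⟨(LinearMap.snd F F F) ∘ₗ (LinearMap.fst F (F × F) (W × W)) +
    φ ∘ₗ (LinearMap.snd F W W) ∘ₗ (LinearMap.snd F (F × F) (W × W)), ?_⟩
  intro Z hZ1 hZ2
  have hΨ : ∀ z ∈ Z, z.1.2 + φ z.2.2 = 0 := hZ1
  obtain ⟨T, hT⟩ : ∃ T, T = (M (s • (1 : End F F))).prodMap (M S) := ⟨_, rfl⟩
  rw [← hT] at hZ2
  have hTz : ∀ z, T z = (M (s • (1 : End F F)) z.1, M S z.2) := fun z => by rw [hT]; rfl
  have hTi : Function.Injective (T.restrict hZ2) := by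
    rw [← LinearMap.ker_eq_bot, LinearMap.ker_eq_bot']
    rintro ⟨z, hz⟩ h
    have h1 : T z = 0 := congrArg Subtype.val h
    rw [hTz] at h1
    have h2 := M_injective _ _ (congrArg Prod.fst h1)
    have h3 := M_injective _ _ (congrArg Prod.snd h1)
    exact Subtype.ext (Prod.ext h2 h3)
  have hTs : Function.Surjective (T.restrict hZ2) := LinearMap.injective_iff_surjective.1 hTi
  -- `Z` is invariant under `S`
  have hS : ∀ z ∈ Z, ((s • z.1.1, s • z.1.2), (S z.2.1, S z.2.2)) ∈ Z := by
    intro z hz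
    obtain ⟨⟨w, hw⟩, hwz⟩ := hTs ⟨z, hz⟩
    have h1 : T w = z := congrArg Subtype.val hwz
    have h2 : ((s • z.1.1, s • z.1.2), (S z.2.1, S z.2.2)) = T (T w) - (2 : F) • T w + w := by
      rw [← h1, hTz w, hTz]
      have h3 := M_rel (s • (1 : End F F)) w.1
      have h4 := M_rel S w.2
      refine Prod.ext ?_ ?_
      · exact h3
      · exact h4
    rw [h2]
    exact Z.add_mem (Z.sub_mem (hZ2 _ (hZ2 _ hw)) (Z.smul_mem _ (hZ2 _ hw))) hw
  -- elements of the second block
  have h0 : ∀ x y : W, (((0, 0), (x, y)) : (F × F) × (W × W)) ∈ Z → x = 0 ∧ y = 0 := by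
    have hy : ∀ x y : W, (((0, 0), (x, y)) : (F × F) × (W × W)) ∈ Z → y = 0 := by
      let Y : Submodule F W :=
        { carrier := {y | ∃ x, (((0, 0), (x, y)) : (F × F) × (W × W)) ∈ Z}
          add_mem' := by
            rintro a b ⟨x, hx⟩ ⟨x', hx'⟩
            refine ⟨x + x', ?_⟩
            have := Z.add_mem hx hx'
            simpa using this
          zero_mem' := ⟨0, Z.zero_mem⟩
          smul_mem' := by
            rintro c a ⟨x, hx⟩
            refine ⟨c • x, ?_⟩
            have := Z.smul_mem c hx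
            simpa using this }
      have hY : Y = ⊥ := by
        apply hφ
        · rintro y ⟨x, hx⟩
          have := hΨ _ hx
          simpa using this
        · rintro y ⟨x, hx⟩
          refine ⟨S x, ?_⟩
          have := hS _ hx
          simpa using this
      intro x y hxy
      have : y ∈ Y := ⟨x, hxy⟩
      rw [hY] at this
      exact (Submodule.mem_bot F).1 this
    intro x y hxy
    have e1 := hy x y hxy
    refine ⟨?_, e1⟩
    have e2 := hZ2 _ hxy
    rw [hTz, e1] at e2
    have e3 : ((M (s • (1 : End F F)) (0, 0), M S (x, 0)) : (F × F) × (W × W)) = ((0, 0), (x, S x)) := by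
      simp
    rw [e3] at e2
    exact hinj x (hy x (S x) e2)
  rw [eq_bot_iff]
  rintro ⟨⟨a, c⟩, ⟨x, y⟩⟩ hz
  have e1 : (((0, 0), (S x - s • x, S y - s • y)) : (F × F) × (W × W)) ∈ Z := by
    have h6 := Z.sub_mem (hS _ hz) (Z.smul_mem s hz)
    have h7 : (((s • a, s • c), (S x, S y)) : (F × F) × (W × W)) - s • ((a, c), (x, y)) =
        ((0, 0), (S x - s • x, S y - s • y)) := by
      ext <;> simp
    rwa [h7] at h6
  obtain ⟨e2, e3⟩ := h0 _ _ e1
  have hx : x = 0 := hs x (sub_eq_zero.1 e2)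
  have hy : y = 0 := hs y (sub_eq_zero.1 e3)
  have hc : c = 0 := by
    have := hΨ _ hz
    simpa [hy] using this
  have ha : a = 0 := by
    have h5 := hΨ _ (hZ2 _ hz)
    rw [hTz] at h5
    simp only [hx, hy, hc, M_apply] at h5
    simpa [hs0] using h5
  rw [Submodule.mem_bot, ha, hc, hx, hy]
  rfl

end coc

/-! ### parameters -/

theorem exists_ne_three [Finite F] (hq : 4 ≤ Nat.card F) : ∃ c : F, c ≠ 0 ∧ c ≠ 1 ∧ c ≠ -1 := by
  classical
  have := Fintype.ofFinite F
  by_contra h
  push Not at h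
  have h1 : (Finset.univ : Finset F) ⊆ {0, 1, -1} := by
    intro x _
    by_cases h0 : x = 0
    · simp [h0]
    · by_cases h1 : x = 1
      · simp [h1]
      · simp [h x h0 h1]
  have h2 := Finset.card_le_card h1
  rw [Finset.card_univ, ← Nat.card_eq_fintype_card] at h2
  have h3 : ({0, 1, -1} : Finset F).card ≤ 3 := Finset.card_le_three
  omega

theorem exists_param [Finite F] (hq : 4 ≤ Nat.card F) {b : ℕ} (hb : 2 ≤ b) :
    ∃ (α s k : F) (r : F[X]), α ≠ 0 ∧ α ≠ α⁻¹ ∧ s ≠ 0 ∧ s * α = (α - 1) ^ 2 ∧ k ≠ 0 ∧ r.Monic ∧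
      r.natDegree = b - 1 ∧ r.eval s ≠ 0 ∧ r.eval 0 * s = -k ^ (2 * (b - 1)) := by
  obtain ⟨α, h0, h1, h2⟩ := exists_ne_three hq
  have hα' : α ≠ α⁻¹ := by
    intro h
    have h3 : (α - 1) * (α + 1) = 0 := by
      have : α * α = 1 := by nth_rewrite 2 [h]; exact mul_inv_cancel₀ h0
      linear_combination this
    rcases mul_eq_zero.1 h3 with h4 | h4
    · exact h1 (sub_eq_zero.1 h4)
    · exact h2 (eq_neg_of_add_eq_zero_left h4)
  have hs : ((α - 1) ^ 2 / α) * α = (α - 1) ^ 2 := by field_simp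
  have hs0 : (α - 1) ^ 2 / α ≠ 0 := div_ne_zero (pow_ne_zero 2 (sub_ne_zero.2 h1)) h0
  obtain ⟨s, hs'⟩ : ∃ s, s = (α - 1) ^ 2 / α := ⟨_, rfl⟩
  rw [← hs'] at hs hs0
  rcases Nat.lt_or_ge 2 b with hb' | hb'
  · -- `b ≥ 3`
    obtain ⟨c, hc⟩ : ∃ c : F, s ^ (b - 1) + c * s - s⁻¹ ≠ 0 := by
      by_cases h : s ^ (b - 1) - s⁻¹ = 0
      · refine ⟨1, fun h4 => hs0 ?_⟩
        linear_combination h4 - h
      · exact ⟨0, by simpa using h⟩
    have hdeg : (C c * X + C (-s⁻¹) : F[X]).degree < ((b - 1 : ℕ) : WithBot ℕ) := by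
      refine lt_of_le_of_lt (degree_linear_le) ?_
      exact_mod_cast (by omega : 1 < b - 1)
    refine ⟨α, s, 1, X ^ (b - 1) + (C c * X + C (-s⁻¹)), h0, hα', hs0, hs, one_ne_zero,
      monic_X_pow_add hdeg, ?_, ?_, ?_⟩
    · rw [natDegree_add_eq_left_of_degree_lt (by rw [degree_X_pow]; exact hdeg), natDegree_X_pow]
    · simpa [sub_eq_add_neg, add_assoc] using hc
    · have : b - 1 ≠ 0 := by omega
      simp [this, hs0]
  · have hb2 : b = 2 := le_antisymm hb' hb
    subst hb2
    obtain ⟨c, c0, c1, c2⟩ := exists_ne_three hq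
    refine ⟨α, s, s * c, X - C (s * c ^ 2), h0, hα', hs0, hs, mul_ne_zero hs0 c0, monic_X_sub_C _, ?_, ?_, ?_⟩
    · exact natDegree_X_sub_C _
    · have h5 : eval s (X - C (s * c ^ 2)) = s * ((1 - c) * (1 + c)) := by simp; ring
      rw [h5]
      refine mul_ne_zero hs0 (mul_ne_zero (sub_ne_zero.2 (Ne.symm c1)) fun h => c2 ?_)
      linear_combination h
    · simp; ring

theorem simS_of_det {V : Type u} [AddCommGroup V] [Module F V] [FiniteDimensional F V]
    {S T f : End F V} (hf : LinearMap.det f = 1) (h : ∀ x, f (S x) = T (f x)) : SimS S T := by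
  refine ⟨LinearMap.equivOfDetNeZero f (by rw [hf]; exact one_ne_zero), ?_, h⟩
  exact hf

/-- the coordinates adapted to a square-zero map of maximal rank -/
theorem exists_equiv {V : Type u} [AddCommGroup V] [Module F V] [FiniteDimensional F V] {b : ℕ}
    (hV : finrank F V = 2 * b) {N : End F V} (hN : N * N = 0)
    (hr : finrank F (LinearMap.range N) = b) {W : Type u} [AddCommGroup W] [Module F W]
    [FiniteDimensional F W] (hW : finrank F W = b) :
    ∃ Φ : (W × W) ≃ₗ[F] V, ∀ z, N (Φ z) = Φ (z.2, 0) := by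
  let i : W ≃ₗ[F] LinearMap.range N := LinearEquiv.ofFinrankEq _ _ (by rw [hW, hr])
  obtain ⟨j, hj⟩ := LinearMap.exists_rightInverse_of_surjective N.rangeRestrict N.range_rangeRestrict
  have hj' : ∀ k : LinearMap.range N, N (j k) = k := fun k => by
    have := LinearMap.congr_fun hj k
    exact congrArg Subtype.val this
  have hNi : ∀ k : LinearMap.range N, N (k : V) = 0 := by
    rintro ⟨_, y, rfl⟩
    exact LinearMap.congr_fun hN y
  let f : (W × W) →ₗ[F] V := ((LinearMap.range N).subtype ∘ₗ (i : W →ₗ[F] LinearMap.range N)).coprod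
    (j ∘ₗ (i : W →ₗ[F] LinearMap.range N))
  have hf : ∀ z, f z = (i z.1 : V) + j (i z.2) := fun z => rfl
  have hNf : ∀ z, N (f z) = (i z.2 : V) := by
    intro z
    rw [hf, map_add, hNi, hj', zero_add]
  have hinj : Function.Injective f := by
    rw [← LinearMap.ker_eq_bot, LinearMap.ker_eq_bot']
    intro z hz
    have h1 : (i z.2 : V) = 0 := by rw [← hNf, hz, map_zero]
    have h2 : z.2 = 0 := by
      have : i z.2 = 0 := Subtype.ext h1
      simpa using this
    rw [hf, h2, map_zero, map_zero, add_zero] at hz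
    have h3 : z.1 = 0 := by
      have : i z.1 = 0 := Subtype.ext hz
      simpa using this
    exact Prod.ext h3 h2
  refine ⟨LinearEquiv.ofInjectiveOfFinrankEq f hinj (by rw [finrank_prod, hW, hV, two_mul]), fun z => ?_⟩
  show N (f z) = f (z.2, 0)
  rw [hNf, hf]
  simp

/-- **task P** -/
theorem exists_nice_sq_zero {V : Type u} [AddCommGroup V] [Module F V] [Finite F]
    (hq : 4 ≤ Nat.card F) [FiniteDimensional F V] {b : ℕ} (hb : 2 ≤ b) (hV : finrank F V = 2 * b)
    {N : End F V} (hN : N * N = 0) (hr : finrank F (LinearMap.range N) = b) {l : F} (hl : l ≠ 0) :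
    ∃ (M : End F V) (ν : F), Nice ν M ∧ HPS (l • (1 + N)) 2 M := by
  obtain ⟨α, s, k, r, hα, hα', hs0, hs, hk, hrm, hrd, hrs, hr0⟩ := exists_param hq hb
  let W := Fin (b - 1) → F
  obtain ⟨S, hSc, hS⟩ := Cfsg.Agent.H560.CovC.exists_coc (V := W) hrm (by simp [W, hrd])
  obtain ⟨φ, hφ⟩ := hSc
  have hW : finrank F W = b - 1 := by simp [W]
  obtain ⟨Φ₀, hΦ₀⟩ := exists_equiv hV hN hr (W := F × W) (by rw [finrank_prod, finrank_self, hW]; omega)
  obtain ⟨Φ, hΦ⟩ : ∃ Φ : ((F × F) × (W × W)) ≃ₗ[F] V, ∀ z, N (Φ z) = Φ ((z.1.2, 0), (z.2.2, 0)) := by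
    refine ⟨(LinearEquiv.prodProdProdComm F F F W W).trans Φ₀, fun z => ?_⟩
    simp only [LinearEquiv.trans_apply, hΦ₀]
    rfl
  -- eigenvalues of `S`
  have heig : ∀ (t : F), r.eval t ≠ 0 → ∀ x, S x = t • x → x = 0 := by
    intro t ht x hx
    by_contra h0
    apply ht
    have := (Module.End.hasEigenvalue_iff_isRoot_charpoly S t).1
      (Module.End.hasEigenvalue_of_hasEigenvector ⟨Module.End.mem_eigenspace_iff.2 hx, h0⟩)
    rw [hS] at this
    exact this
  have hr00 : r.eval 0 ≠ 0 := by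
    intro h
    rw [h, zero_mul] at hr0
    exact pow_ne_zero _ hk (neg_eq_zero.1 hr0.symm)
  have hinj : ∀ x, S x = 0 → x = 0 := fun x hx => heig 0 hr00 x (by rw [hx, zero_smul])
  obtain ⟨P, hP⟩ : ∃ P : End F ((F × F) × (W × W)), P = (M (s • (1 : End F F))).prodMap (M S) := ⟨_, rfl⟩
  obtain ⟨A₁, hA₁⟩ : ∃ P : End F ((F × F) × (W × W)), P = (A (s • (1 : End F F))).prodMap (A S) := ⟨_, rfl⟩
  obtain ⟨U₁, hU₁⟩ : ∃ P : End F ((F × F) × (W × W)), P = (U : End F (F × F)).prodMap (U : End F (W × W)) :=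
    ⟨_, rfl⟩
  obtain ⟨E₁, hE₁⟩ : ∃ P : End F ((F × F) × (W × W)), P = (E (s • (1 : End F F)) 1).prodMap (E S k) :=
    ⟨_, rfl⟩
  have hAU : A₁ * U₁ = P := by rw [hA₁, hU₁, hP]; rfl
  have hT : (1 + N) = Φ.conj U₁ := by
    refine LinearMap.ext fun x => ?_
    obtain ⟨z, rfl⟩ := Φ.surjective x
    rw [LinearEquiv.conj_apply_apply, LinearEquiv.symm_apply_apply, LinearMap.add_apply,
      Module.End.one_apply, hΦ, ← map_add, hU₁]
    congr 1
    obtain ⟨⟨a, c⟩, x, y⟩ := z
    simp
  have hdetS : LinearMap.det S = (-1) ^ (b - 1) * r.eval 0 := by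
    rw [LinearMap.det_eq_sign_charpoly_coeff, hS, hW, coeff_zero_eq_eval_zero]
  have hdetE : LinearMap.det E₁ = 1 := by
    rw [hE₁, LinearMap.det_prodMap, det_E, det_E, hdetS, hW, finrank_self, LinearMap.det_smul, map_one,
      finrank_self]
    have h1 : k⁻¹ ^ (2 * (b - 1)) * k ^ (2 * (b - 1)) = 1 := by
      rw [← mul_pow, inv_mul_cancel₀ hk, one_pow]
    have h2 : ((-1 : F) ^ (b - 1)) * (-1) ^ (b - 1) = 1 := by rw [← mul_pow]; simp
    simp only [pow_one, inv_one, one_pow, mul_one]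
    linear_combination (-(s * r.eval 0 * k⁻¹ ^ (2 * (b - 1)))) * h2 - k⁻¹ ^ (2 * (b - 1)) * hr0 + h1
  -- the two factors
  have hs1 : SimS (l • (1 + N)) (Φ.conj (l • A₁)) := by
    refine simS_of_det (f := Φ.conj E₁) ?_ fun x => ?_
    · rw [LinearEquiv.conj_apply, LinearMap.comp_assoc, LinearMap.det_conj, hdetE]
    · obtain ⟨z, rfl⟩ := Φ.surjective x
      rw [hT]
      simp only [LinearMap.smul_apply, LinearEquiv.conj_apply_apply, LinearEquiv.symm_apply_apply, map_smul]
      congr 2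
      rw [hE₁, hU₁, hA₁]
      exact Prod.ext (E_U _ _ _) (E_U _ _ _)
  have hs2 : SimS (l • (1 + N)) (Φ.conj (l • U₁)) := by
    rw [map_smul, ← hT]
    exact ⟨LinearEquiv.refl F V, by simp, fun x => rfl⟩
  refine ⟨Φ.conj ((l * l) • P), (l * l) * α, ⟨?_, ?_⟩, [Φ.conj (l • A₁), Φ.conj (l • U₁)], rfl, ?_, ?_⟩
  · -- cyclic
    have h1 : Coc P := by rw [hP]; exact coc_M hφ hs0 hinj (heig s hrs)
    obtain ⟨ψ, hψ⟩ := h1
    have h2 : Coc ((l * l) • P) := by
      refine ⟨ψ, fun Z h3 h4 => hψ Z h3 fun x hx => ?_⟩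
      have h5 := Z.smul_mem (l * l)⁻¹ (h4 x hx)
      rwa [LinearMap.smul_apply, smul_smul, inv_mul_cancel₀ (mul_ne_zero hl hl), one_smul] at h5
    exact Cfsg.Agent.H560.CovC.Coc.of_simG h2 ⟨Φ, fun x => by
      rw [LinearEquiv.conj_apply_apply, LinearEquiv.symm_apply_apply]⟩
  · have h1 : (l * l) • P = ((l * l) • M (s • (1 : End F F))).prodMap ((l * l) • M S) := by
      rw [hP]; rfl
    rw [LinearEquiv.charpoly_conj, h1, LinearMap.charpoly_prodMap, charpoly_line hα hs, mul_assoc]
    refine ⟨_, rfl, ?_⟩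
    rw [eval_mul]
    refine mul_ne_zero ?_ fun h => hrs ?_
    · simp only [eval_sub, eval_X, eval_C]
      rw [← mul_sub]
      exact mul_ne_zero (mul_ne_zero hl hl) (sub_ne_zero.2 hα')
    · have := eval_M S (mul_ne_zero hl hl) hα hs h
      rwa [hS] at this
  · intro B hB
    simp only [List.mem_cons, List.not_mem_nil, or_false] at hB
    rcases hB with rfl | rfl
    · exact hs1
    · exact hs2
  · simp only [List.prod_cons, List.prod_nil, mul_one]
    rw [← hAU]
    refine LinearMap.ext fun x => ?_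
    obtain ⟨z, rfl⟩ := Φ.surjective x
    simp only [Module.End.mul_apply, LinearMap.smul_apply, LinearEquiv.conj_apply_apply,
      LinearEquiv.symm_apply_apply, map_smul, smul_smul]

end Cfsg.Agent.H12.CovP
end
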