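import Mathlib
set_option linter.all false

-- part: H158/AbelArith
section
/-!
# The numbers: largest orders of abelian subgroups of symmetric and alternating groups

`S n` and `M n` are the largest orders of abelian subgroups of the symmetric, alternating group of
degree `n`; here are the inequalities needed for the recursion.
-/

set_option autoImplicit false

namespace Cfsg.Agent.H158.AbelArith

/-- Largest order of an abelian subgroup of the symmetric group of degree `n`. -/
def S : ℕ → ℕ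
  | 0 => 1
  | 1 => 1
  | 2 => 2
  | 3 => 3
  | 4 => 4
  | (n + 5) => 3 * S (n + 2)

/-- Largest order of an abelian subgroup of the alternating group of degree `n`. -/
def M : ℕ → ℕ
  | 0 => 1
  | 1 => 1
  | 2 => 1
  | 3 => 3
  | 4 => 4
  | 5 => 5
  | 6 => 9
  | 7 => 12
  | 8 => 16
  | (n + 9) => 3 * M (n + 6)

theorem S_add {n : ℕ} (h : 2 ≤ n) : S (n + 3) = 3 * S n := by
  obtain ⟨k, rfl⟩ : ∃ k, n = k + 2 := ⟨n - 2, by omega⟩
  rfl

theorem M_add {n : ℕ} (h : 6 ≤ n) : M (n + 3) = 3 * M n := by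
  obtain ⟨k, rfl⟩ : ∃ k, n = k + 6 := ⟨n - 6, by omega⟩
  rfl

/-- Induction with step three. -/
theorem three_ind {P : ℕ → Prop} (N : ℕ) (base : ∀ n < N + 3, P n)
    (step : ∀ n, N ≤ n → P n → P (n + 3)) : ∀ n, P n := by
  intro n
  induction n using Nat.strong_induction_on with
  | _ n ih =>
    by_cases h : n < N + 3
    · exact base n h
    · obtain ⟨k, rfl⟩ : ∃ k, n = k + 3 := ⟨n - 3, by omega⟩
      exact step k (by omega) (ih k (by omega))

theorem S_pos : ∀ n, 0 < S n := by
  refine three_ind (P := fun n => 0 < S n) 2 ?_ ?_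
  · decide
  · intro n hn h
    rw [S_add hn]
    omega

theorem M_pos : ∀ n, 0 < M n := by
  refine three_ind (P := fun n => 0 < M n) 6 ?_ ?_
  · decide
  · intro n hn h
    rw [M_add hn]
    omega

theorem mul_S_le : ∀ b a : ℕ, 1 ≤ a → a * S b ≤ S (a + b) := by
  refine three_ind (P := fun b => ∀ a : ℕ, 1 ≤ a → a * S b ≤ S (a + b)) 2 ?_ ?_
  · intro b hb
    refine three_ind (P := fun a => 1 ≤ a → a * S b ≤ S (a + b)) 3 ?_ ?_
    · revert b
      decide
    · intro a ha ih _
      have h1 : a + 3 + b = (a + b) + 3 := by ring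
      have h2 := ih (by omega)
      rw [h1, S_add (by omega)]
      have h3 : 3 * (a * S b) ≤ 3 * S (a + b) := by omega
      have h4 : (a + 3) * S b ≤ 3 * (a * S b) := by
        have : a + 3 ≤ 3 * a := by omega
        calc (a + 3) * S b ≤ (3 * a) * S b := Nat.mul_le_mul_right _ this
          _ = 3 * (a * S b) := by ring
      omega
  · intro b hb ih a ha
    have h1 : a + (b + 3) = (a + b) + 3 := by ring
    rw [h1, S_add hb, S_add (by omega)]
    have := ih a ha
    calc a * (3 * S b) = 3 * (a * S b) := by ring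
      _ ≤ _ := Nat.mul_le_mul_left _ this

theorem mul_M_le : ∀ b a : ℕ, 1 ≤ a → a ≠ 2 → a * M b ≤ M (a + b) := by
  refine three_ind (P := fun b => ∀ a : ℕ, 1 ≤ a → a ≠ 2 → a * M b ≤ M (a + b)) 6 ?_ ?_
  · intro b hb
    refine three_ind (P := fun a => 1 ≤ a → a ≠ 2 → a * M b ≤ M (a + b)) 6 ?_ ?_
    · revert b
      decide
    · intro a ha ih _ _
      have h1 : a + 3 + b = (a + b) + 3 := by ring
      have h2 := ih (by omega) (by omega)
      rw [h1, M_add (by omega)]
      have h4 : (a + 3) * M b ≤ 3 * (a * M b) := by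
        have : a + 3 ≤ 3 * a := by omega
        calc (a + 3) * M b ≤ (3 * a) * M b := Nat.mul_le_mul_right _ this
          _ = 3 * (a * M b) := by ring
      omega
  · intro b hb ih a ha ha2
    have h1 : a + (b + 3) = (a + b) + 3 := by ring
    rw [h1, M_add hb, M_add (by omega)]
    have := ih a ha ha2
    calc a * (3 * M b) = 3 * (a * M b) := by ring
      _ ≤ _ := Nat.mul_le_mul_left _ this

/-- Orbits of size at least five are not optimal. -/
theorem mul_M_lt : ∀ b a : ℕ, 5 ≤ a → 6 ≤ a + b → a * M b < M (a + b) := by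
  refine three_ind (P := fun b => ∀ a : ℕ, 5 ≤ a → 6 ≤ a + b → a * M b < M (a + b)) 6 ?_ ?_
  · intro b hb
    refine three_ind (P := fun a => 5 ≤ a → 6 ≤ a + b → a * M b < M (a + b)) 5 ?_ ?_
    · revert b
      decide
    · intro a ha ih _ _
      have h1 : a + 3 + b = (a + b) + 3 := by ring
      by_cases hab : 6 ≤ a + b
      · have h2 := ih (by omega) hab
        rw [h1, M_add (by omega)]
        have h4 : (a + 3) * M b ≤ 3 * (a * M b) := by
          have : a + 3 ≤ 3 * a := by omega
          calc (a + 3) * M b ≤ (3 * a) * M b := Nat.mul_le_mul_right _ this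
            _ = 3 * (a * M b) := by ring
        omega
      · obtain rfl : a = 5 := by omega
        obtain rfl : b = 0 := by omega
        decide
  · intro b hb ih a ha hab
    have h1 : a + (b + 3) = (a + b) + 3 := by ring
    rw [h1, M_add hb, M_add (by omega)]
    have := ih a ha (by omega)
    calc a * (3 * M b) = 3 * (a * M b) := by ring
      _ < _ := Nat.mul_lt_mul_of_pos_left this (by omega)

theorem M_lt_succ : ∀ n, 2 ≤ n → M n < M (n + 1) := by
  refine three_ind (P := fun n => 2 ≤ n → M n < M (n + 1)) 6 ?_ ?_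
  · decide
  · intro n hn ih _
    have h1 : n + 3 + 1 = (n + 1) + 3 := by ring
    have := ih (by omega)
    rw [h1, M_add hn, M_add (by omega)]
    omega

theorem S_lt_M_two : ∀ n, 1 ≤ n → S n < M (n + 2) := by
  refine three_ind (P := fun n => 1 ≤ n → S n < M (n + 2)) 6 ?_ ?_
  · decide
  · intro n hn ih _
    have h1 : n + 3 + 2 = (n + 2) + 3 := by ring
    have := ih (by omega)
    rw [h1, M_add (by omega), S_add (by omega)]
    omega

theorem two_S_lt_M : ∀ n, 2 * S n < M (n + 3) := by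
  refine three_ind (P := fun n => 2 * S n < M (n + 3)) 6 ?_ ?_
  · decide
  · intro n hn ih
    rw [M_add (n := n + 3) (by omega), S_add (by omega)]
    omega

theorem three_S_lt_M : ∀ n, 3 * S n < M (n + 4) := by
  refine three_ind (P := fun n => 3 * S n < M (n + 4)) 6 ?_ ?_
  · decide
  · intro n hn ih
    have h1 : n + 3 + 4 = (n + 4) + 3 := by ring
    rw [h1, M_add (by omega), S_add (by omega)]
    omega

theorem four_M_lt : ∀ n, 2 ≤ n → (n + 4) % 3 = 0 → 4 * M n < M (n + 4) := by
  refine three_ind (P := fun n => 2 ≤ n → (n + 4) % 3 = 0 → 4 * M n < M (n + 4)) 6 ?_ ?_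
  · decide
  · intro n hn ih _ hm
    have h1 : n + 3 + 4 = (n + 4) + 3 := by ring
    have := ih (by omega) (by omega)
    rw [h1, M_add (by omega), M_add (by omega)]
    omega

theorem four_M_eq : ∀ n, n ≠ 1 → (n + 4) % 3 ≠ 0 → 4 * M n = M (n + 4) := by
  refine three_ind (P := fun n => n ≠ 1 → (n + 4) % 3 ≠ 0 → 4 * M n = M (n + 4)) 6 ?_ ?_
  · decide
  · intro n hn ih _ hm
    have h1 : n + 3 + 4 = (n + 4) + 3 := by ring
    have := ih (by omega) (by omega)
    rw [h1, M_add (by omega), M_add (by omega)]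
    omega

theorem three_M_eq : ∀ n, n % 3 = 0 → 3 * M n = M (n + 3) := by
  refine three_ind (P := fun n => n % 3 = 0 → 3 * M n = M (n + 3)) 6 ?_ ?_
  · decide
  · intro n hn ih _
    rw [M_add (n := n + 3) (by omega), M_add (n := n) (by omega)]

theorem S_three (k : ℕ) : S (3 * k) = 3 ^ k := by
  induction k with
  | zero => rfl
  | succ k ih =>
    by_cases h : k = 0
    · subst h; rfl
    · rw [show 3 * (k + 1) = 3 * k + 3 by ring, S_add (by omega), ih]
      ring

theorem S_three_one (k : ℕ) : S (3 * (k + 1) + 1) = 4 * 3 ^ k := by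
  induction k with
  | zero => rfl
  | succ k ih =>
    rw [show 3 * (k + 1 + 1) + 1 = (3 * (k + 1) + 1) + 3 by ring, S_add (by omega), ih]
    ring

theorem S_three_two (k : ℕ) : S (3 * k + 2) = 2 * 3 ^ k := by
  induction k with
  | zero => rfl
  | succ k ih =>
    rw [show 3 * (k + 1) + 2 = (3 * k + 2) + 3 by ring, S_add (by omega), ih]
    ring

theorem M_three (k : ℕ) : M (3 * k) = 3 ^ k := by
  induction k with
  | zero => rfl
  | succ k ih =>
    rw [show 3 * (k + 1) = 3 * k + 3 by ring, ← three_M_eq _ (by omega), ih]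
    ring

theorem M_three_one (k : ℕ) : M (3 * (k + 1) + 1) = 4 * 3 ^ k := by
  rw [show 3 * (k + 1) + 1 = 3 * k + 4 by ring, ← four_M_eq _ (by omega) (by omega), M_three]

theorem M_three_two (k : ℕ) : M (3 * (k + 2) + 2) = 16 * 3 ^ k := by
  rw [show 3 * (k + 2) + 2 = (3 * k + 4) + 4 by ring, ← four_M_eq _ (by omega) (by omega),
    ← four_M_eq _ (by omega) (by omega), M_three]
  ring

end Cfsg.Agent.H158.AbelArith
end

-- part: H158/AbelPerm
section
/-!
# Abelian permutation groups: peeling off an orbit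

`A` an abelian subgroup of `Perm α` moving only points of `T`, `x ∈ T`, `Δ` the orbit of `x`:
`K = A ∩ Stab x` moves only points of `T \ Δ`, and `|A| = |Δ| |K|`; `N = A ∩ Sym Δ` has order at
most `|Δ|`, and `|A| = |N| |A'|` where `A'` is the group induced by `A` on `T \ Δ`.
-/

set_option autoImplicit false
set_option linter.unusedSectionVars false

namespace Cfsg.Agent.H158.AbelPerm

open Equiv

variable {α : Type*} [DecidableEq α] [Fintype α]

theorem inv_app (g : Perm α) (x : α) : g⁻¹ (g x) = x := g.symm_apply_apply x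

theorem app_inv (g : Perm α) (x : α) : g (g⁻¹ x) = x := g.apply_symm_apply x

/-- The permutations fixing all points outside `T`. -/
def fixOut (T : Finset α) : Subgroup (Perm α) where
  carrier := {g | ∀ x, x ∉ T → g x = x}
  one_mem' := fun _ _ => rfl
  mul_mem' := fun {g h} hg hh x hx => by
    rw [Perm.mul_apply, hh x hx, hg x hx]
  inv_mem' := fun {g} hg x hx => by
    rw [Perm.inv_eq_iff_eq, hg x hx]

theorem mem_fixOut {T : Finset α} {g : Perm α} : g ∈ fixOut T ↔ ∀ x, x ∉ T → g x = x := Iff.rfl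

theorem fixOut_mono {T U : Finset α} (h : T ⊆ U) : fixOut T ≤ fixOut U :=
  fun _ hg x hx => hg x fun h1 => hx (h h1)

theorem apply_mem_of_fixOut {T : Finset α} {g : Perm α} (hg : g ∈ fixOut T) {x : α} (hx : x ∈ T) :
    g x ∈ T := by
  by_contra h
  have h1 := hg (g x) h
  exact h (by rw [g.injective h1]; exact hx)

/-- Permutations with disjoint supports commute. -/
theorem comm_of_disjoint {T U : Finset α} (h : Disjoint T U) {g k : Perm α} (hg : g ∈ fixOut T)
    (hk : k ∈ fixOut U) : g * k = k * g := by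
  ext x
  rw [Perm.mul_apply, Perm.mul_apply]
  by_cases hx : x ∈ T
  · have h1 : x ∉ U := Finset.disjoint_left.1 h hx
    have h2 : g x ∉ U := Finset.disjoint_left.1 h (apply_mem_of_fixOut hg hx)
    rw [hk x h1, hk _ h2]
  · rw [hg x hx]
    by_cases hx2 : x ∈ U
    · rw [hg _ (Finset.disjoint_right.1 h (apply_mem_of_fixOut hk hx2))]
    · rw [hk x hx2, hg x hx]

theorem eq_one_of_disjoint {T U : Finset α} (h : Disjoint T U) {g : Perm α} (hg : g ∈ fixOut T)
    (hk : g ∈ fixOut U) : g = 1 := by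
  ext x
  by_cases hx : x ∈ T
  · rw [hk x (Finset.disjoint_left.1 h hx), Perm.one_apply]
  · rw [hg x hx, Perm.one_apply]

/-- The orbit of `x`. -/
noncomputable def orb (A : Subgroup (Perm α)) (x : α) : Finset α := by
  classical
  exact Finset.univ.filter fun y => ∃ g ∈ A, g x = y

theorem mem_orb {A : Subgroup (Perm α)} {x y : α} : y ∈ orb A x ↔ ∃ g ∈ A, g x = y := by
  classical
  simp [orb]

theorem self_mem_orb (A : Subgroup (Perm α)) (x : α) : x ∈ orb A x := mem_orb.2 ⟨1, A.one_mem, rfl⟩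

theorem orb_apply {A : Subgroup (Perm α)} {x y : α} {g : Perm α} (hg : g ∈ A) :
    g y ∈ orb A x ↔ y ∈ orb A x := by
  constructor
  · intro h
    obtain ⟨k, hk, hky⟩ := mem_orb.1 h
    refine mem_orb.2 ⟨g⁻¹ * k, A.mul_mem (A.inv_mem hg) hk, ?_⟩
    rw [Perm.mul_apply, hky, inv_app]
  · intro h
    obtain ⟨k, hk, rfl⟩ := mem_orb.1 h
    exact mem_orb.2 ⟨g * k, A.mul_mem hg hk, rfl⟩

theorem orb_subset {A : Subgroup (Perm α)} {T : Finset α} (hA : A ≤ fixOut T) {x : α} (hx : x ∈ T) :
    orb A x ⊆ T := by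
  intro y hy
  obtain ⟨k, hk, rfl⟩ := mem_orb.1 hy
  exact apply_mem_of_fixOut (hA hk) hx

theorem orb_eq {A : Subgroup (Perm α)} {x y : α} (h : y ∈ orb A x) : orb A y = orb A x := by
  obtain ⟨k, hk, rfl⟩ := mem_orb.1 h
  ext z
  constructor
  · intro hz
    obtain ⟨l, hl, rfl⟩ := mem_orb.1 hz
    exact mem_orb.2 ⟨l * k, A.mul_mem hl hk, rfl⟩
  · intro hz
    obtain ⟨l, hl, rfl⟩ := mem_orb.1 hz
    refine mem_orb.2 ⟨l * k⁻¹, A.mul_mem hl (A.inv_mem hk), ?_⟩
    rw [Perm.mul_apply, inv_app]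

/-- The stabilizer of `x` in `A`. -/
def stab (A : Subgroup (Perm α)) (x : α) : Subgroup (Perm α) where
  carrier := {g | g ∈ A ∧ g x = x}
  one_mem' := ⟨A.one_mem, rfl⟩
  mul_mem' := fun {g h} hg hh => ⟨A.mul_mem hg.1 hh.1, by rw [Perm.mul_apply, hh.2, hg.2]⟩
  inv_mem' := fun {g} hg => ⟨A.inv_mem hg.1, by rw [Perm.inv_eq_iff_eq, hg.2]⟩

theorem mem_stab {A : Subgroup (Perm α)} {x : α} {g : Perm α} : g ∈ stab A x ↔ g ∈ A ∧ g x = x :=
  Iff.rfl

theorem stab_le (A : Subgroup (Perm α)) (x : α) : stab A x ≤ A := fun _ h => h.1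

theorem card_eq_orb (A : Subgroup (Perm α)) (x : α) :
    Nat.card A = (orb A x).card * Nat.card (stab A x) := by
  classical
  have h1 := MulAction.card_orbit_mul_card_stabilizer_eq_card_group A x
  rw [← Nat.card_eq_fintype_card, ← Nat.card_eq_fintype_card, ← Nat.card_eq_fintype_card] at h1
  rw [← h1]
  congr 1
  · rw [← Nat.card_eq_fintype_card (α := ↥(orb A x)) |>.trans (Fintype.card_coe _)]
    apply Nat.card_congr
    refine Equiv.subtypeEquivRight fun y => ?_
    rw [mem_orb]
    constructor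
    · rintro ⟨g, rfl⟩
      exact ⟨g.1, g.2, rfl⟩
    · rintro ⟨g, hg, rfl⟩
      exact ⟨⟨g, hg⟩, rfl⟩
  · apply Nat.card_congr
    refine ⟨fun g => ⟨g.1.1, g.1.2, g.2⟩, fun g => ⟨⟨g.1, g.2.1⟩, g.2.2⟩, fun g => rfl, fun g => rfl⟩

section comm

variable {A : Subgroup (Perm α)} (hc : ∀ g ∈ A, ∀ h ∈ A, g * h = h * g)

include hc

/-- An element of the abelian group `A` fixing `x` fixes the orbit of `x` pointwise. -/
theorem fix_orb {x : α} {g : Perm α} (hg : g ∈ A) (hx : g x = x) {y : α} (hy : y ∈ orb A x) :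
    g y = y := by
  obtain ⟨k, hk, rfl⟩ := mem_orb.1 hy
  rw [← Perm.mul_apply, hc g hg k hk, Perm.mul_apply, hx]

theorem stab_le_fixOut {T : Finset α} (hA : A ≤ fixOut T) (x : α) :
    stab A x ≤ fixOut (T \ orb A x) := by
  intro g hg y hy
  by_cases h : y ∈ T
  · have h1 : y ∈ orb A x := by
      by_contra h2
      exact hy (Finset.mem_sdiff.2 ⟨h, h2⟩)
    exact fix_orb hc hg.1 hg.2 h1
  · exact hA hg.1 y h

/-- The order of `A ∩ Sym Δ` is at most `|Δ|`. -/
theorem card_inf_le (x : α) : Nat.card (A ⊓ fixOut (orb A x) : Subgroup (Perm α)) ≤ (orb A x).card := by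
  classical
  rw [← Nat.card_eq_fintype_card (α := ↥(orb A x)) |>.trans (Fintype.card_coe _)]
  let f : (A ⊓ fixOut (orb A x) : Subgroup (Perm α)) → ↥(orb A x) := fun g =>
    ⟨g.1 x, (orb_apply g.2.1).2 (self_mem_orb A x)⟩
  apply Nat.card_le_card_of_injective f
  rintro ⟨g, hg⟩ ⟨k, hk⟩ h
  have h1 : g x = k x := congrArg Subtype.val h
  have h2 : (k⁻¹ * g) x = x := by rw [Perm.mul_apply, h1, inv_app]
  have h3 : k⁻¹ * g ∈ A := A.mul_mem (A.inv_mem hk.1) hg.1
  have h4 : k⁻¹ * g = 1 := by
    ext y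
    rw [Perm.one_apply]
    by_cases hy : y ∈ orb A x
    · exact fix_orb hc h3 h2 hy
    · exact (fixOut (orb A x)).mul_mem ((fixOut _).inv_mem hk.2) hg.2 y hy
  apply Subtype.ext
  exact (inv_mul_eq_one.1 h4).symm

end comm

/-- The restriction of the elements of `A` to the complement of the orbit of `x`. -/
noncomputable def res (A : Subgroup (Perm α)) (x : α) : A →* Perm α where
  toFun g :=
    { toFun := fun y => if y ∈ orb A x then y else g.1 y
      invFun := fun y => if y ∈ orb A x then y else g.1⁻¹ y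
      left_inv := fun y => by
        by_cases h : y ∈ orb A x
        · simp [h]
        · have h1 : g.1 y ∉ orb A x := fun h2 => h ((orb_apply g.2).1 h2)
          simp [h, h1]
      right_inv := fun y => by
        by_cases h : y ∈ orb A x
        · simp [h]
        · have h1 : g.1⁻¹ y ∉ orb A x := fun h2 => h ((orb_apply (A.inv_mem g.2)).1 h2)
          dsimp only
          rw [if_neg h, if_neg h1, app_inv] }
  map_one' := by
    ext y
    simp
  map_mul' g k := by
    ext y
    show (if y ∈ orb A x then y else (g * k).1 y) =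
      (if (if y ∈ orb A x then y else k.1 y) ∈ orb A x then (if y ∈ orb A x then y else k.1 y)
        else g.1 (if y ∈ orb A x then y else k.1 y))
    by_cases h : y ∈ orb A x
    · simp [h]
    · have h1 : k.1 y ∉ orb A x := fun h2 => h ((orb_apply k.2).1 h2)
      simp [h, h1]

theorem res_apply_of_mem {A : Subgroup (Perm α)} {x y : α} (g : A) (h : y ∈ orb A x) :
    res A x g y = y := by
  show (if y ∈ orb A x then y else g.1 y) = y
  rw [if_pos h]

theorem res_apply_of_notMem {A : Subgroup (Perm α)} {x y : α} (g : A) (h : y ∉ orb A x) :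
    res A x g y = g.1 y := by
  show (if y ∈ orb A x then y else g.1 y) = g.1 y
  rw [if_neg h]

/-- `|A| = |N| |A'|`. -/
theorem card_eq_res (A : Subgroup (Perm α)) (x : α) :
    Nat.card A = Nat.card (A ⊓ fixOut (orb A x) : Subgroup (Perm α)) * Nat.card (res A x).range := by
  have h1 := Subgroup.card_mul_index (res A x).ker
  rw [Subgroup.index_ker] at h1
  rw [← h1]
  congr 1
  apply Nat.card_congr
  refine ⟨fun g => ⟨g.1.1, g.1.2, ?_⟩, fun g => ⟨⟨g.1, g.2.1⟩, ?_⟩, fun g => rfl, fun g => rfl⟩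
  · intro y hy
    have h2 : res A x g.1 = 1 := g.2
    rw [← res_apply_of_notMem g.1 hy, h2, Perm.one_apply]
  · rw [MonoidHom.mem_ker]
    ext y
    rw [Perm.one_apply]
    by_cases hy : y ∈ orb A x
    · exact res_apply_of_mem _ hy
    · rw [res_apply_of_notMem _ hy]
      exact g.2.2 y hy

theorem res_range_le {A : Subgroup (Perm α)} {T : Finset α} (hA : A ≤ fixOut T) (x : α) :
    (res A x).range ≤ fixOut (T \ orb A x) := by
  rintro _ ⟨g, rfl⟩ y hy
  by_cases h : y ∈ orb A x
  · exact res_apply_of_mem g h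
  · rw [res_apply_of_notMem g h]
    exact hA g.2 y fun h1 => hy (Finset.mem_sdiff.2 ⟨h1, h⟩)

theorem res_range_comm {A : Subgroup (Perm α)} (hc : ∀ g ∈ A, ∀ h ∈ A, g * h = h * g) (x : α) :
    ∀ g ∈ (res A x).range, ∀ h ∈ (res A x).range, g * h = h * g := by
  rintro _ ⟨g, rfl⟩ _ ⟨k, rfl⟩
  rw [← map_mul, ← map_mul]
  congr 1
  exact Subtype.ext (hc _ g.2 _ k.2)

/-- **Largest order in the symmetric group.** -/
theorem card_le_S : ∀ (n : ℕ) (T : Finset α), T.card = n → ∀ A : Subgroup (Perm α), A ≤ fixOut T →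
    (∀ g ∈ A, ∀ h ∈ A, g * h = h * g) → Nat.card A ≤ AbelArith.S n := by
  intro n
  induction n using Nat.strong_induction_on with
  | _ n ih =>
    intro T hT A hA hc
    rcases Finset.eq_empty_or_nonempty T with h | ⟨x, hx⟩
    · subst h
      have h1 : A = ⊥ := by
        rw [eq_bot_iff]
        intro g hg
        rw [Subgroup.mem_bot]
        ext y
        rw [hA hg y (Finset.notMem_empty y), Perm.one_apply]
      rw [h1, Subgroup.card_bot]
      exact AbelArith.S_pos n
    · have hs := orb_subset hA hx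
      have h1 : 1 ≤ (orb A x).card := Finset.card_pos.2 ⟨x, self_mem_orb A x⟩
      have h2 : (T \ orb A x).card = n - (orb A x).card := by
        rw [Finset.card_sdiff_of_subset hs, hT]
      have h3 : (orb A x).card ≤ n := by
        rw [← hT]
        exact Finset.card_le_card hs
      rw [card_eq_orb A x]
      have h4 := ih (n - (orb A x).card) (by omega) (T \ orb A x) h2 (stab A x)
        (stab_le_fixOut hc hA x) (fun g hg h hh => hc g hg.1 h hh.1)
      calc (orb A x).card * Nat.card (stab A x)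
          ≤ (orb A x).card * AbelArith.S (n - (orb A x).card) := Nat.mul_le_mul_left _ h4
        _ ≤ AbelArith.S ((orb A x).card + (n - (orb A x).card)) := AbelArith.mul_S_le _ _ h1
        _ = AbelArith.S n := by rw [Nat.add_sub_cancel' h3]

/-! ### Even groups -/

theorem inf_eq_bot_of_two {A : Subgroup (Perm α)} (hev : A ≤ alternatingGroup α) {Δ : Finset α}
    (h2 : Δ.card = 2) : (A ⊓ fixOut Δ : Subgroup (Perm α)) = ⊥ := by
  rw [eq_bot_iff]
  intro g hg
  rw [Subgroup.mem_bot]
  obtain ⟨x, y, hxy, rfl⟩ := Finset.card_eq_two.1 h2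
  have hf : g ∈ fixOut {x, y} := hg.2
  have hx : g x ∈ ({x, y} : Finset α) := apply_mem_of_fixOut hf (by simp)
  have hy : g y ∈ ({x, y} : Finset α) := apply_mem_of_fixOut hf (by simp)
  rw [Finset.mem_insert, Finset.mem_singleton] at hx hy
  rcases hx with hx | hx
  · have hy' : g y = y := by
      rcases hy with hy | hy
      · exact absurd (g.injective (hy.trans hx.symm)) hxy.symm
      · exact hy
    ext z
    rw [Perm.one_apply]
    by_cases hz : z ∈ ({x, y} : Finset α)
    · rw [Finset.mem_insert, Finset.mem_singleton] at hz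
      rcases hz with rfl | rfl
      · exact hx
      · exact hy'
    · exact hf z hz
  · have hy' : g y = x := by
      rcases hy with hy | hy
      · exact hy
      · exact absurd (g.injective (hx.trans hy.symm)) hxy
    exfalso
    have hg1 : g = swap x y := by
      ext z
      by_cases hz : z ∈ ({x, y} : Finset α)
      · rw [Finset.mem_insert, Finset.mem_singleton] at hz
        rcases hz with rfl | rfl
        · rw [hx, swap_apply_left]
        · rw [hy', swap_apply_right]
      · rw [hf z hz]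
        rw [Finset.mem_insert, Finset.mem_singleton, not_or] at hz
        rw [swap_apply_of_ne_of_ne hz.1 hz.2]
    have h3 : Perm.sign g = 1 := hev hg.1
    rw [hg1, Perm.sign_swap hxy] at h3
    exact absurd h3 (by decide)

/-- **Largest order in the alternating group.** -/
theorem card_le_M : ∀ (n : ℕ) (T : Finset α), T.card = n → ∀ A : Subgroup (Perm α), A ≤ fixOut T →
    (∀ g ∈ A, ∀ h ∈ A, g * h = h * g) → A ≤ alternatingGroup α → Nat.card A ≤ AbelArith.M n := by
  intro n
  induction n using Nat.strong_induction_on with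
  | _ n ih =>
    intro T hT A hA hc hev
    rcases Finset.eq_empty_or_nonempty T with h | ⟨x, hx⟩
    · subst h
      have h1 : A = ⊥ := by
        rw [eq_bot_iff]
        intro g hg
        rw [Subgroup.mem_bot]
        ext y
        rw [hA hg y (Finset.notMem_empty y), Perm.one_apply]
      rw [h1, Subgroup.card_bot]
      exact AbelArith.M_pos n
    · have hs := orb_subset hA hx
      have h1 : 1 ≤ (orb A x).card := Finset.card_pos.2 ⟨x, self_mem_orb A x⟩
      have h2 : (T \ orb A x).card = n - (orb A x).card := by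
        rw [Finset.card_sdiff_of_subset hs, hT]
      have h3 : (orb A x).card ≤ n := by
        rw [← hT]
        exact Finset.card_le_card hs
      by_cases hd : (orb A x).card = 2
      · rw [card_eq_res A x, inf_eq_bot_of_two hev hd, Subgroup.card_bot, one_mul]
        refine (card_le_S _ _ h2 _ (res_range_le hA x) (res_range_comm hc x)).trans ?_
        rw [hd] at h3 ⊢
        obtain ⟨m, rfl⟩ : ∃ m, n = m + 2 := ⟨n - 2, by omega⟩
        rw [Nat.add_sub_cancel]
        rcases Nat.eq_zero_or_pos m with rfl | hm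
        · decide
        · exact (AbelArith.S_lt_M_two m hm).le
      · rw [card_eq_orb A x]
        have h4 := ih (n - (orb A x).card) (by omega) (T \ orb A x) h2 (stab A x)
          (stab_le_fixOut hc hA x) (fun g hg h hh => hc g hg.1 h hh.1) ((stab_le A x).trans hev)
        calc (orb A x).card * Nat.card (stab A x)
            ≤ (orb A x).card * AbelArith.M (n - (orb A x).card) := Nat.mul_le_mul_left _ h4
          _ ≤ AbelArith.M ((orb A x).card + (n - (orb A x).card)) := AbelArith.mul_M_le _ _ h1 hd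
          _ = AbelArith.M n := by rw [Nat.add_sub_cancel' h3]

end Cfsg.Agent.H158.AbelPerm
end

-- part: H158/AbelW
section
/-!
# The regular even abelian groups of degree three and four
-/

set_option autoImplicit false
set_option linter.unusedSectionVars false

namespace Cfsg.Agent.H158.AbelW

open Equiv Cfsg.Agent.H158.AbelPerm

theorem fin3_mul : ∀ g h : Perm (Fin 3), Perm.sign g = 1 → g ^ 3 = 1 → Perm.sign h = 1 → h ^ 3 = 1 →
    (g * h) ^ 3 = 1 ∧ g * h = h * g := by decide +kernel

theorem fin3_card : (Finset.univ.filter fun g : Perm (Fin 3) => Perm.sign g = 1 ∧ g ^ 3 = 1).card = 3 := by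
  decide +kernel

theorem fin4_mul : ∀ g h : Perm (Fin 4), Perm.sign g = 1 → g ^ 4 = 1 → Perm.sign h = 1 → h ^ 4 = 1 →
    (g * h) ^ 4 = 1 ∧ g * h = h * g := by decide +kernel

theorem fin4_card : (Finset.univ.filter fun g : Perm (Fin 4) => Perm.sign g = 1 ∧ g ^ 4 = 1).card = 4 := by
  decide +kernel

theorem exists_W0 {a : ℕ} (ha : a = 3 ∨ a = 4) : ∃ W : Subgroup (Perm (Fin a)),
    (∀ g, g ∈ W ↔ Perm.sign g = 1 ∧ g ^ a = 1) ∧ (∀ g ∈ W, ∀ h ∈ W, g * h = h * g) ∧
      Nat.card W = a := by
  have key : (∀ g h : Perm (Fin a), Perm.sign g = 1 → g ^ a = 1 → Perm.sign h = 1 → h ^ a = 1 →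
    (g * h) ^ a = 1 ∧ g * h = h * g) ∧
    (Finset.univ.filter fun g : Perm (Fin a) => Perm.sign g = 1 ∧ g ^ a = 1).card = a := by
    rcases ha with rfl | rfl
    · exact ⟨fin3_mul, fin3_card⟩
    · exact ⟨fin4_mul, fin4_card⟩
  let W : Subgroup (Perm (Fin a)) :=
    { carrier := {g | Perm.sign g = 1 ∧ g ^ a = 1}
      one_mem' := ⟨Perm.sign_one, one_pow _⟩
      mul_mem' := fun {g h} hg hh => ⟨by rw [Perm.sign_mul, hg.1, hh.1, one_mul],
        (key.1 g h hg.1 hg.2 hh.1 hh.2).1⟩
      inv_mem' := fun {g} hg => ⟨by rw [Perm.sign_inv, hg.1], by rw [inv_pow, hg.2, inv_one]⟩ }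
  refine ⟨W, fun g => Iff.rfl, fun g hg h hh => (key.1 g h hg.1 hg.2 hh.1 hh.2).2, ?_⟩
  refine Eq.trans ?_ key.2
  show Nat.card {g : Perm (Fin a) // Perm.sign g = 1 ∧ g ^ a = 1} = _
  rw [Nat.card_eq_fintype_card, Fintype.card_subtype]

variable {α : Type*} [DecidableEq α] [Fintype α]

/-- The embedding of `Perm (Fin a)` with image the permutations supported in `Δ`. -/
theorem exists_hom (Δ : Finset α) {a : ℕ} (ha : Δ.card = a) :
    ∃ j : Perm (Fin a) →* Perm α, Function.Injective j ∧ (∀ g, Perm.sign (j g) = Perm.sign g) ∧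
      ∀ k : Perm α, k ∈ fixOut Δ ↔ ∃ g, j g = k := by
  classical
  let f : Fin a ≃ {x // x ∈ Δ} := (Δ.equivFinOfCardEq ha).symm
  refine ⟨Perm.extendDomainHom f, Perm.extendDomainHom_injective f,
    fun g => Perm.sign_extendDomain g f, ?_⟩
  intro k
  constructor
  · intro hk
    have h1 : ∀ x, k x ∈ Δ ↔ x ∈ Δ := by
      intro x
      constructor
      · intro h
        by_contra h2
        rw [hk x h2] at h
        exact h2 h
      · exact fun h => apply_mem_of_fixOut hk h
    refine ⟨f.permCongr.symm (k.subtypePerm h1), ?_⟩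
    ext y
    show Perm.extendDomain _ f y = k y
    by_cases hy : y ∈ Δ
    · rw [Perm.extendDomain_apply_subtype _ _ hy]
      simp
    · rw [Perm.extendDomain_apply_not_subtype _ _ hy, hk y hy]
  · rintro ⟨g, rfl⟩ y hy
    exact Perm.extendDomain_apply_not_subtype _ _ hy

/-- The group `W(Δ)` of order `|Δ|`, for `|Δ| = 3, 4`. -/
theorem exists_W {Δ : Finset α} (h : Δ.card = 3 ∨ Δ.card = 4) : ∃ W : Subgroup (Perm α),
    (∀ g, g ∈ W ↔ g ∈ fixOut Δ ∧ Perm.sign g = 1 ∧ g ^ Δ.card = 1) ∧
      (∀ g ∈ W, ∀ h ∈ W, g * h = h * g) ∧ Nat.card W = Δ.card := by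
  obtain ⟨W, hW, hc, hcard⟩ := exists_W0 h
  obtain ⟨j, hj, hs, hr⟩ := exists_hom Δ rfl
  refine ⟨W.map j, ?_, ?_, ?_⟩
  · intro g
    rw [Subgroup.mem_map]
    constructor
    · rintro ⟨x, hx, rfl⟩
      rw [hW] at hx
      refine ⟨(hr _).2 ⟨x, rfl⟩, by rw [hs, hx.1], by rw [← map_pow, hx.2, map_one]⟩
    · rintro ⟨h1, h2, h3⟩
      obtain ⟨x, rfl⟩ := (hr g).1 h1
      refine ⟨x, (hW x).2 ⟨by rw [← hs, h2], ?_⟩, rfl⟩
      apply hj
      rw [map_pow, h3, map_one]
  · rintro _ ⟨x, hx, rfl⟩ _ ⟨y, hy, rfl⟩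
    rw [← map_mul, hc x hx y hy, map_mul]
  · exact (Nat.card_congr (W.equivMapOfInjective j hj).toEquiv).symm.trans hcard

/-- `A ∩ Sym Δ` is `W(Δ)` if it has order `|Δ| = 3, 4`. -/
theorem mem_inf_iff {A : Subgroup (Perm α)} (hev : A ≤ alternatingGroup α) {Δ : Finset α}
    (h : Δ.card = 3 ∨ Δ.card = 4)
    (hN : Nat.card (A ⊓ fixOut Δ : Subgroup (Perm α)) = Δ.card) (g : Perm α) :
    (g ∈ A ∧ g ∈ fixOut Δ) ↔ (g ∈ fixOut Δ ∧ Perm.sign g = 1 ∧ g ^ Δ.card = 1) := by
  obtain ⟨W, hW, -, hcard⟩ := exists_W h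
  have hle : (A ⊓ fixOut Δ : Subgroup (Perm α)) ≤ W := by
    intro k hk
    rw [hW]
    refine ⟨hk.2, hev hk.1, ?_⟩
    have h1 : (⟨k, hk⟩ : (A ⊓ fixOut Δ : Subgroup (Perm α))) ^ Nat.card (A ⊓ fixOut Δ : Subgroup (Perm α)) = 1 :=
      pow_card_eq_one'
    rw [hN] at h1
    exact congrArg Subtype.val h1
  have heq : (A ⊓ fixOut Δ : Subgroup (Perm α)) = W :=
    Subgroup.eq_of_le_of_card_ge hle (by rw [hN, hcard])
  rw [← hW, ← heq]
  exact Iff.rfl

/-- The group generated by two abelian groups with disjoint supports. -/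
theorem exists_prod {Δ C : Finset α} (hd : Disjoint Δ C) {W K : Subgroup (Perm α)}
    (hW : W ≤ fixOut Δ) (hK : K ≤ fixOut C) (hWc : ∀ g ∈ W, ∀ h ∈ W, g * h = h * g)
    (hKc : ∀ g ∈ K, ∀ h ∈ K, g * h = h * g) :
    ∃ A : Subgroup (Perm α), (∀ g, g ∈ A ↔ ∃ w ∈ W, ∃ k ∈ K, w * k = g) ∧
      (∀ g ∈ A, ∀ h ∈ A, g * h = h * g) ∧ Nat.card A = Nat.card W * Nat.card K := by
  have hcom : ∀ w ∈ W, ∀ k ∈ K, w * k = k * w := fun w hw k hk =>
    comm_of_disjoint hd (hW hw) (hK hk)
  let φ : W × K →* Perm α := MonoidHom.noncommCoprod W.subtype K.subtype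
    (fun w k => hcom w.1 w.2 k.1 k.2)
  have hφ : ∀ p : W × K, φ p = p.1.1 * p.2.1 := fun p => rfl
  have hinj : Function.Injective φ := by
    rw [injective_iff_map_eq_one]
    rintro ⟨⟨w, hw⟩, ⟨k, hk⟩⟩ h
    rw [hφ] at h
    have h1 : w = k⁻¹ := eq_inv_of_mul_eq_one_left h
    have h2 : w = 1 := eq_one_of_disjoint hd (hW hw) (by rw [h1]; exact (fixOut C).inv_mem (hK hk))
    have h3 : k = 1 := by
      rw [h2] at h1
      exact (inv_eq_one.1 h1.symm)
    subst h2 h3
    rfl
  refine ⟨φ.range, ?_, ?_, ?_⟩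
  · intro g
    constructor
    · rintro ⟨p, rfl⟩
      exact ⟨p.1.1, p.1.2, p.2.1, p.2.2, rfl⟩
    · rintro ⟨w, hw, k, hk, rfl⟩
      exact ⟨(⟨w, hw⟩, ⟨k, hk⟩), rfl⟩
  · rintro _ ⟨p, rfl⟩ _ ⟨r, rfl⟩
    rw [← map_mul, ← map_mul]
    congr 1
    exact Prod.ext (Subtype.ext (hWc _ p.1.2 _ r.1.2)) (Subtype.ext (hKc _ p.2.2 _ r.2.2))
  · rw [← Nat.card_congr (MonoidHom.ofInjective hinj).toEquiv, Nat.card_prod]

/-! ### Existence -/

theorem exists_even : ∀ (n : ℕ), n ≠ 5 → ∀ T : Finset α, T.card = n →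
    ∃ A : Subgroup (Perm α), A ≤ fixOut T ∧ (∀ g ∈ A, ∀ h ∈ A, g * h = h * g) ∧
      A ≤ alternatingGroup α ∧ Nat.card A = AbelArith.M n := by
  intro n
  induction n using Nat.strong_induction_on with
  | _ n ih =>
    intro hn5 T hT
    by_cases hn : n < 3
    · refine ⟨⊥, bot_le, ?_, bot_le, ?_⟩
      · intro g hg h hh
        rw [Subgroup.mem_bot] at hg hh
        rw [hg, hh]
      · rw [Subgroup.card_bot]
        interval_cases n <;> rfl
    · obtain ⟨a, ha, han, hM, h5⟩ : ∃ a, (a = 3 ∨ a = 4) ∧ a ≤ n ∧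
          a * AbelArith.M (n - a) = AbelArith.M n ∧ n - a ≠ 5 := by
        by_cases h3 : n % 3 = 0
        · refine ⟨3, Or.inl rfl, by omega, ?_, by omega⟩
          obtain ⟨m, rfl⟩ : ∃ m, n = m + 3 := ⟨n - 3, by omega⟩
          rw [Nat.add_sub_cancel]
          exact AbelArith.three_M_eq m (by omega)
        · refine ⟨4, Or.inr rfl, by omega, ?_, by omega⟩
          obtain ⟨m, rfl⟩ : ∃ m, n = m + 4 := ⟨n - 4, by omega⟩
          rw [Nat.add_sub_cancel]
          exact AbelArith.four_M_eq m (by omega) h3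
      obtain ⟨Δ, hΔT, hΔ⟩ := Finset.exists_subset_card_eq (s := T) (n := a) (by omega)
      have hC : (T \ Δ).card = n - a := by rw [Finset.card_sdiff_of_subset hΔT, hT, hΔ]
      obtain ⟨K, hK1, hK2, hK3, hK4⟩ := ih (n - a) (by omega) h5 (T \ Δ) hC
      obtain ⟨W, hW1, hW2, hW3⟩ := exists_W (Δ := Δ) (by omega)
      obtain ⟨A, hA1, hA2, hA3⟩ := exists_prod (Δ := Δ) (C := T \ Δ) Finset.disjoint_sdiff
        (fun g hg => ((hW1 g).1 hg).1) hK1 hW2 hK2
      refine ⟨A, ?_, hA2, ?_, ?_⟩
      · intro g hg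
        obtain ⟨w, hw, k, hk, rfl⟩ := (hA1 g).1 hg
        exact (fixOut T).mul_mem (fixOut_mono hΔT ((hW1 w).1 hw).1)
          (fixOut_mono Finset.sdiff_subset (hK1 hk))
      · intro g hg
        obtain ⟨w, hw, k, hk, rfl⟩ := (hA1 g).1 hg
        exact (alternatingGroup α).mul_mem (Perm.mem_alternatingGroup.2 ((hW1 w).1 hw).2.1) (hK3 hk)
      · rw [hA3, hW3, hK4, hΔ, hM]

theorem exists_sym : ∀ (n : ℕ), ∀ T : Finset α, T.card = n →
    ∃ A : Subgroup (Perm α), A ≤ fixOut T ∧ (∀ g ∈ A, ∀ h ∈ A, g * h = h * g) ∧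
      Nat.card A = AbelArith.S n := by
  intro n
  induction n using Nat.strong_induction_on with
  | _ n ih =>
    intro T hT
    by_cases hn : n < 2
    · refine ⟨⊥, bot_le, ?_, ?_⟩
      · intro g hg h hh
        rw [Subgroup.mem_bot] at hg hh
        rw [hg, hh]
      · rw [Subgroup.card_bot]
        interval_cases n <;> rfl
    by_cases hn2 : n = 2
    · subst hn2
      obtain ⟨x, y, hxy, rfl⟩ := Finset.card_eq_two.1 hT
      refine ⟨Subgroup.zpowers (swap x y), ?_, ?_, ?_⟩
      · rw [Subgroup.zpowers_le]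
        intro z hz
        rw [Finset.mem_insert, Finset.mem_singleton, not_or] at hz
        rw [swap_apply_of_ne_of_ne hz.1 hz.2]
      · intro g hg h hh
        obtain ⟨i, rfl⟩ := Subgroup.mem_zpowers_iff.1 hg
        obtain ⟨k, rfl⟩ := Subgroup.mem_zpowers_iff.1 hh
        rw [← zpow_add, ← zpow_add, add_comm]
      · rw [Nat.card_zpowers]
        show orderOf (swap x y) = 2
        exact orderOf_eq_prime (by rw [sq, swap_mul_self]) (by rw [Ne, swap_eq_one_iff]; exact hxy)
    · obtain ⟨a, ha, han, hM⟩ : ∃ a, (a = 3 ∨ a = 4) ∧ a ≤ n ∧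
          a * AbelArith.S (n - a) = AbelArith.S n := by
        by_cases h4 : n = 4
        · subst h4
          exact ⟨4, Or.inr rfl, le_rfl, rfl⟩
        · by_cases h3 : n = 3
          · subst h3
            exact ⟨3, Or.inl rfl, le_rfl, rfl⟩
          · refine ⟨3, Or.inl rfl, by omega, ?_⟩
            obtain ⟨m, rfl⟩ : ∃ m, n = m + 3 := ⟨n - 3, by omega⟩
            rw [Nat.add_sub_cancel]
            exact (AbelArith.S_add (by omega)).symm
      obtain ⟨Δ, hΔT, hΔ⟩ := Finset.exists_subset_card_eq (s := T) (n := a) (by omega)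
      have hC : (T \ Δ).card = n - a := by rw [Finset.card_sdiff_of_subset hΔT, hT, hΔ]
      obtain ⟨K, hK1, hK2, hK4⟩ := ih (n - a) (by omega) (T \ Δ) hC
      obtain ⟨W, hW1, hW2, hW3⟩ := exists_W (Δ := Δ) (by omega)
      obtain ⟨A, hA1, hA2, hA3⟩ := exists_prod (Δ := Δ) (C := T \ Δ) Finset.disjoint_sdiff
        (fun g hg => ((hW1 g).1 hg).1) hK1 hW2 hK2
      refine ⟨A, ?_, hA2, ?_⟩
      · intro g hg
        obtain ⟨w, hw, k, hk, rfl⟩ := (hA1 g).1 hg
        exact (fixOut T).mul_mem (fixOut_mono hΔT ((hW1 w).1 hw).1)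
          (fixOut_mono Finset.sdiff_subset (hK1 hk))
      · rw [hA3, hW3, hK4, hΔ, hM]

end Cfsg.Agent.H158.AbelW
end

-- part: H158/AbelUniq
section
/-!
# Abelian subgroups of largest order in the alternating groups are conjugate
-/

set_option autoImplicit false
set_option linter.unusedSectionVars false

namespace Cfsg.Agent.H158.AbelUniq

open Equiv Cfsg.Agent.H158.AbelPerm

variable {α : Type*} [DecidableEq α] [Fintype α]

/-- Hypotheses: `A` abelian, even, supported in `T`, of the largest order. -/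
structure Opt (A : Subgroup (Perm α)) (T : Finset α) : Prop where
  le : A ≤ fixOut T
  comm : ∀ g ∈ A, ∀ h ∈ A, g * h = h * g
  even : A ≤ alternatingGroup α
  card : Nat.card A = AbelArith.M T.card

/-- The orbits of an optimal group have sizes `3` and `4`. -/
theorem Opt.orb_card {A : Subgroup (Perm α)} {T : Finset α} (h : Opt A T) (hn : 3 ≤ T.card)
    (h5 : T.card ≠ 5) {x : α} (hx : x ∈ T) :
    (orb A x).card = 3 ∨ ((orb A x).card = 4 ∧ T.card % 3 ≠ 0) := by
  have hs := orb_subset h.le hx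
  have h1 : 1 ≤ (orb A x).card := Finset.card_pos.2 ⟨x, self_mem_orb A x⟩
  have h2 : (T \ orb A x).card = T.card - (orb A x).card := by
    rw [Finset.card_sdiff_of_subset hs]
  have h3 : (orb A x).card ≤ T.card := Finset.card_le_card hs
  have h4 := card_le_M (T.card - (orb A x).card) (T \ orb A x) h2 (stab A x)
          (stab_le_fixOut h.comm h.le x) (fun g hg k hk => h.comm g hg.1 k hk.1)
          ((stab_le A x).trans h.even)
  have h6 := h.card
  rw [card_eq_orb A x] at h6
  have h7 : AbelArith.M T.card ≤ (orb A x).card * AbelArith.M (T.card - (orb A x).card) := by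
    rw [← h6]
    exact Nat.mul_le_mul_left _ h4
  generalize ha : (orb A x).card = a at *
  obtain ⟨m, hm⟩ : ∃ m, T.card = m + a := ⟨T.card - a, by omega⟩
  rw [hm, Nat.add_sub_cancel] at h7
  rcases Nat.lt_or_ge a 2 with h8 | h8
  · obtain rfl : a = 1 := by omega
    have := AbelArith.M_lt_succ m (by omega)
    omega
  rcases Nat.lt_or_ge a 3 with h9 | h9
  · obtain rfl : a = 2 := by omega
    exfalso
    have e1 := card_eq_res A x
    rw [inf_eq_bot_of_two h.even ha, Subgroup.card_bot, one_mul, h.card] at e1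
    have e2 := card_le_S _ _ h2 _ (res_range_le h.le x) (res_range_comm h.comm x)
    rw [← e1, hm, Nat.add_sub_cancel] at e2
    have := AbelArith.S_lt_M_two m (by omega)
    omega
  rcases Nat.lt_or_ge a 4 with h10 | h10
  · left
    omega
  rcases Nat.lt_or_ge a 5 with h11 | h11
  · obtain rfl : a = 4 := by omega
    refine Or.inr ⟨rfl, ?_⟩
    intro h12
    have := AbelArith.four_M_lt m (by omega) (by omega)
    omega
  · exfalso
    have := AbelArith.mul_M_lt m a h11 (by omega)
    rw [add_comm a m] at this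
    omega

/-- The group `A ∩ Sym Δ` has order `|Δ|`. -/
theorem Opt.card_inf {A : Subgroup (Perm α)} {T : Finset α} (h : Opt A T) (hn : 3 ≤ T.card)
    (h5 : T.card ≠ 5) {x : α} (hx : x ∈ T) :
    Nat.card (A ⊓ fixOut (orb A x) : Subgroup (Perm α)) = (orb A x).card := by
  have h1 := h.orb_card hn h5 hx
  have h2 := card_inf_le h.comm x
  have hs := orb_subset h.le hx
  have h3 : (orb A x).card ≤ T.card := Finset.card_le_card hs
  have h4 : (T \ orb A x).card = T.card - (orb A x).card := by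
    rw [Finset.card_sdiff_of_subset hs]
  have e1 := card_eq_res A x
  have e2 := card_le_S _ _ h4 _ (res_range_le h.le x) (res_range_comm h.comm x)
  rw [h.card] at e1
  apply le_antisymm h2
  by_contra hcon
  push Not at hcon
  generalize hN : Nat.card (A ⊓ fixOut (orb A x) : Subgroup (Perm α)) = c at *
  have e3 : AbelArith.M T.card ≤ ((orb A x).card - 1) * AbelArith.S (T.card - (orb A x).card) := by
    rw [e1]
    exact Nat.mul_le_mul (by omega) e2
  rcases h1 with h1 | ⟨h1, -⟩
  · rw [h1] at e3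
    obtain ⟨m, hm⟩ : ∃ m, T.card = m + 3 := ⟨T.card - 3, by omega⟩
    rw [hm, Nat.add_sub_cancel] at e3
    have := AbelArith.two_S_lt_M m
    omega
  · rw [h1] at e3
    obtain ⟨m, hm⟩ : ∃ m, T.card = m + 4 := ⟨T.card - 4, by omega⟩
    rw [hm, Nat.add_sub_cancel] at e3
    have := AbelArith.three_S_lt_M m
    omega

theorem Opt.mem_iff {A : Subgroup (Perm α)} {T : Finset α} (h : Opt A T) (hn : 3 ≤ T.card)
    (h5 : T.card ≠ 5) {x : α} (hx : x ∈ T) (g : Perm α) :
    (g ∈ A ∧ g ∈ fixOut (orb A x)) ↔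
      (g ∈ fixOut (orb A x) ∧ Perm.sign g = 1 ∧ g ^ (orb A x).card = 1) :=
  AbelW.mem_inf_iff h.even ((h.orb_card hn h5 hx).imp_right And.left) (h.card_inf hn h5 hx) g

/-- Every element is a product of an element of `A ∩ Sym Δ` and one of the stabilizer. -/
theorem Opt.exists_mul {A : Subgroup (Perm α)} {T : Finset α} (h : Opt A T) (hn : 3 ≤ T.card)
    (h5 : T.card ≠ 5) {x : α} (hx : x ∈ T) {g : Perm α} (hg : g ∈ A) :
    ∃ w, (w ∈ A ∧ w ∈ fixOut (orb A x)) ∧ ∃ k ∈ stab A x, g = w * k := by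
  classical
  have hN := h.card_inf hn h5 hx
  let f : (A ⊓ fixOut (orb A x) : Subgroup (Perm α)) → ↥(orb A x) := fun g =>
    ⟨g.1 x, (orb_apply g.2.1).2 (self_mem_orb A x)⟩
  have hf : Function.Injective f := by
    rintro ⟨g, hg⟩ ⟨k, hk⟩ h'
    have h1 : g x = k x := congrArg Subtype.val h'
    have h2 : (k⁻¹ * g) x = x := by rw [Perm.mul_apply, h1, inv_app]
    have h3 : k⁻¹ * g ∈ A := A.mul_mem (A.inv_mem hk.1) hg.1
    have h4 : k⁻¹ * g = 1 := by
      ext y
      rw [Perm.one_apply]
      by_cases hy : y ∈ orb A x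
      · exact fix_orb h.comm h3 h2 hy
      · exact (fixOut (orb A x)).mul_mem ((fixOut _).inv_mem hk.2) hg.2 y hy
    apply Subtype.ext
    exact (inv_mul_eq_one.1 h4).symm
  have hs : Function.Surjective f := by
    apply ((Nat.bijective_iff_injective_and_card f).2 ⟨hf, ?_⟩).2
    rw [hN, Nat.card_eq_fintype_card, Fintype.card_coe]
  obtain ⟨w, hw⟩ := hs ⟨g x, (orb_apply hg).2 (self_mem_orb A x)⟩
  have hw1 : w.1 x = g x := congrArg Subtype.val hw
  refine ⟨w.1, w.2, w.1⁻¹ * g, ⟨A.mul_mem (A.inv_mem w.2.1) hg, ?_⟩, by group⟩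
  rw [Perm.mul_apply, ← hw1, inv_app]

/-- The stabilizer is again optimal, if the orbit is chosen of the right size. -/
theorem Opt.stab {A : Subgroup (Perm α)} {T : Finset α} (h : Opt A T)
    {x : α} (hx : x ∈ T) (hM : (orb A x).card * AbelArith.M (T.card - (orb A x).card) = AbelArith.M T.card) :
    Opt (stab A x) (T \ orb A x) where
  le := stab_le_fixOut h.comm h.le x
  comm := fun g hg k hk => h.comm g hg.1 k hk.1
  even := (stab_le A x).trans h.even
  card := by
    have hs := orb_subset h.le hx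
    rw [Finset.card_sdiff_of_subset hs]
    have h1 := card_eq_orb A x
    rw [h.card, ← hM] at h1
    exact (Nat.eq_of_mul_eq_mul_left (Finset.card_pos.2 ⟨x, self_mem_orb A x⟩) h1).symm

/-- There is an orbit of the right size. -/
theorem Opt.exists_orb {A : Subgroup (Perm α)} {T : Finset α} (h : Opt A T) (hn : 3 ≤ T.card)
    (h5 : T.card ≠ 5) : ∃ x ∈ T, (orb A x).card = if T.card % 3 = 0 then 3 else 4 := by
  classical
  split_ifs with h3
  · obtain ⟨x, hx⟩ : T.Nonempty := Finset.card_pos.1 (by omega)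
    refine ⟨x, hx, ?_⟩
    rcases h.orb_card hn h5 hx with h1 | ⟨-, h1⟩
    · exact h1
    · exact absurd h3 h1
  · by_contra hcon
    push Not at hcon
    apply h3
    have h4 : ∀ x ∈ T, (orb A x).card = 3 := by
      intro x hx
      rcases h.orb_card hn h5 hx with h1 | ⟨h1, -⟩
      · exact h1
      · exact absurd h1 (hcon x hx)
    have h6 := Finset.card_eq_sum_card_image (fun x => orb A x) T
    have h7 : ∀ b ∈ T.image (fun x => orb A x), (T.filter fun x => orb A x = b).card = 3 := by
      intro b hb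
      obtain ⟨x, hx, rfl⟩ := Finset.mem_image.1 hb
      have h8 : (T.filter fun y => orb A y = orb A x) = orb A x := by
        ext y
        rw [Finset.mem_filter]
        constructor
        · rintro ⟨-, hy⟩
          rw [← hy]
          exact self_mem_orb A y
        · intro hy
          exact ⟨orb_subset h.le hx hy, orb_eq hy⟩
      rw [h8]
      exact h4 x hx
    rw [Finset.sum_congr rfl h7, Finset.sum_const, smul_eq_mul] at h6
    omega

/-! ### Gluing -/

theorem exists_glue {Δ Δ' C C' : Finset α} (hd : Disjoint Δ C) (hd' : Disjoint Δ' C')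
    (hcard : Δ.card = Δ'.card) (e : Perm α) (he : ∀ x, x ∈ C ↔ e x ∈ C') :
    ∃ f : Perm α, (∀ x ∈ C, f x = e x) ∧ (∀ x, x ∈ Δ ↔ f x ∈ Δ') := by
  classical
  let b := Finset.equivOfCardEq hcard
  let φ : α → α := fun x => if h : x ∈ Δ then b ⟨x, h⟩ else e x
  have hφ1 : ∀ x (h : x ∈ Δ), φ x = b ⟨x, h⟩ := fun x h => dif_pos h
  have hφ2 : ∀ x, x ∈ C → φ x = e x := fun x h => dif_neg (Finset.disjoint_right.1 hd h)
  have hinj : Set.InjOn φ ((Δ ∪ C : Finset α) : Set α) := by
    intro x hx y hy hxy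
    rw [Finset.mem_coe, Finset.mem_union] at hx hy
    rcases hx with hx | hx <;> rcases hy with hy | hy
    · rw [hφ1 x hx, hφ1 y hy] at hxy
      exact congrArg Subtype.val (b.injective (Subtype.ext hxy))
    · rw [hφ1 x hx, hφ2 y hy] at hxy
      exfalso
      exact Finset.disjoint_left.1 hd' (b ⟨x, hx⟩).2 (by rw [hxy]; exact (he y).1 hy)
    · rw [hφ2 x hx, hφ1 y hy] at hxy
      exfalso
      exact Finset.disjoint_left.1 hd' (b ⟨y, hy⟩).2 (by rw [← hxy]; exact (he x).1 hx)
    · rw [hφ2 x hx, hφ2 y hy] at hxy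
      exact e.injective hxy
  obtain ⟨g, hg⟩ := Finset.exists_equiv_extend_of_card_eq (t := (Finset.univ : Finset α))
    (Finset.card_univ).symm (Finset.subset_univ _) hinj
  let f : Perm α := g.trans (Equiv.subtypeUnivEquiv fun x => Finset.mem_univ x)
  have hf : ∀ x, f x = (g x : α) := fun x => rfl
  refine ⟨f, ?_, ?_⟩
  · intro x hx
    rw [hf, hg x (Finset.mem_union_right _ hx), hφ2 x hx]
  · intro x
    constructor
    · intro hx
      rw [hf, hg x (Finset.mem_union_left _ hx), hφ1 x hx]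
      exact (b ⟨x, hx⟩).2
    · intro hx
      let y := b.symm ⟨f x, hx⟩
      have h1 : f y.1 = f x := by
        rw [hf y.1, hg y.1 (Finset.mem_union_left _ y.2), hφ1 y.1 y.2]
        show ((b (b.symm ⟨f x, hx⟩)) : α) = f x
        rw [b.apply_symm_apply]
      rw [← f.injective h1]
      exact y.2

theorem conj_mem_fixOut {Δ Δ' : Finset α} {f w : Perm α} (hf : ∀ x, x ∈ Δ ↔ f x ∈ Δ')
    (hw : w ∈ fixOut Δ) : f * w * f⁻¹ ∈ fixOut Δ' := by
  intro y hy
  have h1 : f⁻¹ y ∉ Δ := by
    rw [hf, app_inv]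
    exact hy
  rw [Perm.mul_apply, Perm.mul_apply, hw _ h1, app_inv]

theorem conj_eq {C C' : Finset α} {e f k : Perm α} (he : ∀ x, x ∈ C ↔ e x ∈ C')
    (hf : ∀ x ∈ C, f x = e x) (hk : k ∈ fixOut C) : f * k * f⁻¹ = e * k * e⁻¹ := by
  have h1 : ∀ x, x ∈ C ↔ f x ∈ C' := by
    intro x
    constructor
    · intro hx
      rw [hf x hx]
      exact (he x).1 hx
    · intro hx
      have h2 : e⁻¹ (f x) ∈ C := by
        rw [he, app_inv]
        exact hx
      have h3 := hf _ h2
      rw [app_inv] at h3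
      rw [← f.injective h3]
      exact h2
  ext y
  by_cases hy : y ∈ C'
  · have h2 : e⁻¹ y ∈ C := by
      rw [he, app_inv]
      exact hy
    have h3 : f⁻¹ y = e⁻¹ y := by
      rw [Perm.inv_eq_iff_eq, hf _ h2, app_inv]
    rw [Perm.mul_apply, Perm.mul_apply, Perm.mul_apply, Perm.mul_apply, h3]
    exact hf _ (apply_mem_of_fixOut hk h2)
  · rw [conj_mem_fixOut h1 hk y hy, conj_mem_fixOut he hk y hy]

/-- **Uniqueness.** -/
theorem uniq : ∀ (n : ℕ), n ≠ 5 → ∀ (T T' : Finset α) (A B : Subgroup (Perm α)), T.card = n →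
    T'.card = n → Opt A T → Opt B T' →
    ∃ e : Perm α, (∀ x, x ∈ T ↔ e x ∈ T') ∧ ∀ g ∈ A, e * g * e⁻¹ ∈ B := by
  intro n
  induction n using Nat.strong_induction_on with
  | _ n ih =>
    intro hn5 T T' A B hT hT' hA hB
    by_cases hn : n < 3
    · have h1 : A = ⊥ := by
        rw [← Subgroup.card_eq_one, hA.card, hT]
        interval_cases n <;> rfl
      obtain ⟨f, -, hf⟩ := exists_glue (Δ := T) (Δ' := T') (C := ∅) (C' := ∅)
        (Finset.disjoint_empty_right _) (Finset.disjoint_empty_right _) (hT.trans hT'.symm) 1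
        (fun x => by simp)
      refine ⟨f, hf, ?_⟩
      intro g hg
      rw [h1, Subgroup.mem_bot] at hg
      rw [hg, mul_one, mul_inv_cancel]
      exact B.one_mem
    · obtain ⟨x, hx, hxo⟩ := hA.exists_orb (by omega) (by omega)
      obtain ⟨y, hy, hyo⟩ := hB.exists_orb (by omega) (by omega)
      rw [hT] at hxo
      rw [hT'] at hyo
      obtain ⟨a, ha⟩ : ∃ a, a = if n % 3 = 0 then 3 else 4 := ⟨_, rfl⟩
      rw [← ha] at hxo hyo
      have hfacts : a ≤ n ∧ 3 ≤ a ∧ a * AbelArith.M (n - a) = AbelArith.M n ∧ n - a ≠ 5 := by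
        by_cases h3 : n % 3 = 0
        · rw [if_pos h3] at ha
          subst ha
          refine ⟨by omega, le_rfl, ?_, by omega⟩
          obtain ⟨m, rfl⟩ : ∃ m, n = m + 3 := ⟨n - 3, by omega⟩
          rw [Nat.add_sub_cancel]
          exact AbelArith.three_M_eq m (by omega)
        · rw [if_neg h3] at ha
          subst ha
          refine ⟨by omega, by omega, ?_, by omega⟩
          obtain ⟨m, rfl⟩ : ∃ m, n = m + 4 := ⟨n - 4, by omega⟩
          rw [Nat.add_sub_cancel]
          exact AbelArith.four_M_eq m (by omega) h3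
      obtain ⟨han, ha3, hM, h5⟩ := hfacts
      have hs := orb_subset hA.le hx
      have hs' := orb_subset hB.le hy
      have hC : (T \ orb A x).card = n - a := by rw [Finset.card_sdiff_of_subset hs, hT, hxo]
      have hC' : (T' \ orb B y).card = n - a := by rw [Finset.card_sdiff_of_subset hs', hT', hyo]
      have hAs := hA.stab hx (by rw [hxo, hT, hM])
      have hBs := hB.stab hy (by rw [hyo, hT', hM])
      obtain ⟨e, he1, he2⟩ := ih (n - a) (by omega) h5 _ _ _ _ hC hC' hAs hBs
      obtain ⟨f, hf1, hf2⟩ := exists_glue (Δ := orb A x) (Δ' := orb B y) Finset.disjoint_sdiff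
        Finset.disjoint_sdiff (hxo.trans hyo.symm) e he1
      have hfC : ∀ z, z ∈ T \ orb A x ↔ f z ∈ T' \ orb B y := by
        intro z
        constructor
        · intro hz
          rw [hf1 z hz]
          exact (he1 z).1 hz
        · intro hz
          have h2 : e⁻¹ (f z) ∈ T \ orb A x := by
            rw [he1, app_inv]
            exact hz
          have h3 := hf1 _ h2
          rw [app_inv] at h3
          rw [← f.injective h3]
          exact h2
      refine ⟨f, ?_, ?_⟩
      · intro z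
        have e1 : z ∈ T ↔ z ∈ orb A x ∨ z ∈ T \ orb A x := by
          rw [← Finset.mem_union, Finset.union_sdiff_of_subset hs]
        have e2 : f z ∈ T' ↔ f z ∈ orb B y ∨ f z ∈ T' \ orb B y := by
          rw [← Finset.mem_union, Finset.union_sdiff_of_subset hs']
        rw [e1, e2, hf2 z, hfC z]
      · intro g hg
        obtain ⟨w, hw, k, hk, rfl⟩ := hA.exists_mul (by omega) (by omega) hx hg
        have e1 : f * (w * k) * f⁻¹ = (f * w * f⁻¹) * (f * k * f⁻¹) := by group
        rw [e1]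
        apply B.mul_mem
        · have hw2 := (hA.mem_iff (by omega) (by omega) hx w).1 hw
          refine ((hB.mem_iff (by omega) (by omega) hy _).2 ⟨conj_mem_fixOut hf2 hw2.1, ?_, ?_⟩).1
          · rw [Perm.sign_mul, Perm.sign_mul, hw2.2.1, mul_one, ← Perm.sign_mul, mul_inv_cancel,
              Perm.sign_one]
          · rw [conj_pow, hyo, ← hxo, hw2.2.2, mul_one, mul_inv_cancel]
        · rw [conj_eq he1 hf1 (stab_le_fixOut hA.comm hA.le x hk)]
          exact stab_le B y (he2 k hk)

/-- An odd permutation normalizes `A`. -/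
theorem Opt.exists_odd {A : Subgroup (Perm α)} {T : Finset α} (h : Opt A T) (hn : 2 ≤ T.card)
    (h5 : T.card ≠ 5) : ∃ t : Perm α, Perm.sign t = -1 ∧ ∀ g ∈ A, t * g * t⁻¹ ∈ A := by
  by_cases h2 : T.card = 2
  · obtain ⟨x, y, hxy, rfl⟩ := Finset.card_eq_two.1 h2
    refine ⟨swap x y, Perm.sign_swap hxy, ?_⟩
    have h1 : A = ⊥ := by
      rw [← Subgroup.card_eq_one, h.card, h2]
      rfl
    intro g hg
    rw [h1, Subgroup.mem_bot] at hg
    rw [hg, mul_one, mul_inv_cancel]
    exact A.one_mem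
  · obtain ⟨x, hx⟩ : T.Nonempty := Finset.card_pos.1 (by omega)
    have h3 := h.orb_card (by omega) h5 hx
    obtain ⟨y, hy, hyx⟩ := Finset.exists_mem_ne (s := orb A x) (by omega) x
    have ht : swap x y ∈ fixOut (orb A x) := by
      intro z hz
      rw [swap_apply_of_ne_of_ne]
      · rintro rfl
        exact hz (self_mem_orb A _)
      · rintro rfl
        exact hz hy
    refine ⟨swap x y, Perm.sign_swap hyx.symm, ?_⟩
    intro g hg
    obtain ⟨w, hw, k, hk, rfl⟩ := h.exists_mul (by omega) h5 hx hg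
    have e1 : swap x y * (w * k) * (swap x y)⁻¹ =
      (swap x y * w * (swap x y)⁻¹) * (swap x y * k * (swap x y)⁻¹) := by group
    rw [e1]
    apply A.mul_mem
    · have hw2 := (h.mem_iff (by omega) h5 hx w).1 hw
      refine ((h.mem_iff (by omega) h5 hx _).2 ⟨?_, ?_, ?_⟩).1
      · exact (fixOut _).mul_mem ((fixOut _).mul_mem ht hw2.1) ((fixOut _).inv_mem ht)
      · rw [Perm.sign_mul, Perm.sign_mul, hw2.2.1, mul_one, ← Perm.sign_mul, mul_inv_cancel,
              Perm.sign_one]
      · rw [conj_pow, hw2.2.2, mul_one, mul_inv_cancel]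
    · rw [comm_of_disjoint Finset.disjoint_sdiff ht (stab_le_fixOut h.comm h.le x hk),
        mul_inv_cancel_right]
      exact hk.1

end Cfsg.Agent.H158.AbelUniq
end

-- part: H158/AbelMain
section
/-!
# Abelian subgroups of largest order of `Perm (Fin n)` and `alternatingGroup (Fin n)`
-/

set_option autoImplicit false
set_option linter.unusedSectionVars false

namespace Cfsg.Agent.H158.AbelMain

open Equiv Cfsg.Agent.H158.AbelPerm

theorem comm_of_isMulCommutative {G : Type*} [Group G] {A : Subgroup G} (h : IsMulCommutative A) :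
    ∀ g ∈ A, ∀ k ∈ A, g * k = k * g := by
  intro g hg k hk
  have := h.is_comm.comm (⟨g, hg⟩ : A) ⟨k, hk⟩
  exact congrArg Subtype.val this

theorem isMulCommutative_of_comm {G : Type*} [Group G] {A : Subgroup G}
    (h : ∀ g ∈ A, ∀ k ∈ A, g * k = k * g) : IsMulCommutative A :=
  ⟨⟨fun a b => Subtype.ext (h a.1 a.2 b.1 b.2)⟩⟩

theorem isGreatest_sym (n : ℕ) :
    IsGreatest {c : ℕ | ∃ A : Subgroup (Equiv.Perm (Fin n)), IsMulCommutative A ∧ Nat.card A = c}
      (AbelArith.S n) := by
  constructor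
  · obtain ⟨A, -, h2, h3⟩ := AbelW.exists_sym n (Finset.univ : Finset (Fin n)) (by simp)
    exact ⟨A, isMulCommutative_of_comm h2, h3⟩
  · rintro c ⟨A, hA, rfl⟩
    exact card_le_S n (Finset.univ : Finset (Fin n)) (by simp) A
      (fun g _ x hx => absurd (Finset.mem_univ x) hx) (comm_of_isMulCommutative hA)

theorem card_map {n : ℕ} (A : Subgroup (alternatingGroup (Fin n))) :
    Nat.card (A.map (alternatingGroup (Fin n)).subtype) = Nat.card A :=
  (Nat.card_congr (A.equivMapOfInjective _ (Subgroup.subtype_injective _)).toEquiv).symm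

theorem comm_map {n : ℕ} {A : Subgroup (alternatingGroup (Fin n))} (hA : IsMulCommutative A) :
    ∀ g ∈ A.map (alternatingGroup (Fin n)).subtype, ∀ k ∈ A.map (alternatingGroup (Fin n)).subtype,
      g * k = k * g := by
  rintro _ ⟨x, hx, rfl⟩ _ ⟨y, hy, rfl⟩
  rw [← map_mul, comm_of_isMulCommutative hA x hx y hy, map_mul]

theorem map_le_alt {n : ℕ} (A : Subgroup (alternatingGroup (Fin n))) :
    A.map (alternatingGroup (Fin n)).subtype ≤ alternatingGroup (Fin n) := by
  rintro _ ⟨x, hx, rfl⟩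
  exact x.2

theorem card_le {n : ℕ} {A : Subgroup (alternatingGroup (Fin n))} (hA : IsMulCommutative A) :
    Nat.card A ≤ AbelArith.M n := by
  rw [← card_map A]
  exact card_le_M n (Finset.univ : Finset (Fin n)) (by simp) _
      (fun g _ x hx => absurd (Finset.mem_univ x) hx) (comm_map hA) (map_le_alt A)

theorem card_alt_five : Nat.card (alternatingGroup (Fin 5)) = 60 := by
  have h := two_mul_card_alternatingGroup (α := Fin 5)
  rw [← Nat.card_eq_fintype_card, ← Nat.card_eq_fintype_card, Nat.card_eq_fintype_card (α := Perm (Fin 5)),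
    Fintype.card_perm, Fintype.card_fin] at h
  have h2 : Nat.factorial 5 = 120 := rfl
  omega

theorem exists_alt (n : ℕ) : ∃ A : Subgroup (alternatingGroup (Fin n)), IsMulCommutative A ∧
    Nat.card A = AbelArith.M n := by
  by_cases h5 : n = 5
  · subst h5
    have : Fact (Nat.Prime 5) := ⟨by norm_num⟩
    obtain ⟨g, hg⟩ := exists_prime_orderOf_dvd_card' (G := alternatingGroup (Fin 5)) 5
      (by rw [card_alt_five]; norm_num)
    refine ⟨Subgroup.zpowers g, inferInstance, ?_⟩
    rw [Nat.card_zpowers, hg]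
    rfl
  · obtain ⟨A, -, h2, h3, h4⟩ := AbelW.exists_even n h5 (Finset.univ : Finset (Fin n)) (by simp)
    have h6 : (A.subgroupOf (alternatingGroup (Fin n))).map (alternatingGroup (Fin n)).subtype = A := by
      rw [Subgroup.subgroupOf_map_subtype, inf_eq_left]
      exact h3
    refine ⟨A.subgroupOf (alternatingGroup (Fin n)), ?_, ?_⟩
    · apply isMulCommutative_of_comm
      intro g hg k hk
      exact Subtype.ext (h2 _ hg _ hk)
    · rw [← h4, ← card_map, h6]

theorem isGreatest_alt (n : ℕ) :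
    IsGreatest {c : ℕ | ∃ A : Subgroup (alternatingGroup (Fin n)), IsMulCommutative A ∧ Nat.card A = c}
      (AbelArith.M n) := by
  constructor
  · obtain ⟨A, h2, h3⟩ := exists_alt n
    exact ⟨A, h2, h3⟩
  · rintro c ⟨A, hA, rfl⟩
    exact card_le hA

open scoped Pointwise

theorem conj_five (A B : Subgroup (alternatingGroup (Fin 5))) (hA : Nat.card A = 5)
    (hB : Nat.card B = 5) : ∃ g : alternatingGroup (Fin 5), B = MulAut.conj g • A := by
  have : Fact (Nat.Prime 5) := ⟨by norm_num⟩
  have hf : (Nat.card (alternatingGroup (Fin 5))).factorization 5 = 1 := by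
    rw [card_alt_five]
    have : (60 : ℕ) = 5 * 12 := rfl
    rw [this, Nat.factorization_mul (by norm_num) (by norm_num), Finsupp.add_apply,
      Nat.Prime.factorization_self (by norm_num), Nat.factorization_eq_zero_of_not_dvd (by norm_num)]
  let P : Sylow 5 (alternatingGroup (Fin 5)) := Sylow.ofCard A (by rw [hf, hA]; norm_num)
  let Q : Sylow 5 (alternatingGroup (Fin 5)) := Sylow.ofCard B (by rw [hf, hB]; norm_num)
  obtain ⟨g, hg⟩ := MulAction.exists_smul_eq (alternatingGroup (Fin 5)) P Q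
  refine ⟨g, ?_⟩
  have := congrArg (fun S : Sylow 5 (alternatingGroup (Fin 5)) => S.toSubgroup) hg
  exact this.symm

theorem main (n : ℕ)
    (A B : Subgroup (alternatingGroup (Fin n))) (hA : IsMulCommutative A) (hB : IsMulCommutative B)
    (hAmax : ∀ C : Subgroup (alternatingGroup (Fin n)), IsMulCommutative C → Nat.card C ≤ Nat.card A)
    (hBmax : ∀ C : Subgroup (alternatingGroup (Fin n)), IsMulCommutative C → Nat.card C ≤ Nat.card B) :
    ∃ g : alternatingGroup (Fin n), B = MulAut.conj g • A := by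
  obtain ⟨C, hC1, hC2⟩ := exists_alt n
  have hAc : Nat.card A = AbelArith.M n := le_antisymm (card_le hA) (by rw [← hC2]; exact hAmax C hC1)
  have hBc : Nat.card B = AbelArith.M n := le_antisymm (card_le hB) (by rw [← hC2]; exact hBmax C hC1)
  by_cases h5 : n = 5
  · subst h5
    exact conj_five A B hAc hBc
  have key : ∀ D : Subgroup (alternatingGroup (Fin n)), IsMulCommutative D → Nat.card D = AbelArith.M n →
      AbelUniq.Opt (D.map (alternatingGroup (Fin n)).subtype) (Finset.univ : Finset (Fin n)) := by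
    intro D hD hDc
    refine ⟨fun g _ x hx => absurd (Finset.mem_univ x) hx, comm_map hD, map_le_alt D, ?_⟩
    rw [card_map, hDc, Finset.card_univ, Fintype.card_fin]
  have hAo := key A hA hAc
  have hBo := key B hB hBc
  obtain ⟨e, -, he⟩ := AbelUniq.uniq n h5 _ _ _ _ (by simp) (by simp) hAo hBo
  -- make `e` even
  obtain ⟨f, hf1, hf2⟩ : ∃ f : Perm (Fin n), Perm.sign f = 1 ∧
      ∀ g ∈ A.map (alternatingGroup (Fin n)).subtype, f * g * f⁻¹ ∈ B.map (alternatingGroup (Fin n)).subtype := by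
    rcases Int.units_eq_one_or (Perm.sign e) with h1 | h1
    · exact ⟨e, h1, he⟩
    · by_cases hn : 2 ≤ n
      · obtain ⟨t, ht1, ht2⟩ := hAo.exists_odd (by simpa using hn) (by simpa using h5)
        refine ⟨e * t, by rw [Perm.sign_mul, h1, ht1]; rfl, ?_⟩
        intro g hg
        have : e * t * g * (e * t)⁻¹ = e * (t * g * t⁻¹) * e⁻¹ := by group
        rw [this]
        exact he _ (ht2 g hg)
      · exfalso
        have : Subsingleton (Fin n) := by
          rw [← Finite.card_le_one_iff_subsingleton, Nat.card_fin]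
          omega
        have h2 : e = 1 := Subsingleton.elim _ _
        rw [h2, Perm.sign_one] at h1
        exact absurd h1 (by decide)
  have hfm : f ∈ alternatingGroup (Fin n) := Perm.mem_alternatingGroup.2 hf1
  refine ⟨⟨f, hfm⟩, ?_⟩
  symm
  apply Subgroup.eq_of_le_of_card_ge
  · intro x hx
    rw [Subgroup.mem_pointwise_smul_iff_inv_smul_mem] at hx
    have h1 := hf2 _ (Subgroup.mem_map_of_mem (alternatingGroup (Fin n)).subtype hx)
    obtain ⟨y, hy, hyx⟩ := Subgroup.mem_map.1 h1
    have h2 : y = x := by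
      apply Subtype.ext
      rw [← Subgroup.subtype_apply, hyx]
      show f * ((⟨f, hfm⟩ : alternatingGroup (Fin n))⁻¹ * x * (⟨f, hfm⟩ : alternatingGroup (Fin n))).1 * f⁻¹ = x.1
      simp [mul_assoc]
    rw [← h2]
    exact hy
  · rw [hBc, ← hAc]
    exact le_of_eq (Nat.card_congr (Subgroup.equivSMul _ _).toEquiv)

end Cfsg.Agent.H158.AbelMain
end
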