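import Cfsg.Agent.H158.PronFrame
import Cfsg.Agent.OddHalf.D3.ThreeDefs
import Mathlib.GroupTheory.SpecificGroups.ZGroup
import Cfsg.Agent.H158.PronM2
import Cfsg.Agent.S0262
import Cfsg.Agent.Classification.QDW.FuCop
set_option linter.all false

-- part: H158/PronTwo
section
/-!
# A two by two computation (helper158)
-/

set_option autoImplicit false
set_option linter.unusedSectionVars false

namespace Cfsg.Agent.H158.PronTwo

open Quaternion Matrix Equiv
open Cfsg.Agent.H158.PronQ Cfsg.Agent.H158.PronMat Cfsg.Agent.H158.PronMono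
open Cfsg.Agent.H158.PronFrame

variable {F : Type*} [Field F]

section RR

variable {n : Type*} [Fintype n] [DecidableEq n]

theorem coe_smul_eq (ν : F) (q : ℍ[F]) : (ν : ℍ[F]) * q = ν • q := Quaternion.coe_mul_eq_smul ν q

/-- The group of reflections `1 + ν⁻¹ f (h - 1) f*` for a vector `f` of norm `ν`. -/
def RR (f : n → ℍ[F]) (ν : F) (hν : ν ≠ 0) (hf : ip f f = (ν : ℍ[F])) : U F →* GU n F where
  toFun h := ⟨1 + tv f (ν⁻¹ • ((h : ℍ[F]) - 1)) f, by
    have key : ∀ a b : ℍ[F], a * b = 1 →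
        (1 + tv f (ν⁻¹ • (a - 1)) f) * (1 + tv f (ν⁻¹ • (b - 1)) f) = 1 := by
      intro a b hab
      rw [mul_add, add_mul, add_mul, tv_mul_tv, hf, one_mul, one_mul, mul_one]
      have h3 : ν⁻¹ • (a - 1) * (ν : ℍ[F]) * ν⁻¹ • (b - 1) =
          -(ν⁻¹ • (a - 1)) - ν⁻¹ • (b - 1) := by
        rw [Quaternion.mul_coe_eq_smul, smul_smul, mul_inv_cancel₀ hν, one_smul, mul_smul_comm,
          ← smul_neg, ← smul_sub]
        congr 1
        have : (a - 1) * (b - 1) = a * b - a - b + 1 := by noncomm_ring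
        rw [this, hab]; abel
      rw [h3, tv_sub]
      have h4 : tv f (-(ν⁻¹ • (a - 1))) f = - tv f (ν⁻¹ • (a - 1)) f := by
        have := tv_sub f 0 (ν⁻¹ • (a - 1)) f
        rw [zero_sub, tv_zero, zero_sub] at this
        exact this
      rw [h4]; abel
    have h1 : (1 + tv f (ν⁻¹ • ((h : ℍ[F]) - 1)) f)ᴴ = 1 + tv f (ν⁻¹ • (star (h : ℍ[F]) - 1)) f := by
      rw [Matrix.conjTranspose_add, Matrix.conjTranspose_one, tv_conjTranspose,
        Quaternion.star_smul, star_sub, star_one]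
    rw [mem_GU, h1]
    exact ⟨key _ _ (Unitary.coe_star_mul_self h), key _ _ (Unitary.coe_mul_star_self h)⟩⟩
  map_one' := by
    apply Subtype.ext
    show 1 + tv f (ν⁻¹ • ((1 : ℍ[F]) - 1)) f = 1
    rw [sub_self, smul_zero, tv_zero, add_zero]
  map_mul' := by
    intro a b
    apply Subtype.ext
    show 1 + tv f (ν⁻¹ • ((a : ℍ[F]) * b - 1)) f =
      (1 + tv f (ν⁻¹ • ((a : ℍ[F]) - 1)) f) * (1 + tv f (ν⁻¹ • ((b : ℍ[F]) - 1)) f)
    rw [mul_add, add_mul, add_mul, tv_mul_tv, hf, one_mul, one_mul, mul_one]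
    have h3 : ν⁻¹ • ((a : ℍ[F]) - 1) * (ν : ℍ[F]) * ν⁻¹ • ((b : ℍ[F]) - 1) =
        ν⁻¹ • ((a : ℍ[F]) * b - 1) - (ν⁻¹ • ((a : ℍ[F]) - 1)) - ν⁻¹ • ((b : ℍ[F]) - 1) := by
      rw [Quaternion.mul_coe_eq_smul, smul_smul, mul_inv_cancel₀ hν, one_smul, mul_smul_comm,
        ← smul_sub, ← smul_sub]
      congr 1
      noncomm_ring
    rw [h3, tv_sub, tv_sub]; abel

theorem coe_RR (f : n → ℍ[F]) (ν : F) (hν : ν ≠ 0) (hf : ip f f = (ν : ℍ[F])) (h : U F) :
    (RR f ν hν hf h).1 = 1 + tv f (ν⁻¹ • ((h : ℍ[F]) - 1)) f := rfl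

/-- Conjugation by a quaternion `u` with `ν N(u) = 1`. -/
def cjq (u : ℍ[F]) (ν : F) (hu : ν * normSq u = 1) : U F →* U F where
  toFun h := ⟨ν • (u * h * star u), by
    rw [mem_U, normSq_smul, map_mul, map_mul, normSq_star, normSq_U]
    linear_combination (ν * normSq u + 1) * hu⟩
  map_one' := by
    apply Subtype.ext
    show ν • (u * 1 * star u) = 1
    rw [mul_one, self_mul_star, ← Quaternion.coe_smul, smul_eq_mul, hu]; rfl
  map_mul' := by
    intro a b
    apply Subtype.ext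
    show ν • (u * ((a : ℍ[F]) * b) * star u) = ν • (u * a * star u) * ν • (u * b * star u)
    rw [smul_mul_smul_comm]
    have h1 : (u * a * star u) * (u * b * star u) = normSq u • (u * ((a : ℍ[F]) * b) * star u) := by
      calc (u * a * star u) * (u * b * star u) = u * a * (star u * u) * b * star u := by
            noncomm_ring
        _ = normSq u • (u * ((a : ℍ[F]) * b) * star u) := by
            rw [star_mul_self, Quaternion.mul_coe_eq_smul, smul_mul_assoc, smul_mul_assoc]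
            congr 1
            noncomm_ring
    rw [h1, smul_smul]
    congr 1
    linear_combination -ν * hu

theorem coe_cjq (u : ℍ[F]) (ν : F) (hu : ν * normSq u = 1) (h : U F) :
    ((cjq u ν hu h : U F) : ℍ[F]) = ν • (u * h * star u) := rfl

theorem cjq_injective (u : ℍ[F]) (ν : F) (hu : ν * normSq u = 1) :
    Function.Injective (cjq u ν hu) := by
  intro a b h
  have h1 : ν • (u * (a : ℍ[F]) * star u) = ν • (u * (b : ℍ[F]) * star u) := congrArg Subtype.val h
  have hν : ν ≠ 0 := by rintro rfl; rw [zero_mul] at hu; exact zero_ne_one hu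
  have hN : normSq u ≠ 0 := by intro h0; rw [h0, mul_zero] at hu; exact zero_ne_one hu
  have h3 := smul_right_injective _ hν h1
  apply Subtype.ext
  have h4 : u * ((a : ℍ[F]) - b) * star u = 0 := by
    rw [mul_sub, sub_mul, h3, sub_self]
  have h5 := mul_eq_zero_right (by rw [normSq_star]; exact hN) h4
  exact sub_eq_zero.1 (mul_eq_zero_left hN h5)

theorem R_eq_RR {f : n → ℍ[F]} {ν : F} (hν : ν ≠ 0) (hf : ip f f = (ν : ℍ[F])) {u : ℍ[F]}
    (hu : ν * normSq u = 1) (hx : ip (fun a => f a * u) (fun a => f a * u) = 1) (h : U F) :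
    R (fun a => f a * u) hx h = RR f ν hν hf (cjq u ν hu h) := by
  apply Subtype.ext
  rw [coe_R, coe_RR, tv_smul, coe_cjq]
  congr 2
  rw [smul_sub, smul_smul, inv_mul_cancel₀ hν, one_smul, mul_sub, sub_mul, mul_one, self_mul_star]
  congr 1
  have hN : normSq u = ν⁻¹ := eq_inv_of_mul_eq_one_right hu
  rw [hN]
  exact Algebra.algebraMap_eq_smul_one (A := ℍ[F]) ν⁻¹

end RR

/-- The vector `(1, 1)`. -/
def f2 : Fin 2 → ℍ[F] := fun _ => 1

theorem ip_f2 : ip (f2 : Fin 2 → ℍ[F]) f2 = ((2 : F) : ℍ[F]) := by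
  unfold ip f2
  rw [Fin.sum_univ_two, star_one, one_mul]
  apply Quaternion.ext <;> simp
  norm_num

/-- The group of reflections for the vector `(1, 1)`. -/
def E (h2 : (2 : F) ≠ 0) : U F →* GU (Fin 2) F := RR f2 2 h2 ip_f2

theorem E_apply (h2 : (2 : F) ≠ 0) (h : U F) (a b : Fin 2) :
    (E h2 h).1 a b = (1 : Matrix (Fin 2) (Fin 2) ℍ[F]) a b + (2 : F)⁻¹ • ((h : ℍ[F]) - 1) := by
  rw [E, coe_RR, Matrix.add_apply, tv_apply]
  show _ + 1 * _ * star 1 = _
  rw [one_mul, star_one, mul_one]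

theorem sc_E (h2 : (2 : F) ≠ 0) (w h : U F) :
    sc w * E h2 h * (sc w)⁻¹ = E h2 (w * h * w⁻¹) := by
  rw [mul_inv_eq_iff_eq_mul]
  apply Subtype.ext
  ext1 a b
  rw [sc_mul_apply, mul_sc_apply, E_apply, E_apply]
  have hw : star (w : ℍ[F]) * w = 1 := Unitary.coe_star_mul_self w
  have h1 : ((w * h * w⁻¹ : U F) : ℍ[F]) = w * h * star (w : ℍ[F]) := by
    rw [Submonoid.coe_mul, Submonoid.coe_mul, PronQ.coe_inv]
  rw [h1, mul_add, add_mul, mul_smul_comm, smul_mul_assoc]
  congr 1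
  · rw [Matrix.one_apply]
    split_ifs <;> simp
  · congr 1
    calc (w : ℍ[F]) * ((h : ℍ[F]) - 1) = w * h * 1 - w := by noncomm_ring
      _ = w * h * (star (w : ℍ[F]) * w) - w := by rw [hw]
      _ = (w * h * star (w : ℍ[F]) - 1) * w := by noncomm_ring

theorem sc_eq_Rj (w : U F) : (sc w : GU (Fin 2) F) = Rj 0 w * Rj 1 w := by
  apply Subtype.ext
  ext1 a b
  rw [coe_sc, Matrix.diagonal_apply, Submonoid.coe_mul, (Rj_mono 1 w).mul_apply]
  show _ = (Rj 0 w).1 a b * (Rj 1 w).1 b b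
  rw [Rj_apply, Rj_apply]
  fin_cases a <;> fin_cases b <;> simp

theorem E_mat (h2 : (2 : F) ≠ 0) (h : U F) {p q : ℍ[F]} (hp : (2 : F)⁻¹ • (1 + (h : ℍ[F])) = p)
    (hq : (2 : F)⁻¹ • ((h : ℍ[F]) - 1) = q) : (E h2 h).1 = !![p, q; q, p] := by
  have ht := two_half h2
  have h1 : (1 : ℍ[F]) + (2 : F)⁻¹ • ((h : ℍ[F]) - 1) = (2 : F)⁻¹ • (1 + (h : ℍ[F])) := by
    apply Quaternion.ext
    · simp; linear_combination -ht
    · simp
    · simp
    · simp
  ext1 a b
  rw [E_apply, ← hp, ← hq, ← h1]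
  fin_cases a <;> fin_cases b <;> simp

theorem Rj0_mat (h : U F) : (Rj (0 : Fin 2) h).1 = !![(h : ℍ[F]), 0; 0, 1] := by
  ext1 a b
  rw [Rj_apply]
  fin_cases a <;> fin_cases b <;> simp

theorem Rj1_mat (h : U F) : (Rj (1 : Fin 2) h).1 = !![1, 0; 0, (h : ℍ[F])] := by
  ext1 a b
  rw [Rj_apply]
  fin_cases a <;> fin_cases b <;> simp

theorem sc_mat (h : U F) : (sc h : GU (Fin 2) F).1 = !![(h : ℍ[F]), 0; 0, (h : ℍ[F])] := by
  rw [coe_sc]
  ext1 a b
  rw [Matrix.diagonal_apply]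
  fin_cases a <;> fin_cases b <;> simp

theorem mat_ext {a b c d a' b' c' d' : ℍ[F]} (h1 : a = a') (h2 : b = b') (h3 : c = c')
    (h4 : d = d') : (!![a, b; c, d] : Matrix (Fin 2) (Fin 2) ℍ[F]) = !![a', b'; c', d'] := by
  rw [h1, h2, h3, h4]

/-- The word in the reflections which gives `ω⁻¹`. -/
theorem word (h2 : (2 : F) ≠ 0) :
    E h2 uJ * Rj 0 uI * E h2 uI =
      E h2 nu * Rj 1 uK * Rj 0 nu * sc (om h2)⁻¹ * E h2 uJ := by
  have ht := two_half h2
  apply Subtype.ext
  have e1 : ((E h2 uJ * Rj 0 uI * E h2 uI : GU (Fin 2) F)).1 =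
      (E h2 uJ).1 * (Rj 0 uI).1 * (E h2 uI).1 := rfl
  have e2 : ((E h2 nu * Rj 1 uK * Rj 0 nu * sc (om h2)⁻¹ * E h2 uJ : GU (Fin 2) F)).1 =
      (E h2 nu).1 * (Rj 1 uK).1 * (Rj 0 nu).1 * (sc (om h2)⁻¹ : GU (Fin 2) F).1 * (E h2 uJ).1 := rfl
  have hom : ((om h2)⁻¹ : U F).1 = mkQ (-2⁻¹) (-2⁻¹) (-2⁻¹) (-2⁻¹) := by
    rw [PronQ.coe_inv, coe_om]
    apply Quaternion.ext <;> simp [omQ]
  rw [e1, e2, E_mat h2 uJ (p := mkQ 2⁻¹ 0 2⁻¹ 0) (q := mkQ (-2⁻¹) 0 2⁻¹ 0)
    (by apply Quaternion.ext <;> simp) (by apply Quaternion.ext <;> simp),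
    E_mat h2 uI (p := mkQ 2⁻¹ 2⁻¹ 0 0) (q := mkQ (-2⁻¹) 2⁻¹ 0 0)
    (by apply Quaternion.ext <;> simp) (by apply Quaternion.ext <;> simp),
    E_mat h2 nu (p := 0) (q := -1)
    (by rw [coe_nu]; simp)
    (by
      rw [coe_nu]
      apply Quaternion.ext
      · simp; linear_combination -ht
      · simp
      · simp
      · simp), Rj0_mat, Rj0_mat, Rj1_mat, sc_mat, hom, coe_nu, coe_uI, coe_uK]
  rw [Matrix.mul_fin_two, Matrix.mul_fin_two, Matrix.mul_fin_two, Matrix.mul_fin_two,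
    Matrix.mul_fin_two, Matrix.mul_fin_two]
  apply mat_ext <;> apply Quaternion.ext <;> simp

/-- A Sylow 2-subgroup normalizing a subgroup which contains a 2-group of the same order lies in
this subgroup. -/
theorem le_of_norm {G : Type*} [Group G] [Finite G] (S : Sylow 2 G) {P X : Subgroup G}
    (hnorm : ∀ s ∈ (S : Subgroup G), ∀ x ∈ P, s * x * s⁻¹ ∈ P) (hX : X ≤ P) (hX2 : IsPGroup 2 X)
    (hcard : Nat.card (S : Subgroup G) ≤ Nat.card X) : (S : Subgroup G) ≤ P := by
  have hcj : ∀ w ∈ (S : Subgroup G), OddHalf.D3.ThreeDefs.cj w P = P := by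
    intro w hw
    apply le_antisymm
    · intro x hx
      rw [OddHalf.D3.ThreeDefs.mem_cj] at hx
      have := hnorm w hw _ hx
      have h1 : w * (w⁻¹ * x * w) * w⁻¹ = x := by group
      rwa [h1] at this
    · intro x hx
      rw [OddHalf.D3.ThreeDefs.mem_cj]
      have := hnorm w⁻¹ (inv_mem hw) x hx
      rwa [inv_inv] at this
  obtain ⟨Q, hQP, hQ2, hQcj, hQmax⟩ := OddHalf.D3.ThreeDefs.exists_inv_syl S.isPGroup' hcj
  have hSQ : (S : Subgroup G) ≤ Subgroup.normalizer (Q : Set G) := by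
    intro w hw
    rw [Subgroup.mem_normalizer_iff]
    intro x
    constructor
    · intro hx
      rw [← hQcj w hw]
      exact OddHalf.D3.ThreeDefs.conj_mem_cj hx
    · intro hx
      rw [← hQcj w hw, OddHalf.D3.ThreeDefs.mem_cj] at hx
      have h1 : w⁻¹ * (w * x * w⁻¹) * w = x := by group
      rwa [h1] at hx
  have h3 : IsPGroup 2 (Q ⊔ (S : Subgroup G) : Subgroup G) :=
    hQ2.to_sup_of_normal_left' S.isPGroup' hSQ
  have h4 := S.is_maximal' h3 le_sup_right
  have hQS : Q ≤ (S : Subgroup G) := by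
    have : Q ≤ Q ⊔ (S : Subgroup G) := le_sup_left
    rw [h4] at this
    exact this
  obtain ⟨x, hx, hxQ⟩ := hQmax X hX hX2
  have h5 : Nat.card X ≤ Nat.card Q := by
    have h6 : Nat.card (OddHalf.D3.ThreeDefs.cj x X) = Nat.card X :=
      Subgroup.card_map_of_injective (MulAut.conj x).injective
    rw [← h6]
    exact Nat.le_of_dvd Nat.card_pos (Subgroup.card_dvd_of_le hxQ)
  have h6 : Q = (S : Subgroup G) := Subgroup.eq_of_le_of_card_ge hQS (hcard.trans h5)
  rw [← h6]
  exact hQP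

/-- The two by two lemma. -/
theorem two_by_two [Finite F] (h2 : (2 : F) ≠ 0) (hns : ¬ IsSquare (2 : F))
    {L : Subgroup (GU (Fin 2) F)} (h0 : ∀ w ∈ Q8 F, Rj 0 w ∈ L) (h1 : ∀ w ∈ Q8 F, Rj 1 w ∈ L)
    {u : ℍ[F]} (hu : 2 * normSq u = 1)
    (hx : ip (fun a => (f2 : Fin 2 → ℍ[F]) a * u) (fun a => (f2 : Fin 2 → ℍ[F]) a * u) = 1)
    (hR : ∀ w ∈ Q8 F, R (fun a => f2 a * u) hx w ∈ L) : sc (om h2) ∈ L := by
  obtain ⟨S, hS⟩ := exists_sylow_Q8 h2 hns
  have hQP : (S : Subgroup (U F)) ≤ L.comap (E h2) := by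
    refine le_of_norm S (X := (Q8 F).map (cjq u 2 hu)) ?_ ?_ ?_ ?_
    · intro s hs x hx
      rw [hS] at hs
      show E h2 (s * x * s⁻¹) ∈ L
      rw [← sc_E]
      have h3 : sc s ∈ L := by rw [sc_eq_Rj]; exact mul_mem (h0 s hs) (h1 s hs)
      exact mul_mem (mul_mem h3 hx) (inv_mem h3)
    · rintro _ ⟨w, hw, rfl⟩
      show E h2 (cjq u 2 hu w) ∈ L
      rw [E, ← R_eq_RR h2 ip_f2 hu hx]
      exact hR w hw
    · exact Q8_isPGroup.map _
    · rw [hS, Subgroup.card_map_of_injective (cjq_injective u 2 hu)]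
  rw [hS] at hQP
  have hE : ∀ w ∈ Q8 F, E h2 w ∈ L := hQP
  have hnu : (nu : U F) ∈ Q8 F := Or.inr (Or.inl rfl)
  have hw := word h2
  have h3 : sc (om h2) = (E h2 uJ * (E h2 uJ * Rj 0 uI * E h2 uI)⁻¹ *
      (E h2 nu * Rj 1 uK * Rj 0 nu)) := by
    rw [hw, map_inv]; group
  rw [h3]
  exact mul_mem (mul_mem (hE _ uJ_mem) (inv_mem (mul_mem (mul_mem (hE _ uJ_mem) (h0 _ uI_mem))
    (hE _ uI_mem)))) (mul_mem (mul_mem (hE _ hnu) (h1 _ uK_mem)) (h0 _ hnu))

end Cfsg.Agent.H158.PronTwo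
end

-- part: H158/PronAvg
section
/-!
# Averaging over a transitive 2-group (helper158)
-/

set_option autoImplicit false
set_option linter.unusedSectionVars false

namespace Cfsg.Agent.H158.PronAvg

open Quaternion Matrix Equiv
open Cfsg.Agent.H158.PronQ Cfsg.Agent.H158.PronMat Cfsg.Agent.H158.PronMono
open Cfsg.Agent.H158.PronFrame

variable {F : Type*} [Field F] {n : Type*} [Fintype n] [DecidableEq n]

/-- Diagonal matrices. -/
def D : (n → U F) →* GU n F where
  toFun d := ⟨Matrix.diagonal fun a => (d a : ℍ[F]), by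
    rw [mem_GU, Matrix.diagonal_conjTranspose, Matrix.diagonal_mul_diagonal,
      Matrix.diagonal_mul_diagonal]
    constructor
    · rw [← Matrix.diagonal_one]
      congr 1
      funext a
      exact Unitary.coe_star_mul_self (d a)
    · rw [← Matrix.diagonal_one]
      congr 1
      funext a
      exact Unitary.coe_mul_star_self (d a)⟩
  map_one' := Subtype.ext Matrix.diagonal_one
  map_mul' := fun u v => Subtype.ext (Matrix.diagonal_mul_diagonal _ _).symm

theorem D_apply (d : n → U F) (a b : n) : (D d).1 a b = if a = b then (d a : ℍ[F]) else 0 := by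
  show Matrix.diagonal (fun a => (d a : ℍ[F])) a b = _
  rw [Matrix.diagonal_apply]

theorem D_const (u : U F) : D (fun _ : n => u) = sc u := rfl

theorem PM_conj_D (τ : Perm n) (d : n → U F) : PM τ * D d * (PM τ)⁻¹ = D (fun b => d (τ⁻¹ b)) := by
  rw [mul_inv_eq_iff_eq_mul]
  apply Subtype.ext
  ext1 a b
  have h1 : (PM τ * D d : GU n F).1 a b = (PM τ : GU n F).1 a b * d b := by
    show ((PM τ : GU n F).1 * Matrix.diagonal (fun a => (d a : ℍ[F]))) a b = _
    rw [Matrix.mul_diagonal]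
  have h3 : (D (fun b => d (τ⁻¹ b)) * PM τ : GU n F).1 a b = d (τ⁻¹ a) * (PM τ : GU n F).1 a b := by
    show (Matrix.diagonal (fun a => (d (τ⁻¹ a) : ℍ[F])) * (PM τ : GU n F).1) a b = _
    rw [Matrix.diagonal_mul]
  rw [h1, h3, PM_apply]
  by_cases h : a = τ b
  · subst h
    rw [if_pos rfl, one_mul, mul_one]
    simp
  · rw [if_neg h, zero_mul, mul_zero]

/-- The averaging lemma. -/
theorem avg (h2 : (2 : F) ≠ 0) {T : Subgroup (Perm n)} (hT2 : IsPGroup 2 T)
    (hT : ∀ a b : n, ∃ τ ∈ T, τ a = b) {K : Subgroup (GU n F)} (hK : ∀ τ ∈ T, PM τ ∈ K)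
    (ε : n → ℤ) (hε : D (fun b => (om h2) ^ ε b) ∈ K) (hs : ¬ (3 : ℤ) ∣ ∑ b, ε b) :
    sc (om h2) ∈ K := by
  classical
  have : Fintype T := Fintype.ofFinite T
  -- products
  have h1 : ∀ τ : T, D (fun b => (om h2) ^ ε ((τ : Perm n)⁻¹ b)) ∈ K := by
    intro τ
    have h3 := mul_mem (mul_mem (hK τ τ.2) hε) (inv_mem (hK τ τ.2))
    rwa [PM_conj_D] at h3
  have hprod : ∀ s : Finset T, D (fun b => (om h2) ^ ∑ τ ∈ s, ε ((τ : Perm n)⁻¹ b)) ∈ K := by
    intro s
    induction s using Finset.induction_on with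
    | empty =>
      have : D (fun _ : n => (om h2) ^ (0 : ℤ)) = 1 := by
        simp only [zpow_zero]
        exact map_one D
      simp only [Finset.sum_empty]
      rw [this]; exact one_mem _
    | insert τ s hτ ih =>
      have h3 := mul_mem (h1 τ) ih
      rw [← map_mul] at h3
      have h4 : (fun b => (om h2) ^ ε ((τ : Perm n)⁻¹ b)) *
          (fun b => (om h2) ^ ∑ τ ∈ s, ε ((τ : Perm n)⁻¹ b)) =
          fun b => (om h2) ^ ∑ τ ∈ insert τ s, ε ((τ : Perm n)⁻¹ b) := by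
        funext b
        rw [Pi.mul_apply, ← _root_.zpow_add, Finset.sum_insert hτ]
      rwa [h4] at h3
  set c : n → ℤ := fun b => ∑ τ : T, ε ((τ : Perm n)⁻¹ b) with hc
  have hcc : ∀ a b, c a = c b := by
    intro a b
    obtain ⟨ρ, hρ, rfl⟩ := hT b a
    simp only [hc]
    refine Fintype.sum_equiv (Equiv.mulLeft (⟨ρ, hρ⟩ : T)⁻¹) _ _ (fun τ => ?_)
    simp only [Equiv.coe_mulLeft, Subgroup.coe_mul, Subgroup.coe_inv, _root_.mul_inv_rev, inv_inv,
      Perm.mul_apply]
  by_cases hne : Nonempty n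
  · obtain ⟨a⟩ := hne
    have hsum : (Fintype.card n : ℤ) * c a = Fintype.card T * ∑ b, ε b := by
      have h3 : ∑ b, c b = Fintype.card n * c a := by
        rw [Finset.sum_congr rfl (fun b _ => hcc b a), Finset.sum_const, Finset.card_univ,
          nsmul_eq_mul]
      rw [← h3]
      simp only [hc]
      rw [Finset.sum_comm]
      have h4 : ∀ τ : T, ∑ b, ε ((τ : Perm n)⁻¹ b) = ∑ b, ε b := fun τ =>
        Equiv.sum_comp ((τ : Perm n)⁻¹) ε
      rw [Finset.sum_congr rfl (fun τ _ => h4 τ), Finset.sum_const, Finset.card_univ,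
        nsmul_eq_mul]
    have h3c : ¬ (3 : ℤ) ∣ c a := by
      intro hd
      have h4 : (3 : ℤ) ∣ Fintype.card T * ∑ b, ε b := by
        rw [← hsum]; exact dvd_mul_of_dvd_right hd _
      rcases (Int.prime_three.dvd_mul).1 h4 with h5 | h5
      · obtain ⟨k, hk⟩ := IsPGroup.iff_card.1 hT2
        rw [Nat.card_eq_fintype_card] at hk
        rw [hk] at h5
        have h6 : 3 ∣ 2 ^ k := by exact_mod_cast h5
        have h7 := Nat.Prime.dvd_of_dvd_pow Nat.prime_three h6
        omega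
      · exact hs h5
    have hmem : sc (om h2) ^ (c a) ∈ K := by
      rw [← map_zpow, ← D_const]
      have h4 := hprod Finset.univ
      have h5 : (fun b => (om h2) ^ ∑ τ : T, ε ((τ : Perm n)⁻¹ b)) = fun _ => (om h2) ^ c a := by
        funext b
        rw [← hcc b a]
      rwa [h5] at h4
    have h3 : sc (om h2 : U F) ^ (3 : ℤ) = (1 : GU n F) := by
      rw [← map_zpow]
      have : (om h2 : U F) ^ (3 : ℤ) = 1 := by
        rw [show (3 : ℤ) = ((3 : ℕ) : ℤ) from rfl, zpow_natCast, om_cube]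
      rw [this, map_one]
    have hcop : IsCoprime (c a) 3 := by
      rw [isCoprime_comm]
      exact (Int.prime_three.coprime_iff_not_dvd).2 h3c
    obtain ⟨x, y, hxy⟩ := hcop
    have h4 : sc (om h2) = ((sc (om h2)) ^ (c a)) ^ x * ((sc (om h2) : GU n F) ^ (3 : ℤ)) ^ y := by
      rw [← _root_.zpow_mul, ← _root_.zpow_mul, ← _root_.zpow_add]
      have : c a * x + 3 * y = 1 := by linear_combination hxy
      rw [this, zpow_one]
    rw [h4, h3, _root_.one_zpow, mul_one]
    exact zpow_mem hmem _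
  · have h3 : sc (om h2) = (1 : GU n F) := by
      apply Subtype.ext
      ext1 a b
      exact absurd ⟨a⟩ hne
    rw [h3]; exact one_mem _

theorem Rj_eq_D (b : n) (u : U F) : Rj b u = D (fun c => if c = b then u else 1) := by
  apply Subtype.ext
  ext1 c d
  rw [Rj_apply, D_apply]
  by_cases hcd : c = d
  · rw [if_pos hcd, if_pos hcd]
    split_ifs <;> rfl
  · rw [if_neg hcd, if_neg hcd]

/-- `ω` in a single coordinate. -/
theorem avg_single (h2 : (2 : F) ≠ 0) {T : Subgroup (Perm n)} (hT2 : IsPGroup 2 T)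
    (hT : ∀ a b : n, ∃ τ ∈ T, τ a = b) {K : Subgroup (GU n F)} (hK : ∀ τ ∈ T, PM τ ∈ K)
    {b : n} (hb : Rj b (om h2) ∈ K) : sc (om h2) ∈ K := by
  refine avg h2 hT2 hT hK (fun c => if c = b then 1 else 0) ?_ ?_
  · have : (fun c => (om h2 : U F) ^ (if c = b then (1 : ℤ) else 0)) =
        fun c => if c = b then om h2 else 1 := by
      funext c
      split_ifs <;> simp
    rw [this, ← Rj_eq_D]
    exact hb
  · simp

/-- `ω` in two coordinates. -/
theorem avg_pair (h2 : (2 : F) ≠ 0) {T : Subgroup (Perm n)} (hT2 : IsPGroup 2 T)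
    (hT : ∀ a b : n, ∃ τ ∈ T, τ a = b) {K : Subgroup (GU n F)} (hK : ∀ τ ∈ T, PM τ ∈ K)
    {a b : n} (hb : Rj a (om h2) * Rj b (om h2) ∈ K) : sc (om h2) ∈ K := by
  refine avg h2 hT2 hT hK (fun c => (if c = a then 1 else 0) + if c = b then 1 else 0) ?_ ?_
  · have : (fun c => (om h2 : U F) ^ ((if c = a then (1 : ℤ) else 0) + if c = b then 1 else 0)) =
        (fun c => if c = a then om h2 else 1) * fun c => if c = b then om h2 else 1 := by
      funext c
      rw [Pi.mul_apply, _root_.zpow_add]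
      split_ifs <;> simp
    rw [this, map_mul, ← Rj_eq_D, ← Rj_eq_D]
    exact hb
  · rw [Finset.sum_add_distrib]
    simp

end Cfsg.Agent.H158.PronAvg
end

-- part: H158/PronK
section
/-!
# Fusion of reflections in overgroups of the wreath product (helper158)
-/

set_option autoImplicit false
set_option linter.unusedSectionVars false

namespace Cfsg.Agent.H158.PronK

open Quaternion Matrix Equiv
open Cfsg.Agent.H158.PronQ Cfsg.Agent.H158.PronMat Cfsg.Agent.H158.PronMono
open Cfsg.Agent.H158.PronFrame Cfsg.Agent.H158.PronTwo Cfsg.Agent.H158.PronAvg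

variable {F : Type*} [Field F] {n : Type*} [Fintype n] [DecidableEq n]

/-- Conjugating a 2-subgroup into a given Sylow subgroup. -/
theorem conj_into {G : Type*} [Group G] [Finite G] (S : Sylow 2 G) {K Q : Subgroup G}
    (hS : (S : Subgroup G) ≤ K) (hQK : Q ≤ K) (hQ : IsPGroup 2 Q) :
    ∃ c ∈ K, ∀ q ∈ Q, c * q * c⁻¹ ∈ (S : Subgroup G) := by
  have h1 : IsPGroup 2 (Q.subgroupOf K) := hQ.comap_of_injective K.subtype K.subtype_injective
  obtain ⟨Q', hQ'⟩ := h1.exists_le_sylow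
  obtain ⟨c, hc⟩ := MulAction.exists_smul_eq K Q' (S.subtype hS)
  refine ⟨c, c.2, fun q hq => ?_⟩
  have h3 : (⟨q, hQK hq⟩ : K) ∈ (Q' : Subgroup K) := hQ' hq
  have h4 : c * ⟨q, hQK hq⟩ * c⁻¹ ∈ (S.subtype hS : Subgroup K) := by
    rw [← hc, Sylow.coe_subgroup_smul, Subgroup.mem_pointwise_smul_iff_inv_smul_mem]
    have h0 : (MulAut.conj c)⁻¹ • (c * (⟨q, hQK hq⟩ : K) * c⁻¹) = ⟨q, hQK hq⟩ := by
      rw [← map_inv, MulAut.smul_def, MulAut.conj_apply, inv_inv]
      group
    rw [h0]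
    exact h3
  rw [Sylow.coe_subtype, Subgroup.mem_subgroupOf] at h4
  exact h4

theorem isPGroup_Sylow_perm (T : Sylow 2 (Perm n)) : IsPGroup 2 (T : Subgroup (Perm n)) :=
  T.isPGroup'

instance [Finite F] : Finite (Matrix n n ℍ[F]) := by
  unfold Matrix
  infer_instance

/-- The wreath product of `Q8` and a Sylow 2-subgroup of a symmetric group is a Sylow
2-subgroup. -/
theorem exists_sylow_SG [Finite F] (h2 : (2 : F) ≠ 0) (hns : ¬ IsSquare (2 : F))
    (T : Sylow 2 (Perm n)) (hT : ∀ a b : n, ∃ τ ∈ (T : Subgroup (Perm n)), τ a = b) :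
    ∃ S : Sylow 2 (GU n F), (S : Subgroup (GU n F)) = SG (Q8 F) (T : Subgroup (Perm n)) := by
  apply exists_sylow_eq _ (SG_isPGroup Q8_isPGroup T.isPGroup')
  rintro g hg ⟨k, hk⟩
  have hgn : g ∈ Subgroup.normalizer
      ((SG (Q8 F) (T : Subgroup (Perm n)) : Subgroup (GU n F)) : Set (GU n F)) := by
    have hginv : ∀ s ∈ SG (Q8 F) (T : Subgroup (Perm n)), g⁻¹ * s * g ∈ SG (Q8 F)
        (T : Subgroup (Perm n)) := by
      have h3 : ∀ j : ℕ, ∀ s ∈ SG (Q8 F) (T : Subgroup (Perm n)),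
          g ^ j * s * (g ^ j)⁻¹ ∈ SG (Q8 F) (T : Subgroup (Perm n)) := by
        intro j
        induction j with
        | zero => intro s hs; simpa using hs
        | succ j ih =>
          intro s hs
          have h4 : g ^ (j + 1) * s * (g ^ (j + 1))⁻¹ = g ^ j * (g * s * g⁻¹) * (g ^ j)⁻¹ := by
            rw [pow_succ]; group
          rw [h4]
          exact ih _ (hg s hs)
      intro s hs
      have h5 := h3 (2 ^ k - 1) s hs
      have h6 : g ^ (2 ^ k - 1) = g⁻¹ := by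
        rw [eq_inv_iff_mul_eq_one, ← pow_succ, Nat.sub_add_cancel Nat.one_le_two_pow, hk]
      rw [h6, inv_inv] at h5
      exact h5
    rw [Subgroup.mem_normalizer_iff]
    intro s
    refine ⟨fun h => hg s h, fun h => ?_⟩
    have h3 := hginv _ h
    have h4 : g⁻¹ * (g * s * g⁻¹) * g = s := by group
    rwa [h4] at h3
  have h3 : sc (om h2) ^ 3 = (1 : GU n F) := by rw [← map_pow, om_cube, map_one]
  have hcop : Nat.Coprime 3 (2 ^ k) := Nat.Coprime.pow_right k (by norm_num)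
  rcases norm_SG_Q8 h2 hns T hT hgn with h | h | h
  · exact h
  · refine mem_of_pow_coprime _ hcop ?_ (by rw [hk]; exact one_mem _)
    have h4 : g ^ 3 = (sc (om h2) * ((sc (om h2))⁻¹ * g) * (sc (om h2))⁻¹) *
        (sc (om h2) * (sc (om h2) * ((sc (om h2))⁻¹ * g) * (sc (om h2))⁻¹) * (sc (om h2))⁻¹) *
        ((sc (om h2)) ^ 3 * ((sc (om h2))⁻¹ * g)) := by
      rw [pow_succ, pow_two, pow_succ, pow_two]; group
    rw [h4, h3, one_mul]
    exact mul_mem (mul_mem (sc_om_conj h2 h) (sc_om_conj h2 (sc_om_conj h2 h))) h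
  · refine mem_of_pow_coprime _ hcop ?_ (by rw [hk]; exact one_mem _)
    have h4 : g ^ 3 = ((sc (om h2))⁻¹ * (sc (om h2) * g) * sc (om h2)) *
        ((sc (om h2))⁻¹ * ((sc (om h2))⁻¹ * (sc (om h2) * g) * sc (om h2)) * sc (om h2)) *
        (((sc (om h2)) ^ 3)⁻¹ * (sc (om h2) * g)) := by
      rw [pow_succ, pow_two, pow_succ, pow_two]; group
    rw [h4, h3, inv_one, one_mul]
    exact mul_mem (mul_mem (sc_om_conj' h2 h) (sc_om_conj' h2 (sc_om_conj' h2 h))) h

/-- The unit vectors whose `Q8` lies in `K`. -/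
def InS (K : Subgroup (GU n F)) (x : n → ℍ[F]) : Prop :=
  ∃ hx : ip x x = 1, ∀ w ∈ Q8 F, R x hx w ∈ K

theorem InS.act {K : Subgroup (GU n F)} {x : n → ℍ[F]} (hx : InS K x) {g : GU n F} (hg : g ∈ K) :
    InS K (g.1 *ᵥ x) := by
  obtain ⟨hx1, hx2⟩ := hx
  refine ⟨by rw [ip_act, hx1], fun w hw => ?_⟩
  rw [← R_conj g x hx1 _ w]
  exact mul_mem (mul_mem hg (hx2 w hw)) (inv_mem hg)

theorem InS_e {K : Subgroup (GU n F)} {T : Subgroup (Perm n)} (hK : SG (Q8 F) T ≤ K) (b : n) :
    InS K (e b) := ⟨ip_e_e b, fun _ hw => hK (Rj_mem T b hw)⟩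

theorem Rj_mulVec (b : n) (v : U F) (x : n → ℍ[F]) :
    (Rj b v).1 *ᵥ x = fun c => if c = b then (v : ℍ[F]) * x c else x c := by
  funext c
  rw [Matrix.mulVec, dotProduct, Finset.sum_eq_single c]
  · rw [Rj_apply, if_pos rfl]
    split_ifs
    · rfl
    · rw [one_mul]
  · intro d _ hd
    rw [Rj_apply, if_neg (fun h => hd h.symm), zero_mul]
  · intro h; exact absurd (Finset.mem_univ _) h

/-- The matrix with columns `e a`, `e b`. -/
def Xab (a b : n) : Matrix n (Fin 2) ℍ[F] := Matrix.of fun c k => if k = 0 then e a c else e b c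

theorem Xab_mulVec (a b : n) (y : Fin 2 → ℍ[F]) :
    (Xab a b : Matrix n (Fin 2) ℍ[F]) *ᵥ y = fun c => e a c * y 0 + e b c * y 1 := by
  funext c
  rw [Matrix.mulVec, dotProduct, Fin.sum_univ_two]
  rfl

theorem Xab_unit {a b : n} (hab : a ≠ b) :
    (Xab a b : Matrix n (Fin 2) ℍ[F])ᴴ * (Xab a b : Matrix n (Fin 2) ℍ[F]) = 1 := by
  have h1 : ∀ x y : n, ∑ c, star ((e x : n → ℍ[F]) c) * (e y : n → ℍ[F]) c = (e y : n → ℍ[F]) x :=
    fun x y => ip_e (F := F) x (e y)
  have h3 : ∀ x y : n, x ≠ y → (e y : n → ℍ[F]) x = 0 := fun x y h => by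
    rw [e, Pi.single_eq_of_ne h]
  have h4 : ∀ x : n, (e x : n → ℍ[F]) x = 1 := fun x => by rw [e, Pi.single_eq_same]
  ext1 k l
  rw [Matrix.mul_apply]
  simp only [Matrix.conjTranspose_apply]
  fin_cases k <;> fin_cases l
  · exact (h1 a a).trans (h4 a)
  · exact (h1 a b).trans (h3 a b hab)
  · exact (h1 b a).trans (h3 b a hab.symm)
  · exact (h1 b b).trans (h4 b)

section Main

variable [Finite F] (h2 : (2 : F) ≠ 0) (hns : ¬ IsSquare (2 : F)) (T : Sylow 2 (Perm n))
  (hT : ∀ a b : n, ∃ τ ∈ (T : Subgroup (Perm n)), τ a = b) {K : Subgroup (GU n F)}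
  (hSK : SG (Q8 F) (T : Subgroup (Perm n)) ≤ K) (hom : sc (om h2) ∉ K)

include h2 hns hT hSK hom

/-- A reflection of `K` lying in the wreath product is a frame reflection. -/
theorem f1 {x : n → ℍ[F]} (hx : ip x x = 1) (hxK : ∀ w ∈ Q8 F, R x hx w ∈ K)
    (hz : R x hx nu ∈ SG (Q8 F) (T : Subgroup (Perm n))) : ∃ j, ∀ a, a ≠ j → x a = 0 := by
  rcases rf_mem_SG h2 hz with h | ⟨a, b, hab, -, -, hzero, hb, w, hw, ha⟩
  · exact h
  · exfalso
    apply hom
    have hK : ∀ τ ∈ (T : Subgroup (Perm n)), PM τ ∈ K := fun τ hτ => hSK (PM_mem _ hτ)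
    refine avg_pair h2 T.isPGroup' hT hK (a := a) (b := b) ?_
    -- move `x` to `(u, u)`
    set v : U F := nu * w⁻¹ with hv
    have hvQ : v ∈ Q8 F := mul_mem (Or.inr (Or.inl rfl)) (inv_mem hw)
    have hInS : InS K ((Rj a v).1 *ᵥ x) := InS.act ⟨hx, hxK⟩ (hSK (Rj_mem _ a hvQ))
    have hX := Xab_unit (F := F) hab
    have hy : (Rj a v).1 *ᵥ x = Xab a b *ᵥ (fun k => (f2 : Fin 2 → ℍ[F]) k * x b) := by
      rw [Rj_mulVec, Xab_mulVec]
      funext c
      show _ = e a c * (1 * x b) + e b c * (1 * x b)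
      rw [one_mul, e_mul_apply, e_mul_apply]
      by_cases hca : c = a
      · subst hca
        rw [if_pos rfl, if_pos rfl, if_neg hab, add_zero, ha]
        have h3 : (v : ℍ[F]) = -star (w : ℍ[F]) := by
          rw [hv, Submonoid.coe_mul, coe_nu, PronQ.coe_inv]; noncomm_ring
        rw [h3, neg_mul_neg, ← mul_assoc, Unitary.coe_star_mul_self, one_mul]
      · rw [if_neg hca, if_neg hca, zero_add]
        by_cases hcb : c = b
        · rw [if_pos hcb, hcb]
        · rw [if_neg hcb, hzero c hca hcb]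
    rw [hy] at hInS
    obtain ⟨hy1, hy2⟩ := hInS
    have hf : ip (fun k => (f2 : Fin 2 → ℍ[F]) k * x b) (fun k => (f2 : Fin 2 → ℍ[F]) k * x b) = 1 := by
      rw [← ip_Phi hX]; exact hy1
    have h0' : ∀ w : U F, Phi (Xab a b) hX (Rj 0 w) = Rj a w := by
      intro w
      have hXe : (Xab a b : Matrix n (Fin 2) ℍ[F]) *ᵥ e 0 = e a := by
        rw [Xab_mulVec]
        funext c
        have e0 : (e 0 : Fin 2 → ℍ[F]) 0 = 1 := by rw [e, Pi.single_eq_same]
        have e1 : (e 0 : Fin 2 → ℍ[F]) 1 = 0 := by rw [e, Pi.single_eq_of_ne (by decide)]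
        rw [e0, e1, mul_one, mul_zero, add_zero]
      rw [Rj, Phi_R hX _ _ (by rw [hXe]; exact ip_e_e a), Rj]
      exact R_congr hXe _ _ _
    have h1' : ∀ w : U F, Phi (Xab a b) hX (Rj 1 w) = Rj b w := by
      intro w
      have hXe : (Xab a b : Matrix n (Fin 2) ℍ[F]) *ᵥ e 1 = e b := by
        rw [Xab_mulVec]
        funext c
        have e0 : (e 1 : Fin 2 → ℍ[F]) 1 = 1 := by rw [e, Pi.single_eq_same]
        have e1 : (e 1 : Fin 2 → ℍ[F]) 0 = 0 := by rw [e, Pi.single_eq_of_ne (by decide)]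
        rw [e0, e1, mul_one, mul_zero, zero_add]
      rw [Rj, Phi_R hX _ _ (by rw [hXe]; exact ip_e_e b), Rj]
      exact R_congr hXe _ _ _
    have hL := two_by_two h2 hns (L := K.comap (Phi (Xab a b) hX))
      (fun w hw => by
        show Phi (Xab a b) hX (Rj 0 w) ∈ K
        rw [h0']; exact hSK (Rj_mem _ a hw))
      (fun w hw => by
        show Phi (Xab a b) hX (Rj 1 w) ∈ K
        rw [h1']; exact hSK (Rj_mem _ b hw)) hb hf
      (fun w hw => by
        show Phi (Xab a b) hX (R _ hf w) ∈ K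
        rw [Phi_R hX _ hf hy1]; exact hy2 w hw)
    have h5 : Phi (Xab a b) hX (sc (om h2)) = Rj a (om h2) * Rj b (om h2) := by
      rw [sc_eq_Rj, map_mul, h0', h1']
    rw [← h5]
    exact hL

/-- Two reflections of `K` lying in a common 2-subgroup commute. -/
theorem f2' {x y : n → ℍ[F]} (hx : ip x x = 1) (hxK : ∀ w ∈ Q8 F, R x hx w ∈ K)
    (hy : ip y y = 1) (hyK : ∀ w ∈ Q8 F, R y hy w ∈ K) {Q : Subgroup (GU n F)} (hQK : Q ≤ K)
    (hQ : IsPGroup 2 Q) (hxQ : R x hx nu ∈ Q) (hyQ : R y hy nu ∈ Q) :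
    ip x y = 0 ∨ y = fun a => x a * ip x y := by
  obtain ⟨S, hS⟩ := exists_sylow_SG h2 hns T hT
  obtain ⟨c, hc, hcQ⟩ := conj_into S (hS ▸ hSK) hQK hQ
  rw [hS] at hcQ
  have hx' := InS.act ⟨hx, hxK⟩ hc
  have hy' := InS.act ⟨hy, hyK⟩ hc
  obtain ⟨hx1, hx2⟩ := hx'
  obtain ⟨hy1, hy2⟩ := hy'
  have h3 := hcQ _ hxQ
  rw [R_conj c x hx hx1] at h3
  have h4 := hcQ _ hyQ
  rw [R_conj c y hy hy1] at h4
  obtain ⟨j, hj⟩ := f1 h2 hns T hT hSK hom hx1 hx2 h3
  obtain ⟨k, hk⟩ := f1 h2 hns T hT hSK hom hy1 hy2 h4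
  have h5 : ip x y = star ((c.1 *ᵥ x) j) * (c.1 *ᵥ y) j := by
    rw [← ip_act c]
    unfold ip
    refine Finset.sum_eq_single j (fun a _ ha => ?_) (fun h => absurd (Finset.mem_univ _) h)
    rw [hj a ha, star_zero, zero_mul]
  by_cases hjk : j = k
  · right
    subst hjk
    have h6 : (c.1 *ᵥ x) j * star ((c.1 *ᵥ x) j) = 1 := by
      have h7 : ip (c.1 *ᵥ x) (c.1 *ᵥ x) = star ((c.1 *ᵥ x) j) * (c.1 *ᵥ x) j := by
        unfold ip
        refine Finset.sum_eq_single j (fun a _ ha => ?_) (fun h => absurd (Finset.mem_univ _) h)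
        rw [hj a ha, star_zero, zero_mul]
      rw [hx1, star_mul_self] at h7
      rw [self_mul_star]; exact h7.symm
    have h8 : c.1 *ᵥ y = c.1 *ᵥ (fun a => x a * ip x y) := by
      rw [mulVec_smul_right]
      funext a
      by_cases ha : a = j
      · subst ha
        rw [h5, ← mul_assoc, h6, one_mul]
      · rw [hj a ha, hk a ha, zero_mul]
    have h9 := congrArg (fun v => (c.1)ᴴ *ᵥ v) h8
    simp only [Matrix.mulVec_mulVec, star_mul_coe, Matrix.one_mulVec] at h9
    exact h9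
  · left
    rw [h5, hk j hjk, mul_zero]

end Main

end Cfsg.Agent.H158.PronK
end

-- part: H158/PronP
section
/-!
# Subgroups of the norm one group containing the quaternion group (helper158)

`F` is a finite field in which 2 is not a square, `P` a group of norm one quaternions containing
`Q8` but not `ω`.  Then `P = A Q8` where `A`, the set of elements of odd order of `P`, is an
abelian group without elements of order `char F`.
-/

set_option autoImplicit false

namespace Cfsg.Agent.H158.PronP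

open Subgroup Quaternion
open Cfsg.Agent.H158.PronQ Cfsg.Agent.H158.PronM2

variable {F : Type*} [Field F]

theorem neg_one_mem_Q8 : (-1 : U F) ∈ Q8 F := Or.inr (Or.inl rfl)

theorem Q8_comm {x y : ℍ[F]} (hx : IsQ8 x) (hy : IsQ8 y) : x * y = y * x ∨ x * y = -(y * x) := by
  rcases hx with h | h | h | h | h | h | h | h <;> subst h <;>
    rcases hy with h | h | h | h | h | h | h | h <;> subst h <;> simp

theorem Q8_comm' {x y : U F} (hx : x ∈ Q8 F) (hy : y ∈ Q8 F) :
    x * y * x⁻¹ * y⁻¹ = 1 ∨ x * y * x⁻¹ * y⁻¹ = -1 := by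
  rcases Q8_comm hx hy with h | h
  · left
    have h1 : x * y = y * x := Subtype.ext h
    rw [h1]; group
  · right
    have h1 : x * y = -(y * x) := Subtype.ext h
    rw [h1, neg_mul, neg_mul]
    congr 1
    group

/-- `P = A Q8`, `A` the set of elements of odd order. -/
theorem exists_A [Finite F] (h2 : (2 : F) ≠ 0) (hns : ¬ IsSquare (2 : F)) {P : Subgroup (U F)}
    (hP : Q8 F ≤ P) (hom : om h2 ∉ P) :
    ∃ A : Subgroup (U F), (∀ x, x ∈ A ↔ x ∈ P ∧ Odd (orderOf x)) ∧
      ∀ x ∈ P, ∃ a ∈ A, ∃ v ∈ Q8 F, x = a * v := by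
  obtain ⟨S, hS⟩ := exists_sylow_Q8 h2 hns
  have hSP : (S : Subgroup (U F)) ≤ P := by rw [hS]; exact hP
  set Q := S.subtype hSP with hQ
  have hQmem : ∀ x : P, x ∈ (Q : Subgroup P) ↔ (x : U F) ∈ Q8 F := by
    intro x
    rw [hQ, Sylow.coe_subtype, mem_subgroupOf, hS]
  let c : P := ⟨-1, hP neg_one_mem_Q8⟩
  obtain ⟨A, hA, hdec⟩ := PronOdd.odd_core Q c (Subtype.ext (by simp [c]))
    (fun x => Subtype.ext (by simp [c])) ((hQmem c).2 neg_one_mem_Q8) (e := 2)
    (fun v hv => Subtype.ext (Q8_pow ((hQmem v).1 hv)))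
    (by
      intro x hx
      by_contra hxQ
      apply hom
      refine om_mem_of_norm h2 hns hP x.2 ?_ (fun h => hxQ ((hQmem x).2 h))
      intro v hv
      have h1 := (mem_normalizer_iff.1 hx ⟨v, hP hv⟩).1 ((hQmem _).2 hv)
      exact (hQmem _).1 h1)
    (by
      intro x hx y hy
      rcases Q8_comm' ((hQmem x).1 hx) ((hQmem y).1 hy) with h | h
      · left; exact Subtype.ext h
      · right; exact Subtype.ext h)
  refine ⟨A.map P.subtype, fun x => ?_, fun x hx => ?_⟩
  · constructor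
    · rintro ⟨y, hy, rfl⟩
      refine ⟨y.2, ?_⟩
      have := (hA y).1 hy
      rwa [← Subgroup.orderOf_coe] at this
    · rintro ⟨h1, h3⟩
      refine ⟨⟨x, h1⟩, (hA _).2 ?_, rfl⟩
      rwa [← Subgroup.orderOf_coe]
  · obtain ⟨a, ha, v, hv, he⟩ := hdec ⟨x, hx⟩
    exact ⟨a, ⟨a, ha, rfl⟩, v, (hQmem v).1 hv, congrArg Subtype.val he⟩

/-- A quaternion commuting with its conjugates under `i` and `j` has at most one nonzero
imaginary coordinate. -/
theorem comm_conj (h2 : (2 : F) ≠ 0) {b : ℍ[F]}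
    (hi : b * (qi * b * star qi) = (qi * b * star qi) * b)
    (hj : b * (qj * b * star qj) = (qj * b * star qj) * b) :
    b.imI * b.imJ = 0 ∧ b.imI * b.imK = 0 ∧ b.imJ * b.imK = 0 := by
  have e1 := congrArg QuaternionAlgebra.imJ hi
  have e2 := congrArg QuaternionAlgebra.imK hi
  have e3 := congrArg QuaternionAlgebra.imI hj
  simp at e1 e2 e3
  have h4 : (2 : F) * 2 ≠ 0 := mul_ne_zero h2 h2
  refine ⟨?_, ?_, ?_⟩
  · have : (2 : F) * 2 * (b.imI * b.imJ) = 0 := by linear_combination -e2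
    exact (mul_eq_zero.1 this).resolve_left h4
  · have : (2 : F) * 2 * (b.imI * b.imK) = 0 := by linear_combination e1
    exact (mul_eq_zero.1 this).resolve_left h4
  · have : (2 : F) * 2 * (b.imJ * b.imK) = 0 := by linear_combination -e3
    exact (mul_eq_zero.1 this).resolve_left h4

theorem normSq_sub_one (u : U F) : normSq ((u : ℍ[F]) - 1) = 2 - 2 * (u : ℍ[F]).re := by
  have hN := normSq_U' u
  rw [normSq_def']
  simp
  linear_combination hN

theorem re_eq_one {u : U F} (h2 : (2 : F) ≠ 0) (h : normSq ((u : ℍ[F]) - 1) = 0) :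
    (u : ℍ[F]).re = 1 := by
  rw [normSq_sub_one] at h
  have h3 : (2 : F) * (1 - (u : ℍ[F]).re) = 0 := by linear_combination h
  exact (sub_eq_zero.1 ((mul_eq_zero.1 h3).resolve_left h2)).symm

theorem charP_quaternion (p : ℕ) [CharP F p] : CharP ℍ[F] p :=
  charP_of_injective_algebraMap (algebraMap F ℍ[F]).injective p

/-- Elements of order a power of the characteristic are unipotent. -/
theorem normSq_eq_zero_of_pow (p : ℕ) [Fact p.Prime] [CharP F p] {u : U F} {k : ℕ}
    (h : u ^ p ^ k = 1) : normSq ((u : ℍ[F]) - 1) = 0 := by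
  have := charP_quaternion (F := F) p
  have h1 : ((u : ℍ[F]) - 1) ^ p ^ k = 0 := by
    rw [sub_pow_char_pow_of_commute _ _ (Commute.one_right _), one_pow]
    have h3 : ((u ^ p ^ k : U F) : ℍ[F]) = (u : ℍ[F]) ^ p ^ k := rfl
    rw [← h3, h]
    exact sub_self _
  have h3 := congrArg normSq h1
  rw [map_pow, map_zero] at h3
  exact eq_zero_of_pow_eq_zero h3

/-- The `Q8`-invariant subgroups of order a power of the characteristic are trivial. -/
theorem eq_bot_of_isPGroup [Finite F] (h2 : (2 : F) ≠ 0) (p : ℕ) [Fact p.Prime] [CharP F p]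
    {X : Subgroup (U F)} (hX : IsPGroup p X) (hinv : ∀ v ∈ Q8 F, ∀ x ∈ X, v * x * v⁻¹ ∈ X) :
    X = ⊥ := by
  by_contra hne
  have hnt : Nontrivial X := (Subgroup.nontrivial_iff_ne_bot X).2 hne
  have hc := hX.center_nontrivial
  obtain ⟨⟨⟨b, hbX⟩, hbc⟩, hb1⟩ := exists_ne (1 : Subgroup.center X)
  have hb1' : b ≠ 1 := fun h => hb1 (Subtype.ext (Subtype.ext h))
  have hcomm : ∀ v ∈ Q8 F, b * (v * b * v⁻¹) = (v * b * v⁻¹) * b := by
    intro v hv
    have h1 := Subgroup.mem_center_iff.1 hbc ⟨_, hinv v hv b hbX⟩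
    exact (congrArg Subtype.val h1).symm
  have hi : (b : ℍ[F]) * (qi * (b : ℍ[F]) * star qi) = (qi * (b : ℍ[F]) * star qi) * (b : ℍ[F]) := by
    have h1 := congrArg Subtype.val (hcomm uI uI_mem)
    simp only [Submonoid.coe_mul, PronQ.coe_inv, coe_uI] at h1
    exact h1
  have hj : (b : ℍ[F]) * (qj * (b : ℍ[F]) * star qj) = (qj * (b : ℍ[F]) * star qj) * (b : ℍ[F]) := by
    have h1 := congrArg Subtype.val (hcomm uJ uJ_mem)
    simp only [Submonoid.coe_mul, PronQ.coe_inv, coe_uJ] at h1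
    exact h1
  obtain ⟨e1, e2, e3⟩ := comm_conj h2 hi hj
  obtain ⟨k, hk⟩ := hX ⟨b, hbX⟩
  have hk' : b ^ p ^ k = 1 := congrArg Subtype.val hk
  have hre := re_eq_one h2 (normSq_eq_zero_of_pow p hk')
  have hN := normSq_U' b
  rw [hre] at hN
  apply hb1'
  apply Subtype.ext
  generalize (b : ℍ[F]) = q at *
  show q = 1
  have hs : q.imI * q.imI + q.imJ * q.imJ + q.imK * q.imK = 0 := by linear_combination hN
  by_cases h1 : q.imI = 0
  · by_cases h3 : q.imJ = 0
    · rw [h1, h3] at hs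
      have h4 : q.imK = 0 := mul_self_eq_zero.1 (by linear_combination hs)
      apply Quaternion.ext <;> simp [hre, h1, h3, h4]
    · have h4 : q.imK = 0 := (mul_eq_zero.1 e3).resolve_left h3
      rw [h1, h4] at hs
      exact absurd (mul_self_eq_zero.1 (by linear_combination hs)) h3
  · have h3 : q.imJ = 0 := (mul_eq_zero.1 e1).resolve_left h1
    have h4 : q.imK = 0 := (mul_eq_zero.1 e2).resolve_left h1
    rw [h3, h4] at hs
    exact absurd (mul_self_eq_zero.1 (by linear_combination hs)) h1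

theorem not_dvd_card [Finite F] (h2 : (2 : F) ≠ 0) (p : ℕ) [Fact p.Prime] [CharP F p]
    {A : Subgroup (U F)} (hA : ¬ 2 ∣ Nat.card A) (hinv : ∀ v ∈ Q8 F, ∀ x ∈ A, v * x * v⁻¹ ∈ A) :
    ¬ p ∣ Nat.card A := by
  obtain ⟨R, hRA, hR, hidx, hRinv⟩ := Cfsg.Agent.Classification.QDW.FuCop.exists_inv
    (p := 2) (D := Q8 F) (X := A) Q8_isPGroup hA hinv p
  have h1 := eq_bot_of_isPGroup h2 p hR hRinv
  rw [h1, Subgroup.relIndex_bot_left] at hidx
  exact hidx

/-- An element of odd order, not divisible by the characteristic, with real part `±1` is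
trivial. -/
theorem eq_one_of_re (p : ℕ) [Fact p.Prime] [CharP F p] {c : U F}
    (hodd : Odd (orderOf c)) (hp : ¬ p ∣ orderOf c) (hre : (c : ℍ[F]).re * (c : ℍ[F]).re = 1) :
    c = 1 := by
  have := charP_quaternion (F := F) p
  have hN := normSq_U c
  -- `c² = 2 re c · c - 1`
  have hsq : (c : ℍ[F]) * c = (2 * (c : ℍ[F]).re) • (c : ℍ[F]) - 1 := by
    have h1 := sandwich (c : ℍ[F]) 1
    rw [hN, one_smul, star_one, mul_one, one_mul] at h1
    exact h1
  have h3 : ((c ^ 2 : U F) : ℍ[F]) = (c : ℍ[F]) * c := by rw [pow_two]; rfl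
  have h4 : (((c ^ 2 : U F) : ℍ[F]) - 1) * (((c ^ 2 : U F) : ℍ[F]) - 1) = 0 := by
    rw [h3, hsq]
    have h5 : ((2 * (c : ℍ[F]).re) • (c : ℍ[F]) - 1 - 1) * ((2 * (c : ℍ[F]).re) • (c : ℍ[F]) - 1 - 1)
        = ((2 * (c : ℍ[F]).re) * (2 * (c : ℍ[F]).re)) • ((c : ℍ[F]) * c)
          - (4 * (2 * (c : ℍ[F]).re)) • (c : ℍ[F]) + (1 + 1 + 1 + 1) := by
      apply Quaternion.ext <;> simp <;> ring
    rw [h5, hsq]
    apply Quaternion.ext
    · simp; linear_combination (8 * (c : ℍ[F]).re * (c : ℍ[F]).re - 4) * hre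
    · simp; linear_combination (8 * (c : ℍ[F]).re * (c : ℍ[F]).imI) * hre
    · simp; linear_combination (8 * (c : ℍ[F]).re * (c : ℍ[F]).imJ) * hre
    · simp; linear_combination (8 * (c : ℍ[F]).re * (c : ℍ[F]).imK) * hre
  have hp2 : 2 ≤ p := (Fact.out : p.Prime).two_le
  have h5 : (((c ^ 2 : U F) : ℍ[F]) - 1) ^ p = 0 := by
    obtain ⟨k, rfl⟩ := Nat.exists_eq_add_of_le hp2
    rw [pow_add, pow_two, h4, zero_mul]
  rw [sub_pow_char_of_commute _ (Commute.one_right _), one_pow, sub_eq_zero] at h5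
  have h6 : c ^ (2 * p) = 1 := by
    apply Subtype.ext
    rw [pow_mul]
    exact h5
  have h7 := orderOf_dvd_of_pow_eq_one h6
  have h8 : Nat.Coprime (orderOf c) (2 * p) := by
    apply Nat.Coprime.mul_right
    · exact Nat.coprime_two_right.2 hodd
    · exact ((Nat.Prime.coprime_iff_not_dvd Fact.out).2 hp).symm
  exact orderOf_eq_one_iff.1 (Nat.Coprime.eq_one_of_dvd h8 h7)

/-- Commuting quaternions have parallel imaginary parts. -/
theorem cross_of_comm (h2 : (2 : F) ≠ 0) {x y : ℍ[F]} (h : x * y = y * x) :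
    x.imI * y.imJ = x.imJ * y.imI ∧ x.imI * y.imK = x.imK * y.imI ∧
      x.imJ * y.imK = x.imK * y.imJ := by
  have e1 := congrArg QuaternionAlgebra.imI h
  have e2 := congrArg QuaternionAlgebra.imJ h
  have e3 := congrArg QuaternionAlgebra.imK h
  simp at e1 e2 e3
  refine ⟨?_, ?_, ?_⟩
  · have : (2 : F) * (x.imI * y.imJ - x.imJ * y.imI) = 0 := by linear_combination e3
    exact sub_eq_zero.1 ((mul_eq_zero.1 this).resolve_left h2)
  · have : (2 : F) * (x.imI * y.imK - x.imK * y.imI) = 0 := by linear_combination -e2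
    exact sub_eq_zero.1 ((mul_eq_zero.1 this).resolve_left h2)
  · have : (2 : F) * (x.imJ * y.imK - x.imK * y.imJ) = 0 := by linear_combination e1
    exact sub_eq_zero.1 ((mul_eq_zero.1 this).resolve_left h2)

theorem comm_of_cross {x y : ℍ[F]} (h1 : x.imI * y.imJ = x.imJ * y.imI)
    (h2 : x.imI * y.imK = x.imK * y.imI) (h3 : x.imJ * y.imK = x.imK * y.imJ) :
    x * y = y * x := by
  apply Quaternion.ext
  · simp; ring
  · simp; linear_combination 2 * h3
  · simp; linear_combination -2 * h2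
  · simp; linear_combination 2 * h1

/-- The centralizer of a non-central quaternion is commutative. -/
theorem comm_trans (h2 : (2 : F) ≠ 0) {a b c : ℍ[F]}
    (hc : ¬ (c.imI = 0 ∧ c.imJ = 0 ∧ c.imK = 0)) (ha : a * c = c * a) (hb : b * c = c * b) :
    a * b = b * a := by
  obtain ⟨a1, a2, a3⟩ := cross_of_comm h2 ha
  obtain ⟨b1, b2, b3⟩ := cross_of_comm h2 hb
  have key : ∀ d : F, (c.imI * d = 0) → (c.imJ * d = 0) → (c.imK * d = 0) → d = 0 := by
    intro d h1 h3 h4
    by_contra hd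
    exact hc ⟨(mul_eq_zero.1 h1).resolve_right hd, (mul_eq_zero.1 h3).resolve_right hd,
      (mul_eq_zero.1 h4).resolve_right hd⟩
  apply comm_of_cross
  · apply sub_eq_zero.1
    apply key
    · linear_combination b.imI * a1 - a.imI * b1
    · linear_combination b.imJ * a1 - a.imJ * b1
    · linear_combination b.imJ * a2 - b.imI * a3 - a.imK * b1
  · apply sub_eq_zero.1
    apply key
    · linear_combination b.imI * a2 - a.imI * b2
    · linear_combination b.imK * a1 + b.imI * a3 - a.imJ * b2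
    · linear_combination b.imK * a2 - a.imK * b2
  · apply sub_eq_zero.1
    apply key
    · linear_combination b.imJ * a2 - b.imK * a1 - a.imI * b3
    · linear_combination b.imJ * a3 - a.imJ * b3
    · linear_combination b.imK * a3 - a.imK * b3

/-- Commuting conjugate quaternions which are not unipotent are equal or inverse. -/
theorem eq_or_star (h2 : (2 : F) ≠ 0) {c d : ℍ[F]}
    (hs : c.imI * c.imI + c.imJ * c.imJ + c.imK * c.imK ≠ 0) (hre : d.re = c.re)
    (hN : normSq d = normSq c) (h : d * c = c * d) : d = c ∨ d = star c := by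
  obtain ⟨e1, e2, e3⟩ := cross_of_comm h2 h
  rw [normSq_def', normSq_def', hre] at hN
  set s := c.imI * c.imI + c.imJ * c.imJ + c.imK * c.imK with hs'
  set t := c.imI * d.imI + c.imJ * d.imJ + c.imK * d.imK with ht
  have f1 : d.imI * s = c.imI * t := by
    rw [hs', ht]; linear_combination c.imJ * e1 + c.imK * e2
  have f2 : d.imJ * s = c.imJ * t := by
    rw [hs', ht]; linear_combination -c.imI * e1 + c.imK * e3
  have f3 : d.imK * s = c.imK * t := by
    rw [hs', ht]; linear_combination -c.imI * e2 - c.imJ * e3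
  have f4 : d.imI * d.imI + d.imJ * d.imJ + d.imK * d.imK = s := by
    rw [hs']; linear_combination hN
  have f5 : s * (t * t) = s * (s * s) := by
    have h6 : (d.imI * s) * (d.imI * s) + (d.imJ * s) * (d.imJ * s) + (d.imK * s) * (d.imK * s)
        = s * (t * t) := by
      rw [f1, f2, f3]; rw [hs']; ring
    rw [← h6]
    linear_combination (s * s) * f4
  have f6 : t * t = s * s := mul_left_cancel₀ hs f5
  rcases mul_self_eq_mul_self_iff.1 f6 with h7 | h7
  · left
    rw [h7] at f1 f2 f3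
    apply Quaternion.ext
    · exact hre
    · exact mul_right_cancel₀ hs f1
    · exact mul_right_cancel₀ hs f2
    · exact mul_right_cancel₀ hs f3
  · right
    rw [h7] at f1 f2 f3
    apply Quaternion.ext
    · simp [hre]
    · simp; exact mul_right_cancel₀ hs (by linear_combination f1)
    · simp; exact mul_right_cancel₀ hs (by linear_combination f2)
    · simp; exact mul_right_cancel₀ hs (by linear_combination f3)

theorem re_conj (u x : U F) : ((u * x * u⁻¹ : U F) : ℍ[F]).re = (x : ℍ[F]).re := by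
  have h1 : ((u * x * u⁻¹ : U F) : ℍ[F]) = (u : ℍ[F]) * x * star (u : ℍ[F]) := by
    rw [Submonoid.coe_mul, Submonoid.coe_mul, PronQ.coe_inv]
  have hN := normSq_U' u
  rw [h1]
  simp
  linear_combination (x : ℍ[F]).re * hN

/-- A `Q8`-invariant group `A` of odd order of norm one quaternions is abelian, of order prime to
the characteristic. -/
theorem comm_of_odd [Finite F] (h2 : (2 : F) ≠ 0) {A : Subgroup (U F)}
    (hA : ∀ x ∈ A, Odd (orderOf x)) (hinv : ∀ v ∈ Q8 F, ∀ x ∈ A, v * x * v⁻¹ ∈ A) :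
    (∀ x ∈ A, ∀ y ∈ A, x * y = y * x) ∧
      ∀ x ∈ A, x ≠ 1 → (x : ℍ[F]).imI * (x : ℍ[F]).imI + (x : ℍ[F]).imJ * (x : ℍ[F]).imJ +
        (x : ℍ[F]).imK * (x : ℍ[F]).imK ≠ 0 := by
  obtain ⟨p, hp⟩ := CharP.exists F
  have hpp : p.Prime := CharP.char_prime_of_ne_zero (R := F) (p := p) (by
    intro h0
    subst h0
    have : CharZero F := CharP.charP_to_charZero F
    exact not_finite F)
  have : Fact p.Prime := ⟨hpp⟩
  have hA2 : ¬ 2 ∣ Nat.card A := by
    intro hd
    obtain ⟨x, hx⟩ := exists_prime_orderOf_dvd_card' 2 hd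
    have h1 := hA x x.2
    rw [Subgroup.orderOf_coe, hx] at h1
    exact absurd h1 (by decide)
  have hAp := not_dvd_card h2 p hA2 hinv
  have hop : ∀ x ∈ A, ¬ p ∣ orderOf x := by
    intro x hx hd
    have h1 : orderOf x ∣ Nat.card A := by
      have := orderOf_dvd_natCard (⟨x, hx⟩ : A)
      rwa [← Subgroup.orderOf_coe] at this
    exact hAp (hd.trans h1)
  have hs : ∀ x ∈ A, x ≠ 1 → (x : ℍ[F]).imI * (x : ℍ[F]).imI + (x : ℍ[F]).imJ * (x : ℍ[F]).imJ +
        (x : ℍ[F]).imK * (x : ℍ[F]).imK ≠ 0 := by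
    intro x hx hx1 h0
    apply hx1
    apply eq_one_of_re p (hA x hx) (hop x hx)
    have hN := normSq_U' x
    linear_combination hN - h0
  refine ⟨?_, hs⟩
  -- `A` is a Z-group
  have hZ : IsZGroup A := by
    refine ⟨fun r hr S => ?_⟩
    have : Fact r.Prime := ⟨hr⟩
    by_cases hr2 : r = 2
    · subst hr2
      have h1 : Nat.card S = 1 := by
        by_contra h1
        have h3 : 2 ∣ Nat.card S := by
          obtain ⟨k, hk⟩ := IsPGroup.iff_card.1 S.isPGroup'
          rw [hk]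
          rcases Nat.eq_zero_or_pos k with h0 | h0
          · rw [h0, pow_zero] at hk; exact absurd hk h1
          · exact dvd_pow_self 2 h0.ne'
        exact hA2 (h3.trans (Subgroup.card_subgroup_dvd_card _))
      have : Subsingleton S := (Nat.card_eq_one_iff_unique.1 h1).1
      infer_instance
    · by_cases hrp : r = p
      · subst hrp
        have h1 : Nat.card S = 1 := by
          by_contra h1
          have h3 : r ∣ Nat.card S := by
            obtain ⟨k, hk⟩ := IsPGroup.iff_card.1 S.isPGroup'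
            rw [hk]
            rcases Nat.eq_zero_or_pos k with h0 | h0
            · rw [h0, pow_zero] at hk; exact absurd hk h1
            · exact dvd_pow_self r h0.ne'
          exact hAp (h3.trans (Subgroup.card_subgroup_dvd_card _))
        have : Subsingleton S := (Nat.card_eq_one_iff_unique.1 h1).1
        infer_instance
      · obtain ⟨e⟩ := exists_equivSL (F := F) h2
        let f : S →* Matrix.SpecialLinearGroup (Fin 2) F :=
          e.toMonoidHom.comp (A.subtype.comp (S : Subgroup A).subtype)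
        have hf : Function.Injective f := by
          intro x y hxy
          exact Subtype.ext (Subtype.ext (e.injective hxy))
        have h1 : IsPGroup r f.range := by
          rintro ⟨_, ⟨x, rfl⟩⟩
          obtain ⟨k, hk⟩ := S.isPGroup' x
          refine ⟨k, Subtype.ext ?_⟩
          show (f x) ^ r ^ k = 1
          rw [← map_pow, hk, map_one]
        have h3 := S0262.isCyclic_of_isPGroup p r hr2 hrp f.range h1
        exact isCyclic_of_injective f.rangeRestrict (fun x y h => hf (congrArg Subtype.val h))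
  have hcyc : IsCyclic (commutator A) := IsZGroup.isCyclic_commutator A
  -- `A` centralizes its commutator subgroup
  have key : ∀ c ∈ commutator A, c ≠ 1 → ∀ a : A, a * c = c * a := by
    intro c hc hc1 a
    have hc1' : (c : U F) ≠ 1 := fun h => hc1 (Subtype.ext h)
    have hconj : a * c * a⁻¹ ∈ commutator A := (commutator_normal (⊤ : Subgroup A) ⊤).conj_mem c hc a
    have hcm : (a * c * a⁻¹) * c = c * (a * c * a⁻¹) := by
      have := (IsCyclic.commGroup (α := commutator A)).mul_comm ⟨_, hconj⟩ ⟨c, hc⟩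
      exact congrArg Subtype.val this
    have hcm' : (((a : U F) * c * (a : U F)⁻¹ : U F) : ℍ[F]) * ((c : U F) : ℍ[F]) =
        ((c : U F) : ℍ[F]) * (((a : U F) * c * (a : U F)⁻¹ : U F) : ℍ[F]) :=
      congrArg (fun z : A => ((z : U F) : ℍ[F])) hcm
    rcases eq_or_star h2 (hs c c.2 hc1') (re_conj (a : U F) c)
      (by rw [normSq_U, normSq_U]) hcm' with h | h
    · have h1 : a * c * a⁻¹ = c := Subtype.ext (Subtype.ext h)
      exact mul_inv_eq_iff_eq_mul.1 h1
    · exfalso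
      have h1 : a * c * a⁻¹ = c⁻¹ := by
        apply Subtype.ext; apply Subtype.ext
        exact h.trans (PronQ.coe_inv (c : U F)).symm
      -- `a²` commutes with `c`
      have h3 : a ^ 2 * c = c * a ^ 2 := by
        have h4 : a ^ 2 * c * (a ^ 2)⁻¹ = c := by
          have h5 : a ^ 2 * c * (a ^ 2)⁻¹ = a * (a * c * a⁻¹) * a⁻¹ := by rw [pow_two]; group
          have h6 : a * c⁻¹ * a⁻¹ = (a * c * a⁻¹)⁻¹ := by group
          rw [h5, h1, h6, h1, inv_inv]
        exact mul_inv_eq_iff_eq_mul.1 h4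
      have hao : Odd (orderOf a) := by
        have := hA a a.2
        rwa [Subgroup.orderOf_coe] at this
      obtain ⟨l, hl⟩ := hao
      have h5 : a = (a ^ 2) ^ (l + 1) := by
        rw [← pow_mul, show 2 * (l + 1) = (2 * l + 1) + 1 by ring, pow_succ, ← hl,
          pow_orderOf_eq_one, one_mul]
      have h6 : Commute a c := by
        rw [h5]
        exact Commute.pow_left (show Commute (a ^ 2) c from h3) _
      have h7 : c = c⁻¹ := by
        rw [← h1, h6.eq]; group
      have h8 : c ^ 2 = 1 := by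
        rw [pow_two]; nth_rw 2 [h7]; group
      have h9 : Odd (orderOf c) := by
        have := hA c c.2
        rwa [Subgroup.orderOf_coe] at this
      have h10 := orderOf_dvd_of_pow_eq_one h8
      have h11 : orderOf c = 1 := by
        rcases (Nat.dvd_prime Nat.prime_two).1 h10 with h | h
        · exact h
        · rw [h] at h9; exact absurd h9 (by decide)
      exact hc1 (orderOf_eq_one_iff.1 h11)
  intro x hx y hy
  by_cases hbot : commutator A = ⊥
  · have h1 : (⟨x, hx⟩ : A) * ⟨y, hy⟩ * (⟨x, hx⟩ : A)⁻¹ * (⟨y, hy⟩ : A)⁻¹ ∈ commutator A :=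
      Subgroup.commutator_mem_commutator (Subgroup.mem_top _) (Subgroup.mem_top _)
    rw [hbot, Subgroup.mem_bot] at h1
    have h3 : (x * y * x⁻¹ * y⁻¹ : U F) = 1 := congrArg Subtype.val h1
    rw [mul_inv_eq_one, mul_inv_eq_iff_eq_mul] at h3
    exact h3
  · obtain ⟨⟨c, hc⟩, hc0⟩ := Subgroup.ne_bot_iff_exists_ne_one.1 hbot
    have hc1 : c ≠ 1 := fun h => hc0 (Subtype.ext h)
    have hx' := congrArg (fun z : A => ((z : U F) : ℍ[F])) (key c hc hc1 ⟨x, hx⟩)
    have hy' := congrArg (fun z : A => ((z : U F) : ℍ[F])) (key c hc hc1 ⟨y, hy⟩)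
    have hc1' : (c : U F) ≠ 1 := fun h => hc1 (Subtype.ext h)
    apply Subtype.ext
    apply comm_trans h2 (c := ((c : U F) : ℍ[F])) _ hx' hy'
    rintro ⟨h1, h3, h4⟩
    apply hs c c.2 hc1'
    rw [h1, h3, h4]; ring

theorem orderOf_conj' {G : Type*} [Group G] (g x : G) : orderOf (g * x * g⁻¹) = orderOf x :=
  (MulAut.conj g).orderOf_eq x

/-- The structure of `P`, with all properties of `A`. -/
theorem exists_A' [Finite F] (h2 : (2 : F) ≠ 0) (hns : ¬ IsSquare (2 : F)) {P : Subgroup (U F)}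
    (hP : Q8 F ≤ P) (hom : om h2 ∉ P) :
    ∃ A : Subgroup (U F), (∀ x, x ∈ A ↔ x ∈ P ∧ Odd (orderOf x)) ∧
      (∀ x ∈ P, ∃ a ∈ A, ∃ v ∈ Q8 F, x = a * v) ∧ (∀ x ∈ A, ∀ y ∈ A, x * y = y * x) ∧
      ∀ x ∈ A, x ≠ 1 → (x : ℍ[F]).imI * (x : ℍ[F]).imI + (x : ℍ[F]).imJ * (x : ℍ[F]).imJ +
        (x : ℍ[F]).imK * (x : ℍ[F]).imK ≠ 0 := by
  obtain ⟨A, hA, hdec⟩ := exists_A h2 hns hP hom
  obtain ⟨h3, h4⟩ := comm_of_odd h2 (A := A) (fun x hx => ((hA x).1 hx).2) (by
    intro v hv x hx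
    obtain ⟨h5, h6⟩ := (hA x).1 hx
    rw [hA]
    refine ⟨mul_mem (mul_mem (hP hv) h5) (inv_mem (hP hv)), ?_⟩
    rw [orderOf_conj']; exact h6)
  exact ⟨A, hA, hdec, h3, h4⟩

/-- If a unipotent element `h ≠ 1` normalizes `P`, then `P = Q8`, `F` has characteristic 3 and
`h = 1 ± i ± j ± k`. -/
theorem unipotent_case [Finite F] (h2 : (2 : F) ≠ 0) (hns : ¬ IsSquare (2 : F))
    {P : Subgroup (U F)} (hP : Q8 F ≤ P) (hom : om h2 ∉ P) {h : U F}
    (hN : normSq ((h : ℍ[F]) - 1) = 0) (h1 : h ≠ 1) (hnorm : ∀ a ∈ P, h * a * h⁻¹ ∈ P) :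
    P ≤ Q8 F ∧ (3 : F) = 0 ∧ (h : ℍ[F]).re = 1 ∧ (h : ℍ[F]).imI * (h : ℍ[F]).imI = 1 ∧
      (h : ℍ[F]).imJ * (h : ℍ[F]).imJ = 1 ∧ (h : ℍ[F]).imK * (h : ℍ[F]).imK = 1 := by
  obtain ⟨A, hA, hdec, hcomm, hs⟩ := exists_A' h2 hns hP hom
  have hre := re_eq_one h2 hN
  have hA1 : ∀ c ∈ A, c = 1 := by
    intro c hc
    by_contra hc1
    obtain ⟨hcP, hco⟩ := (hA c).1 hc
    have hc' : h * c * h⁻¹ ∈ A := by
      rw [hA]
      refine ⟨hnorm c hcP, ?_⟩
      rw [orderOf_conj']; exact hco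
    have hcm := hcomm _ hc' c hc
    have hsc := hs c hc hc1
    have hcm2 : (h * h) * c = c * (h * h) := by
      rcases eq_or_star h2 hsc (re_conj h c) (by rw [normSq_U, normSq_U])
        (congrArg Subtype.val hcm) with h3 | h3
      · have h4 : h * c * h⁻¹ = c := Subtype.ext h3
        have h5 : h * c = c * h := mul_inv_eq_iff_eq_mul.1 h4
        rw [mul_assoc, h5, ← mul_assoc, h5, mul_assoc]
      · have h4 : h * c * h⁻¹ = c⁻¹ := Subtype.ext (h3.trans (PronQ.coe_inv c).symm)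
        have h5 : (h * h) * c * (h * h)⁻¹ = c := by
          have h6 : (h * h) * c * (h * h)⁻¹ = h * (h * c * h⁻¹) * h⁻¹ := by group
          have h7 : h * c⁻¹ * h⁻¹ = (h * c * h⁻¹)⁻¹ := by group
          rw [h6, h4, h7, h4, inv_inv]
        exact mul_inv_eq_iff_eq_mul.1 h5
    have hsq : (h : ℍ[F]) * h = (2 : F) • (h : ℍ[F]) - 1 := by
      have h3 := sandwich (h : ℍ[F]) 1
      rw [normSq_U, one_smul, star_one, mul_one, one_mul, hre, mul_one] at h3
      exact h3
    have hcm3 : (h : ℍ[F]) * c = (c : ℍ[F]) * h := by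
      have h3 : ((h : ℍ[F]) * h) * c = (c : ℍ[F]) * ((h : ℍ[F]) * h) := congrArg Subtype.val hcm2
      rw [hsq, sub_mul, mul_sub, one_mul, mul_one, smul_mul_assoc, mul_smul_comm] at h3
      exact smul_right_injective _ h2 (sub_left_injective h3)
    obtain ⟨e1, e2, e3⟩ := cross_of_comm h2 hcm3
    have hNh := normSq_U' h
    have hn0 : (h : ℍ[F]).imI ^ 2 + (h : ℍ[F]).imJ ^ 2 + (h : ℍ[F]).imK ^ 2 = 0 := by
      rw [hre] at hNh; linear_combination hNh
    apply h1
    apply Subtype.ext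
    generalize (h : ℍ[F]) = x at *
    generalize (c : ℍ[F]) = y at *
    -- `x · y = 0`
    have k0 : ∀ z : F, x.imI * z = 0 → x.imJ * z = 0 → x.imK * z = 0 →
        (z = 0 ∨ (x.imI = 0 ∧ x.imJ = 0 ∧ x.imK = 0)) := by
      intro z z1 z2 z3
      by_cases hz : z = 0
      · exact Or.inl hz
      · exact Or.inr ⟨(mul_eq_zero.1 z1).resolve_right hz, (mul_eq_zero.1 z2).resolve_right hz,
          (mul_eq_zero.1 z3).resolve_right hz⟩
    have hfin : x.imI = 0 ∧ x.imJ = 0 ∧ x.imK = 0 := by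
      rcases k0 (x.imI * y.imI + x.imJ * y.imJ + x.imK * y.imK)
        (by linear_combination y.imI * hn0 + x.imJ * e1 + x.imK * e2)
        (by linear_combination y.imJ * hn0 - x.imI * e1 + x.imK * e3)
        (by linear_combination y.imK * hn0 - x.imI * e2 - x.imJ * e3) with h3 | h3
      · rcases k0 (y.imI * y.imI + y.imJ * y.imJ + y.imK * y.imK)
          (by linear_combination y.imI * h3 + y.imJ * e1 + y.imK * e2)
          (by linear_combination y.imJ * h3 - y.imI * e1 + y.imK * e3)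
          (by linear_combination y.imK * h3 - y.imI * e2 - y.imJ * e3) with h4 | h4
        · exact absurd h4 hsc
        · exact h4
      · exact h3
    apply Quaternion.ext
    · exact hre
    · exact hfin.1
    · exact hfin.2.1
    · exact hfin.2.2
  have hPQ : P ≤ Q8 F := by
    intro x hx
    obtain ⟨a, ha, v, hv, rfl⟩ := hdec x hx
    rw [hA1 a ha, one_mul]
    exact hv
  refine ⟨hPQ, ?_⟩
  rcases norm_Q8 h2 hns (fun v hv => hPQ (hnorm v (hP hv))) with h3 | h3
  · exfalso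
    apply h1
    apply Subtype.ext
    have h3' : IsQ8 (h : ℍ[F]) := h3
    generalize (h : ℍ[F]) = x at *
    rcases h3' with h | h | h | h | h | h | h | h <;> subst h
    · rfl
    · exfalso
      have h4 : (-1 : F) = 1 := by simpa using hre
      exact h2 (by linear_combination -h4)
    · exact absurd hre (by simp)
    · exact absurd hre (by simp)
    · exact absurd hre (by simp)
    · exact absurd hre (by simp)
    · exact absurd hre (by simp)
    · exact absurd hre (by simp)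
  · obtain ⟨f0, f1, f3, f4⟩ := h3
    rw [hre] at f0
    have h30 : (3 : F) = 0 := by linear_combination f0
    refine ⟨h30, hre, ?_, ?_, ?_⟩
    · linear_combination f1 - ((h : ℍ[F]).imI * (h : ℍ[F]).imI) * h30
    · linear_combination f3 - ((h : ℍ[F]).imJ * (h : ℍ[F]).imJ) * h30
    · linear_combination f4 - ((h : ℍ[F]).imK * (h : ℍ[F]).imK) * h30

/-- If `Q8 ≤ P₁` and `P₁`, `g P₁ g⁻¹` (`g = ω^{±1}`) lie in `P₂` with `ω ∉ P₂`, then
`P₁ = Q8`. -/
theorem le_Q8_of_conj [Finite F] (h2 : (2 : F) ≠ 0) (hns : ¬ IsSquare (2 : F))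
    {P₁ P₂ : Subgroup (U F)} (hP : Q8 F ≤ P₁) (hP12 : P₁ ≤ P₂) (hom : om h2 ∉ P₂) {g : U F}
    (hg : g = om h2 ∨ g = (om h2)⁻¹) (hgP : ∀ x ∈ P₁, g * x * g⁻¹ ∈ P₂) : P₁ ≤ Q8 F := by
  obtain ⟨A, hA, hdec, hcomm, hs⟩ := exists_A' h2 hns (hP.trans hP12) hom
  intro x hx
  obtain ⟨a, ha, v, hv, rfl⟩ := hdec x (hP12 hx)
  have ha1 : a ∈ P₁ := by
    have := mul_mem hx (inv_mem (hP hv))
    rwa [mul_inv_cancel_right] at this
  have haodd := ((hA a).1 ha).2
  have hconj : ∀ w ∈ Q8 F, a * (w * a * w⁻¹) = (w * a * w⁻¹) * a := by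
    intro w hw
    refine hcomm a ha _ ?_
    rw [hA]
    refine ⟨hP12 (mul_mem (mul_mem (hP hw) ha1) (inv_mem (hP hw))), ?_⟩
    rw [orderOf_conj']; exact haodd
  have hi : (a : ℍ[F]) * (qi * (a : ℍ[F]) * star qi) = (qi * (a : ℍ[F]) * star qi) * (a : ℍ[F]) := by
    have h1 := congrArg Subtype.val (hconj uI uI_mem)
    simp only [Submonoid.coe_mul, PronQ.coe_inv, coe_uI] at h1
    exact h1
  have hj : (a : ℍ[F]) * (qj * (a : ℍ[F]) * star qj) = (qj * (a : ℍ[F]) * star qj) * (a : ℍ[F]) := by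
    have h1 := congrArg Subtype.val (hconj uJ uJ_mem)
    simp only [Submonoid.coe_mul, PronQ.coe_inv, coe_uJ] at h1
    exact h1
  obtain ⟨e1, e2, e3⟩ := comm_conj h2 hi hj
  have hga : g * a * g⁻¹ ∈ A := by
    rw [hA]
    refine ⟨hgP a ha1, ?_⟩
    rw [orderOf_conj']; exact haodd
  have hgc : (((g * a * g⁻¹ : U F) : ℍ[F])) * (a : ℍ[F]) = (a : ℍ[F]) * ((g * a * g⁻¹ : U F) : ℍ[F]) :=
    congrArg Subtype.val (hcomm _ hga a ha)
  have hzero : (a : ℍ[F]).imI = 0 ∧ (a : ℍ[F]).imJ = 0 ∧ (a : ℍ[F]).imK = 0 := by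
    rcases hg with rfl | rfl
    · have h1 : ((om h2 * a * (om h2)⁻¹ : U F) : ℍ[F]) = omQ F * a * star (omQ F) := by
        rw [Submonoid.coe_mul, Submonoid.coe_mul, PronQ.coe_inv]; rfl
      rw [h1, om_conj h2] at hgc
      obtain ⟨f1, f2, f3⟩ := cross_of_comm h2 hgc
      simp only [mkQ_imI, mkQ_imJ, mkQ_imK] at f1 f2 f3
      refine ⟨mul_self_eq_zero.1 ?_, mul_self_eq_zero.1 ?_, mul_self_eq_zero.1 ?_⟩
      · linear_combination e3 - f2
      · linear_combination e2 + f1
      · linear_combination e1 + f3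
    · have h1 : (((om h2)⁻¹ * a * (om h2)⁻¹⁻¹ : U F) : ℍ[F]) = star (omQ F) * a * omQ F := by
        rw [inv_inv, Submonoid.coe_mul, Submonoid.coe_mul, PronQ.coe_inv]; rfl
      rw [h1, om_conj' h2] at hgc
      obtain ⟨f1, f2, f3⟩ := cross_of_comm h2 hgc
      simp only [mkQ_imI, mkQ_imJ, mkQ_imK] at f1 f2 f3
      refine ⟨mul_self_eq_zero.1 ?_, mul_self_eq_zero.1 ?_, mul_self_eq_zero.1 ?_⟩
      · linear_combination e3 - f1
      · linear_combination e2 - f3
      · linear_combination e1 + f2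
  have ha11 : a = 1 := by
    by_contra hne
    apply hs a ha hne
    rw [hzero.1, hzero.2.1, hzero.2.2]; ring
  rw [ha11, one_mul]
  exact hv

end Cfsg.Agent.H158.PronP
end

-- part: H158/PronT
section
/-!
# There are no transvections (helper158)
-/

set_option autoImplicit false
set_option linter.unusedSectionVars false

namespace Cfsg.Agent.H158.PronT

open Quaternion Matrix Equiv
open Cfsg.Agent.H158.PronQ Cfsg.Agent.H158.PronMat Cfsg.Agent.H158.PronMono
open Cfsg.Agent.H158.PronFrame Cfsg.Agent.H158.PronAvg Cfsg.Agent.H158.PronP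
open Cfsg.Agent.H158.PronK

variable {F : Type*} [Field F] {n : Type*} [Fintype n] [DecidableEq n]

theorem R_mulVec (x : n → ℍ[F]) (hx : ip x x = 1) (h : U F) (v : n → ℍ[F]) :
    (R x hx h).1 *ᵥ v = fun a => v a + x a * (((h : ℍ[F]) - 1) * ip x v) := by
  rw [coe_R, Matrix.add_mulVec, Matrix.one_mulVec, tv_mulVec]
  rfl

theorem ip_neg_right (x y : n → ℍ[F]) : ip x (fun a => -y a) = -ip x y := by
  unfold ip
  rw [← Finset.sum_neg_distrib]
  refine Finset.sum_congr rfl fun a _ => ?_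
  rw [mul_neg]

/-- `ip x (x + e_j c)`-type formula: changing the `j`-th coordinate. -/
theorem ip_change (x y : n → ℍ[F]) (j : n) (c : ℍ[F]) :
    ip x (fun a => if a = j then c else y a) = ip x y + star (x j) * (c - y j) := by
  have h1 : (fun a => if a = j then c else y a) = y + fun a => (e j : n → ℍ[F]) a * (c - y j) := by
    funext a
    rw [Pi.add_apply, e_mul_apply]
    split_ifs with h
    · rw [h]; abel
    · rw [add_zero]
  rw [h1, ip_add_right, ip_smul_right]
  congr 2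
  rw [← star_ip, ip_e]

section

variable {q : ℍ[F]}

theorem re_conj_q (x : ℍ[F]) : (x * q * star x).re = normSq x * q.re := by
  rw [normSq_def']; simp; ring

theorem pure_star (h0 : q.re = 0) : star q = -q := by apply Quaternion.ext <;> simp [h0]

theorem null_sq (h0 : q.re = 0) (hN : normSq q = 0) : q * q = 0 := by
  have := Quaternion.self_mul_star (a := q)
  rw [pure_star h0, hN] at this
  have h1 : q * q = -(q * -q) := by noncomm_ring
  rw [h1, this]; simp

end

@[simp] theorem two_re : (2 : ℍ[F]).re = 2 := rfl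
@[simp] theorem two_imI : (2 : ℍ[F]).imI = 0 := rfl
@[simp] theorem two_imJ : (2 : ℍ[F]).imJ = 0 := rfl
@[simp] theorem two_imK : (2 : ℍ[F]).imK = 0 := rfl

theorem normSq_one_add {q : ℍ[F]} (h0 : q.re = 0) (hN : normSq q = 0) :
    normSq ((1 : ℍ[F]) + q) = 1 := by
  rw [normSq_def'] at hN ⊢
  rw [h0] at hN
  simp only [Quaternion.re_add, Quaternion.imI_add, Quaternion.imJ_add, Quaternion.imK_add,
    h0, Quaternion.re_one, Quaternion.imI_one, Quaternion.imJ_one, Quaternion.imK_one]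
  linear_combination hN

/-- The action of `t (z_j t z_j)` on `e j`, for a transvection `t`. -/
theorem ye_eq {x : n → ℍ[F]} (hx : ip x x = 1) {h : U F} (hmm : ((h : ℍ[F]) - 1) * ((h : ℍ[F]) - 1) = 0)
    (j : n) : (R x hx h * (Rj j nu * R x hx h * (Rj j nu)⁻¹)).1 *ᵥ e j =
      fun a => (e j : n → ℍ[F]) a * (1 + 2 * (x j * ((h : ℍ[F]) - 1) * star (x j))) := by
  generalize hm : (h : ℍ[F]) - 1 = m at *
  have hipxe : ip x (e j) = star (x j) := by rw [← star_ip, ip_e]
  have hzinv : (Rj j nu : GU n F)⁻¹ = Rj j nu := by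
    rw [inv_eq_iff_mul_eq_one, ← map_mul, nu_sq, map_one]
  have e1 : (R x hx h * (Rj j nu * R x hx h * (Rj j nu)⁻¹)).1 *ᵥ e j =
      (R x hx h).1 *ᵥ ((Rj j nu).1 *ᵥ ((R x hx h).1 *ᵥ ((Rj j nu).1 *ᵥ e j))) := by
    rw [hzinv]
    have c1 : (R x hx h * (Rj j nu * R x hx h * Rj j nu)).1 =
        (R x hx h).1 * ((Rj j nu).1 * (R x hx h).1 * (Rj j nu).1) := rfl
    rw [c1, Matrix.mulVec_mulVec, Matrix.mulVec_mulVec, Matrix.mulVec_mulVec]
    simp only [Matrix.mul_assoc]
  have e2 : (Rj j nu).1 *ᵥ (e j : n → ℍ[F]) = fun a => -(e j : n → ℍ[F]) a := by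
    rw [Rj_mulVec]
    funext a
    split_ifs with ha
    · rw [coe_nu, neg_one_mul]
    · rw [e, Pi.single_eq_of_ne ha, neg_zero]
  have e3 : (R x hx h).1 *ᵥ (fun a => -(e j : n → ℍ[F]) a) =
      fun a => -(e j : n → ℍ[F]) a - x a * (m * star (x j)) := by
    rw [R_mulVec, ip_neg_right, hipxe, hm]
    funext a
    noncomm_ring
  have e4 : (Rj j nu).1 *ᵥ (fun a => -(e j : n → ℍ[F]) a - x a * (m * star (x j))) =
      fun a => (e j : n → ℍ[F]) a - (if a = j then -x a else x a) * (m * star (x j)) := by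
    rw [Rj_mulVec]
    funext a
    split_ifs with ha
    · rw [coe_nu]; noncomm_ring
    · rw [e, Pi.single_eq_of_ne ha]; noncomm_ring
  have e5 : ip x (fun a => (e j : n → ℍ[F]) a - (if a = j then -x a else x a) * (m * star (x j)))
      = star (x j) - (1 - 2 * (star (x j) * x j)) * (m * star (x j)) := by
    have e6 : (fun a => (e j : n → ℍ[F]) a - (if a = j then -x a else x a) * (m * star (x j))) =
        e j - fun a => (fun a => if a = j then -x j else x a) a * (m * star (x j)) := by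
      funext a
      rw [Pi.sub_apply]
      congr 2
      by_cases ha : a = j
      · simp [ha]
      · simp [ha]
    rw [e6, ip_sub_right, ip_smul_right, hipxe, ip_change, hx]
    congr 2
    noncomm_ring
  have e7 : star (x j) * x j = ((normSq (x j) : F) : ℍ[F]) := Quaternion.star_mul_self _
  have e8 : m * (star (x j) - (1 - 2 * (star (x j) * x j)) * (m * star (x j))) = m * star (x j) := by
    rw [e7]
    have e9 : m * ((normSq (x j) : F) : ℍ[F]) * m = 0 := by
      rw [Quaternion.mul_coe_eq_smul, smul_mul_assoc, hmm, smul_zero]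
    have e10 : m * (star (x j) - (1 - 2 * ((normSq (x j) : F) : ℍ[F])) * (m * star (x j))) =
        m * star (x j) - (m * m) * star (x j) + 2 * ((m * ((normSq (x j) : F) : ℍ[F]) * m) * star (x j)) := by
      noncomm_ring
    rw [e10, e9, hmm]; noncomm_ring
  rw [e1, e2, e3, e4, R_mulVec, e5, hm, e8]
  funext a
  rw [mul_add, mul_one]
  by_cases ha : a = j
  · subst ha
    rw [if_pos rfl, e, Pi.single_eq_same]; noncomm_ring
  · rw [if_neg ha, e, Pi.single_eq_of_ne ha]; noncomm_ring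

section Main

variable [Finite F] (h2 : (2 : F) ≠ 0) (hns : ¬ IsSquare (2 : F)) (T : Sylow 2 (Perm n))
  (hT : ∀ a b : n, ∃ τ ∈ (T : Subgroup (Perm n)), τ a = b) {K : Subgroup (GU n F)}
  (hSK : SG (Q8 F) (T : Subgroup (Perm n)) ≤ K) (hom : sc (om h2) ∉ K)

include h2 hns hT hSK hom

theorem om_notMem_comap (j : n) : om h2 ∉ K.comap (Rj j) := by
  intro h
  exact hom (avg_single h2 T.isPGroup' hT (fun τ hτ => hSK (PM_mem _ hτ)) h)

/-- `K` contains no transvection. -/
theorem no_transvection {x : n → ℍ[F]} (hx : ip x x = 1) {h : U F}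
    (hN : normSq ((h : ℍ[F]) - 1) = 0) (h1 : h ≠ 1) : R x hx h ∉ K := by
  intro htK
  set m : ℍ[F] := (h : ℍ[F]) - 1 with hm
  have hm0 : m.re = 0 := by
    rw [hm]
    have := re_eq_one h2 hN
    simp [this]
  have hmm : m * m = 0 := null_sq hm0 hN
  have hms : star m = -m := pure_star hm0
  -- a coordinate
  obtain ⟨j, hj⟩ : ∃ j, x j * m ≠ 0 := by
    by_contra hcon
    push Not at hcon
    apply h1
    apply Subtype.ext
    have h3 : m = 0 := by
      have h4 : ip x x * m = 0 := by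
        unfold ip
        rw [Finset.sum_mul]
        refine Finset.sum_eq_zero fun a _ => ?_
        rw [mul_assoc, hcon a, mul_zero]
      rwa [hx, one_mul] at h4
    exact sub_eq_zero.1 h3
  set nj : ℍ[F] := x j * m * star (x j) with hnj
  have hnj0 : nj ≠ 0 := fun h0 => hj (mul_eq_zero_of_conj h2 hm0 hN h0)
  have hnjre : nj.re = 0 := by rw [hnj, re_conj_q, hm0, mul_zero]
  have hnjN : normSq nj = 0 := by rw [hnj, map_mul, map_mul, hN, mul_zero, zero_mul]
  have hipxe : ip x (e j) = star (x j) := by rw [← star_ip, ip_e]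
  -- the element `y`
  have hzK : Rj j nu ∈ K := hSK (Rj_mem _ j (Or.inr (Or.inl rfl)))
  set y : GU n F := R x hx h * (Rj j nu * R x hx h * (Rj j nu)⁻¹) with hy
  have hyK : y ∈ K := mul_mem htK (mul_mem (mul_mem hzK htK) (inv_mem hzK))
  have hnorm1 : normSq ((1 : ℍ[F]) + 2 * nj) = 1 := by
    apply normSq_one_add
    · simp [hnjre]
    · rw [map_mul, hnjN, mul_zero]
  set hj' : U F := ⟨1 + 2 * nj, mem_U.2 hnorm1⟩ with hhj
  have hye : y.1 *ᵥ e j = fun a => (e j : n → ℍ[F]) a * (hj' : ℍ[F]) := by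
    rw [hy, ye_eq hx hmm j]
  -- `hj'` normalizes `P`
  have hconj : ∀ a : U F, y * Rj j a * y⁻¹ = Rj j (hj' * a * hj'⁻¹) := by
    intro a
    rw [Rj, R_conj y (e j) (ip_e_e j) (by rw [ip_act, ip_e_e])]
    rw [R_congr hye _ (ip_smul_unit (ip_e_e _) hj')]
    rw [R_smul (e j) (ip_e_e _) hj' (ip_smul_unit (ip_e_e _) hj')]
  have hP : Q8 F ≤ K.comap (Rj j) := fun w hw => hSK (Rj_mem _ j hw)
  have homP := om_notMem_comap h2 hns T hT hSK hom j
  have hj1 : hj' ≠ 1 := by
    intro h0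
    have h3 : (1 : ℍ[F]) + 2 * nj = 1 := congrArg Subtype.val h0
    exact hnj0 (two_ne h2 (by simpa using h3))
  have hjN : normSq ((hj' : ℍ[F]) - 1) = 0 := by
    show normSq ((1 : ℍ[F]) + 2 * nj - 1) = 0
    rw [add_sub_cancel_left, map_mul, hnjN, mul_zero]
  obtain ⟨hPQ, h30, -, f1, f3, f4⟩ := unipotent_case h2 hns hP homP hjN hj1 (by
    intro a ha
    show Rj j (hj' * a * hj'⁻¹) ∈ K
    rw [← hconj]
    exact mul_mem (mul_mem hyK ha) (inv_mem hyK))
  have g1 : (hj' : ℍ[F]).imI = 2 * nj.imI := by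
    show ((1 : ℍ[F]) + 2 * nj).imI = _
    simp
  rw [g1] at f1
  -- the second transvection
  have hvK : Rj j uI ∈ K := hP uI_mem
  set x' : n → ℍ[F] := (Rj j uI).1 *ᵥ x with hx'
  have hx'1 : ip x' x' = 1 := by rw [hx', ip_act, hx]
  have ht'K : ∀ v : U F, R x hx v ∈ K → R x' hx'1 v ∈ K := by
    intro v hv
    have h3 : Rj j uI * R x hx v * (Rj j uI)⁻¹ = R x' hx'1 v := R_conj _ x hx hx'1 v
    rw [← h3]
    exact mul_mem (mul_mem hvK hv) (inv_mem hvK)
  have hx'a : x' = fun a => if a = j then qi * x j else x a := by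
    rw [hx', Rj_mulVec]
    funext a
    split_ifs with ha
    · rw [ha]; rfl
    · rfl
  have hipx : (2 * (ip x' x * m).re) = 2 * nj.imI := by
    rw [← star_ip, hx'a, ip_change, hx]
    have h3 : star ((1 : ℍ[F]) + star (x j) * (qi * x j - x j)) * m =
        m + star (qi * x j - x j) * (x j * m) := by
      rw [star_add, star_mul, star_star, star_one]; noncomm_ring
    rw [h3]
    have h4 : (star (qi * x j - x j) * (x j * m)).re = ((x j * m) * star (qi * x j - x j)).re := by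
      simp; ring
    have h5 : (x j * m) * star (qi * x j - x j) = nj * (star qi - 1) := by
      rw [star_sub, star_mul, hnj]; noncomm_ring
    rw [Quaternion.re_add, h4, h5, hm0]
    simp [hnjre]
  -- choose the sign
  have hsign : ∃ ε : F, (ε = 1 ∨ ε = -1) ∧ ε * (2 * nj.imI) = -1 := by
    rcases mul_self_eq_one_iff.1 f1 with h3 | h3
    · exact ⟨-1, Or.inr rfl, by rw [h3]; ring⟩
    · exact ⟨1, Or.inl rfl, by rw [h3]; ring⟩
  obtain ⟨ε, hε, hε2⟩ := hsign
  obtain ⟨v, hvmem, hv⟩ : ∃ v : U F, R x' hx'1 v ∈ K ∧ (v : ℍ[F]) = 1 + ε • m := by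
    rcases hε with rfl | rfl
    · exact ⟨h, ht'K h htK, by rw [one_smul, hm]; abel⟩
    · refine ⟨h⁻¹, ?_, ?_⟩
      · rw [map_inv]; exact inv_mem (ht'K h htK)
      · rw [PronQ.coe_inv]
        have h3 : (h : ℍ[F]) = 1 + m := by rw [hm]; abel
        rw [h3, star_add, star_one, hms, neg_smul, one_smul]
  set x'' : n → ℍ[F] := (R x' hx'1 v).1 *ᵥ x with hx''
  have hx''1 : ip x'' x'' = 1 := by rw [hx'', ip_act, hx]
  have ht'' : R x'' hx''1 h ∈ K := by
    have h3 := mul_mem (mul_mem hvmem htK) (inv_mem hvmem)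
    rwa [R_conj (R x' hx'1 v) x hx hx''1 h] at h3
  have hx''m : ∀ a, x'' a * m = (if a = j then (1 - qi) * x j else 0) * m := by
    intro a
    have h3 : x'' a = x a + x' a * (ε • m * ip x' x) := by
      rw [hx'', R_mulVec, hv, add_sub_cancel_left]
    have h4 : m * ip x' x * m = (2 * nj.imI) • m := by
      rw [sandwich, hN, zero_smul, sub_zero, hipx]
    have h5 : x'' a * m = x a * m - x' a * m := by
      rw [h3, add_mul]
      have h6 : x' a * (ε • m * ip x' x) * m = x' a * (ε • (m * ip x' x * m)) := by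
        rw [smul_mul_assoc, mul_assoc, smul_mul_assoc]
      rw [h6, h4, smul_smul, hε2, neg_smul, one_smul]; noncomm_ring
    rw [h5, hx'a]
    by_cases ha : a = j
    · subst ha
      simp only [if_true]
      noncomm_ring
    · simp only [if_neg ha]
      noncomm_ring
  set d : ℍ[F] := (1 - qi) * nj * (1 + qi) with hd
  have hdre : d.re = 0 := by rw [hd]; simp [hnjre]
  have hdN : normSq d = 0 := by rw [hd, map_mul, map_mul, hnjN, mul_zero, zero_mul]
  have hd1 : normSq ((1 : ℍ[F]) + d) = 1 := normSq_one_add hdre hdN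
  set a₀ : U F := ⟨1 + d, mem_U.2 hd1⟩ with ha₀
  have hRj : R x'' hx''1 h = Rj j a₀ := by
    apply Subtype.ext
    rw [coe_R, Rj, coe_R]
    congr 1
    ext1 b c
    rw [tv_apply, tv_apply, ← hm, hx''m b, e_mul_apply]
    have h3 : ∀ c, m * star (x'' c) = m * star (if c = j then (1 - qi) * x j else 0) := by
      intro c
      have h4 := congrArg star (hx''m c)
      rw [star_mul, star_mul, hms, neg_mul, neg_mul, neg_inj] at h4
      exact h4
    rw [mul_assoc, h3 c, ha₀]
    show _ = (if b = j then (1 + d) - 1 else 0) * _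
    rw [add_sub_cancel_left]
    by_cases hb : b = j
    · rw [if_pos hb, if_pos hb]
      by_cases hc : c = j
      · subst hc
        rw [if_pos rfl, e, Pi.single_eq_same, star_one, mul_one, hd, hnj, star_mul, star_sub,
          star_one, star_qi]
        noncomm_ring
      · rw [if_neg hc, e, Pi.single_eq_of_ne hc, star_zero]
        simp
    · rw [if_neg hb, if_neg hb, zero_mul, zero_mul]
  rw [hRj] at ht''
  have hQ : IsQ8 ((1 : ℍ[F]) + d) := hPQ ht''
  have key : ∀ q : ℍ[F], IsQ8 q → q.re * q.imI = 0 := by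
    rintro q (h | h | h | h | h | h | h | h) <;> subst h <;> simp
  have h3 := key _ hQ
  have h4 : d.imI = 2 * nj.imI := by rw [hd]; simp; ring
  simp only [Quaternion.re_add, Quaternion.imI_add, hdre, Quaternion.re_one, Quaternion.imI_one,
    h4] at h3
  rw [add_zero, one_mul, zero_add] at h3
  rw [h3] at f1
  simp at f1

end Main

end Cfsg.Agent.H158.PronT
end
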