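import Cfsg.Agent.S0215
import Cfsg.Agent.Classification.QDW.FuCop
import Cfsg.Agent.H158.PronT
import Cfsg.Agent.H158.PronM2
import Cfsg.Agent.H158.PronProd
import Cfsg.Agent.S2431
import Mathlib.NumberTheory.LegendreSymbol.QuadraticChar.GaussSum
set_option linter.all false

-- part: H158/PronG
section
/-!
# The four-dimensional case (helper158)
-/

set_option autoImplicit false
set_option linter.unusedSectionVars false

namespace Cfsg.Agent.H158.PronG

open Quaternion Matrix Equiv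
open Cfsg.Agent.H158.PronQ Cfsg.Agent.H158.PronMat Cfsg.Agent.H158.PronMono
open Cfsg.Agent.H158.PronFrame Cfsg.Agent.H158.PronTwo Cfsg.Agent.H158.PronOdd

variable {F : Type*} [Field F]

/-- the involution `diag(-1, 1)` -/
abbrev z : GU (Fin 2) F := Rj 0 nu

theorem z_sq : (z : GU (Fin 2) F) * z = 1 := by rw [z, ← map_mul, nu_sq, map_one]

theorem z_inv : (z : GU (Fin 2) F)⁻¹ = z := inv_eq_of_mul_eq_one_left z_sq

theorem Rj0_conj (w : U F) (t : GU (Fin 2) F) :
    (Rj 0 w * t * (Rj 0 w)⁻¹).1 =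
      !![(w : ℍ[F]) * t.1 0 0 * star (w : ℍ[F]), (w : ℍ[F]) * t.1 0 1;
        t.1 1 0 * star (w : ℍ[F]), t.1 1 1] := by
  have h1 : (Rj 0 w * t * (Rj 0 w)⁻¹).1 = (Rj 0 w).1 * t.1 * (Rj 0 w⁻¹).1 := by
    rw [map_inv]; rfl
  have h3 : t.1 = !![t.1 0 0, t.1 0 1; t.1 1 0, t.1 1 1] := Matrix.eta_fin_two _
  rw [h1, Rj0_mat, Rj0_mat, PronQ.coe_inv]
  conv_lhs => rw [h3]
  rw [Matrix.mul_fin_two, Matrix.mul_fin_two]
  apply mat_ext <;> simp

theorem inv_mat (t : GU (Fin 2) F) :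
    (t⁻¹).1 = !![star (t.1 0 0), star (t.1 1 0); star (t.1 0 1), star (t.1 1 1)] := by
  rw [coe_inv_GU]
  ext1 a b
  rw [Matrix.conjTranspose_apply]
  fin_cases a <;> fin_cases b <;> simp

/-- An element inverted by `z` and commuting with its conjugates under `Q8` is an involution. -/
theorem inv_eq_self (h2 : (2 : F) ≠ 0) {t : GU (Fin 2) F} (hz : z * t * z⁻¹ = t⁻¹)
    (hc : ∀ w ∈ Q8 F, t * (Rj 0 w * t * (Rj 0 w)⁻¹) = (Rj 0 w * t * (Rj 0 w)⁻¹) * t) : t⁻¹ = t := by
  -- entries of `t`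
  have hz1 := congrArg Subtype.val hz
  rw [z, Rj0_conj, inv_mat, coe_nu, star_neg, star_one] at hz1
  have a00 : star (t.1 0 0) = t.1 0 0 := by
    have := congrFun (congrFun hz1 0) 0
    simpa using this.symm
  have a01 : -t.1 0 1 = star (t.1 1 0) := by
    have := congrFun (congrFun hz1 0) 1
    simpa using this
  have a11 : star (t.1 1 1) = t.1 1 1 := by
    have := congrFun (congrFun hz1 1) 1
    simpa using this.symm
  have a10 : t.1 1 0 = -star (t.1 0 1) := by
    have := congrArg star a01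
    rw [star_star, star_neg] at this
    exact this.symm
  set β := t.1 0 1 with hβ
  have htm : t.1 = !![t.1 0 0, β; -star β, t.1 1 1] := by
    rw [← a10]; exact Matrix.eta_fin_two _
  have htim : (t⁻¹).1 = !![t.1 0 0, -β; star β, t.1 1 1] := by
    rw [inv_mat, a00, a11, a10, star_neg, star_star]
  -- `T = t - t⁻¹`
  have hT : t.1 - (t⁻¹).1 = !![0, 2 * β; -(2 * star β), 0] := by
    rw [htim]
    conv_lhs => rw [htm]
    ext1 a b
    rw [Matrix.sub_apply]
    fin_cases a <;> fin_cases b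
    · simp
    · simp; noncomm_ring
    · simp; noncomm_ring
    · simp
  have key : ∀ w ∈ Q8 F, (w : ℍ[F]) * (w : ℍ[F]) = -1 →
      normSq β = 0 ∧ star β * (w : ℍ[F]) * β = 0 := by
    intro w hw hww
    set s := Rj 0 w * t * (Rj 0 w)⁻¹ with hs
    have hst : Commute t s := hc w hw
    have hsi : s⁻¹ = Rj 0 w * t⁻¹ * (Rj 0 w)⁻¹ := by rw [hs]; group
    have hsw : star (w : ℍ[F]) = -(w : ℍ[F]) := by
      have h3 : star (w : ℍ[F]) * w = 1 := Unitary.coe_star_mul_self w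
      calc star (w : ℍ[F]) = -(star (w : ℍ[F]) * (w * w)) := by rw [hww]; noncomm_ring
        _ = -(w : ℍ[F]) := by rw [← mul_assoc, h3, one_mul]
    have hS : s.1 - (s⁻¹).1 = !![0, (w : ℍ[F]) * (2 * β); 2 * star β * (w : ℍ[F]), 0] := by
      rw [hsi, hs, Rj0_conj, Rj0_conj, htim, hsw]
      conv_lhs => rw [htm]
      ext1 a b
      rw [Matrix.sub_apply]
      fin_cases a <;> fin_cases b
      · simp
      · simp; noncomm_ring
      · simp; noncomm_ring
      · simp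
    have hcomm : (t.1 - (t⁻¹).1) * (s.1 - (s⁻¹).1) = (s.1 - (s⁻¹).1) * (t.1 - (t⁻¹).1) := by
      have c1 : t.1 * s.1 = s.1 * t.1 := congrArg Subtype.val hst.eq
      have c2 : (t⁻¹).1 * s.1 = s.1 * (t⁻¹).1 := congrArg Subtype.val hst.inv_left.eq
      have c3 : t.1 * (s⁻¹).1 = (s⁻¹).1 * t.1 := congrArg Subtype.val hst.inv_right.eq
      have c4 : (t⁻¹).1 * (s⁻¹).1 = (s⁻¹).1 * (t⁻¹).1 :=
        congrArg Subtype.val hst.inv_left.inv_right.eq
      rw [mul_sub, sub_mul, sub_mul, mul_sub, sub_mul, sub_mul, c1, c2, c3, c4]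
      abel
    rw [hT, hS, Matrix.mul_fin_two, Matrix.mul_fin_two] at hcomm
    have e0 := congrFun (congrFun hcomm 0) 0
    have e1 := congrFun (congrFun hcomm 1) 1
    simp only [Matrix.of_apply, Matrix.cons_val', Matrix.cons_val_zero, Matrix.cons_val_one,
      Matrix.cons_val_fin_one, zero_mul, mul_zero, zero_add, add_zero] at e0 e1
    constructor
    · -- `4 N(β) w = -4 N(β) w`
      have hN : β * star β = ((normSq β : F) : ℍ[F]) := Quaternion.self_mul_star _
      have e3 : 2 * (2 * (2 * (((normSq β : F) : ℍ[F]) * w))) = 0 := by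
        have e4 : 2 * β * (2 * star β * (w : ℍ[F])) = 2 * (2 * (β * star β * w)) := by
          noncomm_ring
        have e5 : (w : ℍ[F]) * (2 * β) * -(2 * star β) = -(2 * (2 * (w * (β * star β)))) := by
          noncomm_ring
        rw [e4, e5, hN, ← Quaternion.coe_commutes] at e0
        have e6 : 2 * (2 * (2 * (((normSq β : F) : ℍ[F]) * w))) =
            2 * (2 * (((normSq β : F) : ℍ[F]) * w)) + 2 * (2 * (((normSq β : F) : ℍ[F]) * w)) := by
          noncomm_ring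
        rw [e6]
        nth_rw 1 [e0]
        abel
      have e4 := two_ne h2 (two_ne h2 (two_ne h2 e3))
      rw [Quaternion.coe_mul_eq_smul] at e4
      rcases smul_eq_zero.1 e4 with h | h
      · exact h
      · exact absurd h (U_ne_zero w)
    · have e3 : 2 * (2 * (2 * (star β * w * β))) = 0 := by
        have e4 : -(2 * star β) * ((w : ℍ[F]) * (2 * β)) = -(2 * (2 * (star β * w * β))) := by
          noncomm_ring
        have e5 : 2 * star β * (w : ℍ[F]) * (2 * β) = 2 * (2 * (star β * w * β)) := by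
          noncomm_ring
        rw [e4, e5] at e1
        have e6 : 2 * (2 * (2 * (star β * w * β))) =
            2 * (2 * (star β * w * β)) + 2 * (2 * (star β * w * β)) := by
          noncomm_ring
        rw [e6]
        nth_rw 1 [← e1]
        abel
      exact two_ne h2 (two_ne h2 (two_ne h2 e3))
  obtain ⟨k0, ki⟩ := key uI uI_mem qi_mul_qi
  obtain ⟨-, kj⟩ := key uJ uJ_mem qj_mul_qj
  obtain ⟨-, kk⟩ := key uK uK_mem qk_mul_qk
  have hβ0 : β = 0 := by
    apply eq_zero_of_sandwich h2 _ ki kj kk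
    rw [Quaternion.star_mul_self, k0]; rfl
  apply Subtype.ext
  rw [htim, hβ0]
  conv_rhs => rw [htm, hβ0]
  simp

theorem eq_one_of_sq {G : Type*} [Group G] {r : ℕ} (hr : r.Prime) (hr2 : r ≠ 2) {k : ℕ} {x : G}
    (hx : x ^ r ^ k = 1) (hxx : x * x = 1) : x = 1 := by
  have hodd : Odd (r ^ k) := (hr.odd_of_ne_two hr2).pow
  obtain ⟨l, hl⟩ := hodd
  rw [hl, pow_succ, pow_mul, pow_two, hxx, one_pow, one_mul] at hx
  exact hx

/-- A `Q8`-invariant `r`-group which is not centralized by `z` contains a transvection. -/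
theorem X_case [Finite F] (h2 : (2 : F) ≠ 0) {r : ℕ} [Fact r.Prime] (hr : r ≠ 2)
    {X : Subgroup (GU (Fin 2) F)} (hX : IsPGroup r X)
    (hinv : ∀ w ∈ Q8 F, ∀ x ∈ X, Rj 0 w * x * (Rj 0 w)⁻¹ ∈ X) (hz : ∃ x ∈ X, z * x ≠ x * z) :
    ∃ (i : Fin 2) (h : U F), h ≠ 1 ∧ normSq ((h : ℍ[F]) - 1) = 0 ∧ Rj i h ∈ X := by
  have hr' : r.Prime := Fact.out
  have hsq : ∀ x ∈ X, x * x = 1 → x = 1 := by
    intro x hx hxx
    obtain ⟨k, hk⟩ := hX ⟨x, hx⟩
    exact eq_one_of_sq hr' hr (congrArg Subtype.val hk) hxx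
  obtain ⟨x₀, hx₀, hzx₀⟩ := hz
  have hnt : Nontrivial X := by
    refine ⟨⟨x₀, hx₀⟩, 1, fun h => hzx₀ ?_⟩
    have : x₀ = 1 := congrArg Subtype.val h
    rw [this, one_mul, mul_one]
  have hct := hX.center_nontrivial
  obtain ⟨⟨⟨b, hbX⟩, hbc⟩, hb1⟩ := exists_ne (1 : Subgroup.center X)
  have hb1' : b ≠ 1 := fun h => hb1 (Subtype.ext (Subtype.ext h))
  have hbcomm : ∀ x ∈ X, b * x = x * b := fun x hx =>
    (congrArg Subtype.val (Subgroup.mem_center_iff.1 hbc ⟨x, hx⟩)).symm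
  -- conjugates of central elements are central
  have hcen : ∀ c ∈ X, (∀ x ∈ X, c * x = x * c) → ∀ w ∈ Q8 F, Rj 0 w * c * (Rj 0 w)⁻¹ ∈ X ∧
      ∀ x ∈ X, (Rj 0 w * c * (Rj 0 w)⁻¹) * x = x * (Rj 0 w * c * (Rj 0 w)⁻¹) := by
    intro c hc hcc w hw
    refine ⟨hinv w hw c hc, fun x hx => ?_⟩
    have h1 : (Rj 0 w)⁻¹ * x * Rj 0 w ∈ X := by
      have := hinv w⁻¹ (inv_mem hw) x hx
      rwa [map_inv, inv_inv] at this
    have h3 := hcc _ h1
    calc (Rj 0 w * c * (Rj 0 w)⁻¹) * x = Rj 0 w * (c * ((Rj 0 w)⁻¹ * x * Rj 0 w)) * (Rj 0 w)⁻¹ := by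
          group
      _ = Rj 0 w * (((Rj 0 w)⁻¹ * x * Rj 0 w) * c) * (Rj 0 w)⁻¹ := by rw [h3]
      _ = x * (Rj 0 w * c * (Rj 0 w)⁻¹) := by group
  have hnu : (nu : U F) ∈ Q8 F := Or.inr (Or.inl rfl)
  -- `z` commutes with `b`
  have hzb : z * b = b * z := by
    obtain ⟨k1, k2⟩ := hcen b hbX hbcomm nu hnu
    set t : GU (Fin 2) F := b⁻¹ * (z * b * z⁻¹) with ht
    have htX : t ∈ X := mul_mem (inv_mem hbX) k1
    have htc : ∀ x ∈ X, t * x = x * t := by
      intro x hx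
      have e1 : b⁻¹ * x = x * b⁻¹ := by
        have := hbcomm x hx
        rw [inv_mul_eq_iff_eq_mul, ← mul_assoc, this]; group
      rw [ht, mul_assoc, k2 x hx, ← mul_assoc, ← mul_assoc, e1]
      simp only [mul_assoc]
    have hzt : z * t * z⁻¹ = t⁻¹ := by
      have e1 : z * t * z⁻¹ = (z * b * z⁻¹)⁻¹ * ((z * z) * b * (z * z)⁻¹) := by rw [ht]; group
      rw [e1, z_sq, inv_one, one_mul, mul_one, ht]
      group
    have hself := inv_eq_self h2 hzt (fun w hw => htc _ (hinv w hw t htX))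
    have ht1 : t = 1 := by
      apply hsq t htX
      nth_rw 1 [← hself]
      group
    rw [ht, inv_mul_eq_one] at ht1
    rw [eq_mul_inv_iff_mul_eq] at ht1
    exact ht1.symm
  -- `b` is diagonal
  have hzb' : z * b * z⁻¹ = b := by rw [hzb]; group
  have hbm := congrArg Subtype.val hzb'
  rw [z, Rj0_conj, coe_nu, star_neg, star_one] at hbm
  have b01 : b.1 0 1 = 0 := by
    have h1 := congrFun (congrFun hbm 0) 1
    have h3 : -b.1 0 1 = b.1 0 1 := by simpa using h1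
    apply two_ne h2
    rw [two_mul]; nth_rw 1 [← h3]; abel
  have b10 : b.1 1 0 = 0 := by
    have h1 := congrFun (congrFun hbm 1) 0
    have h3 : -b.1 1 0 = b.1 1 0 := by simpa using h1
    apply two_ne h2
    rw [two_mul]; nth_rw 1 [← h3]; abel
  have hmono : Mono b.1 1 := by
    intro i j hij
    fin_cases i <;> fin_cases j
    · exact absurd rfl hij
    · exact b01
    · exact b10
    · exact absurd rfl hij
  obtain ⟨b1, hb1e⟩ := hmono.entry 0
  obtain ⟨b2, hb2e⟩ := hmono.entry 1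
  have hbeq : b = Rj 0 b1 * Rj 1 b2 := by
    apply Subtype.ext
    have h3 : (Rj 0 b1 * Rj 1 b2 : GU (Fin 2) F).1 = (Rj 0 b1).1 * (Rj 1 b2).1 := rfl
    rw [h3, Rj0_mat, Rj1_mat, Matrix.mul_fin_two]
    rw [Matrix.eta_fin_two b.1, b01, b10]
    apply mat_ext
    · rw [hb1e]; simp
    · simp
    · simp
    · rw [hb2e]; simp
  have hcomm01 : ∀ u v : U F, Rj (0 : Fin 2) u * Rj 1 v = Rj 1 v * Rj 0 u := by
    intro u v
    apply Subtype.ext
    have h3 : (Rj 0 u * Rj 1 v : GU (Fin 2) F).1 = (Rj 0 u).1 * (Rj 1 v).1 := rfl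
    have h4 : (Rj 1 v * Rj 0 u : GU (Fin 2) F).1 = (Rj 1 v).1 * (Rj 0 u).1 := rfl
    rw [h3, h4, Rj0_mat, Rj1_mat, Matrix.mul_fin_two, Matrix.mul_fin_two]
    apply mat_ext <;> simp
  -- a central element supported on one coordinate
  obtain ⟨i, h, hh1, hhX, hhc⟩ : ∃ (i : Fin 2) (h : U F), h ≠ 1 ∧ Rj i h ∈ X ∧
      ∀ x ∈ X, Rj i h * x = x * Rj i h := by
    by_cases hb11 : b1 = 1
    · refine ⟨1, b2, fun h => hb1' ?_, ?_, ?_⟩
      · rw [hbeq, hb11, h, map_one, map_one, mul_one]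
      · rw [hb11, map_one, one_mul] at hbeq
        rw [← hbeq]; exact hbX
      · rw [hb11, map_one, one_mul] at hbeq
        rw [← hbeq]; exact hbcomm
    · obtain ⟨w, hw, hwb⟩ : ∃ w ∈ Q8 F, w * b1 ≠ b1 * w := by
        by_contra hcon
        push Not at hcon
        apply hb11
        have e1 := eq_coe_of_comm h2 (q := (b1 : ℍ[F])) (congrArg Subtype.val (hcon uI uI_mem)).symm
          (congrArg Subtype.val (hcon uJ uJ_mem)).symm
        have e2 := normSq_U b1
        rw [e1, Quaternion.normSq_coe] at e2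
        -- `b1² = 1`
        have e3 : b1 * b1 = 1 := by
          apply Subtype.ext
          show (b1 : ℍ[F]) * (b1 : ℍ[F]) = 1
          rw [e1, ← Quaternion.coe_mul, ← pow_two, e2]; rfl
        obtain ⟨k, hk⟩ := hX ⟨b, hbX⟩
        have hk' : b ^ r ^ k = 1 := congrArg Subtype.val hk
        have e4 : Rj 0 (b1 ^ r ^ k) * Rj 1 (b2 ^ r ^ k) = (1 : GU (Fin 2) F) := by
          rw [map_pow, map_pow, ← hk', hbeq]
          exact ((show Commute (Rj (0 : Fin 2) b1) (Rj 1 b2) from hcomm01 b1 b2).mul_pow _).symm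
        have e5 : b1 ^ r ^ k = 1 := by
          have e6 := congrArg Subtype.val e4
          have h3 : (Rj 0 (b1 ^ r ^ k) * Rj 1 (b2 ^ r ^ k) : GU (Fin 2) F).1 =
            (Rj 0 (b1 ^ r ^ k)).1 * (Rj 1 (b2 ^ r ^ k)).1 := rfl
          rw [h3, Rj0_mat, Rj1_mat, Matrix.mul_fin_two] at e6
          have e7 := congrFun (congrFun e6 0) 0
          apply Subtype.ext
          simpa using e7
        exact eq_one_of_sq hr' hr e5 e3
      obtain ⟨k1, k2⟩ := hcen b hbX hbcomm w hw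
      have e1 : Rj 0 w * b * (Rj 0 w)⁻¹ * b⁻¹ = Rj 0 (w * b1 * w⁻¹ * b1⁻¹) := by
        rw [hbeq, map_mul, map_mul, map_mul, map_inv, map_inv, _root_.mul_inv_rev]
        have e3 : (Rj 1 b2) * (Rj 0 w)⁻¹ = (Rj 0 w)⁻¹ * (Rj 1 b2 : GU (Fin 2) F) := by
          rw [← map_inv]; exact (hcomm01 w⁻¹ b2).symm
        generalize (Rj (0 : Fin 2) w) = p at *
        generalize (Rj (0 : Fin 2) b1) = q at *
        generalize (Rj (1 : Fin 2) b2) = s at *
        calc p * (q * s) * p⁻¹ * (s⁻¹ * q⁻¹)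
            = p * q * (s * p⁻¹) * s⁻¹ * q⁻¹ := by
              simp only [mul_assoc]
          _ = p * q * p⁻¹ * q⁻¹ := by rw [e3]; group
      refine ⟨0, w * b1 * w⁻¹ * b1⁻¹, fun h => hwb ?_, ?_, ?_⟩
      · rw [mul_inv_eq_one, mul_inv_eq_iff_eq_mul] at h
        exact h
      · rw [← e1]; exact mul_mem k1 (inv_mem hbX)
      · intro x hx
        have e3 : b⁻¹ * x = x * b⁻¹ := by
          have := hbcomm x hx
          rw [inv_mul_eq_iff_eq_mul, ← mul_assoc, this]; group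
        rw [← e1, mul_assoc, e3, ← mul_assoc, k2 x hx]
        simp only [mul_assoc]
  refine ⟨i, h, hh1, ?_, hhX⟩
  by_contra hN
  apply hzx₀
  -- `x₀` is diagonal
  have hx := congrArg Subtype.val (hhc x₀ hx₀)
  have c1 : (Rj i h * x₀ : GU (Fin 2) F).1 = (Rj i h).1 * x₀.1 := rfl
  have c2 : (x₀ * Rj i h : GU (Fin 2) F).1 = x₀.1 * (Rj i h).1 := rfl
  rw [c1, c2, Matrix.eta_fin_two x₀.1] at hx
  have hdiag : x₀.1 0 1 = 0 ∧ x₀.1 1 0 = 0 := by
    fin_cases i
    · have hm : (Rj (0 : Fin 2) h).1 = !![(h : ℍ[F]), 0; 0, 1] := Rj0_mat h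
      simp only [Fin.zero_eta] at hx
      rw [hm, Matrix.mul_fin_two, Matrix.mul_fin_two] at hx
      have e1 := congrFun (congrFun hx 0) 1
      have e3 := congrFun (congrFun hx 1) 0
      have e1' : (h : ℍ[F]) * x₀.1 0 1 = x₀.1 0 1 := by simpa using e1
      have e3' : x₀.1 1 0 = x₀.1 1 0 * (h : ℍ[F]) := by simpa using e3
      exact ⟨mul_eq_zero_left hN (by rw [sub_mul, e1', one_mul, sub_self]),
        mul_eq_zero_right hN (by rw [mul_sub, ← e3', mul_one, sub_self])⟩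
    · have hm : (Rj (1 : Fin 2) h).1 = !![1, 0; 0, (h : ℍ[F])] := Rj1_mat h
      simp only [Fin.mk_one] at hx
      rw [hm, Matrix.mul_fin_two, Matrix.mul_fin_two] at hx
      have e1 := congrFun (congrFun hx 0) 1
      have e3 := congrFun (congrFun hx 1) 0
      have e1' : x₀.1 0 1 = x₀.1 0 1 * (h : ℍ[F]) := by simpa using e1
      have e3' : (h : ℍ[F]) * x₀.1 1 0 = x₀.1 1 0 := by simpa using e3
      exact ⟨mul_eq_zero_right hN (by rw [mul_sub, ← e1', mul_one, sub_self]),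
        mul_eq_zero_left hN (by rw [sub_mul, e3', one_mul, sub_self])⟩
  have hfin : z * x₀ * z⁻¹ = x₀ := by
    apply Subtype.ext
    rw [z, Rj0_conj, coe_nu, star_neg, star_one]
    rw [Matrix.eta_fin_two x₀.1, hdiag.1, hdiag.2]
    apply mat_ext <;> simp
  exact mul_inv_eq_iff_eq_mul.1 hfin

/-- Two involutions whose product has order dividing 4 lie in a common 2-group. -/
theorem exists_two_group {G : Type*} [Group G] [Finite G] {L : Subgroup G} {a b : G} (haL : a ∈ L)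
    (hbL : b ∈ L) (ha : a * a = 1) (hb : b * b = 1) (hab : (a * b) ^ 4 = 1) :
    ∃ Q ≤ L, IsPGroup 2 Q ∧ a ∈ Q ∧ b ∈ Q := by
  have hpz : ∀ x : G, x ^ 4 = 1 → IsPGroup 2 (Subgroup.zpowers x) := by
    intro x hx
    rintro ⟨y, hy⟩
    obtain ⟨l, rfl⟩ := Subgroup.mem_zpowers_iff.1 hy
    refine ⟨2, Subtype.ext ?_⟩
    show (x ^ l) ^ 2 ^ 2 = 1
    rw [← zpow_natCast, ← _root_.zpow_mul, mul_comm, _root_.zpow_mul, zpow_natCast,
      show 2 ^ 2 = 4 from rfl, hx, _root_.one_zpow]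
  have ha' : a⁻¹ = a := inv_eq_of_mul_eq_one_left ha
  have hb' : b⁻¹ = b := inv_eq_of_mul_eq_one_left hb
  have h1 := hpz (a * b) hab
  have h3 : IsPGroup 2 (Subgroup.zpowers a) := hpz a (by
    rw [show 4 = 2 + 2 from rfl, pow_add, pow_two, ha, one_mul])
  have h4 : Subgroup.zpowers a ≤ Subgroup.normalizer (Subgroup.zpowers (a * b) : Set G) := by
    rw [Subgroup.zpowers_le]
    have hconj : ∀ x ∈ Subgroup.zpowers (a * b), a * x * a⁻¹ ∈ Subgroup.zpowers (a * b) := by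
      intro x hx
      obtain ⟨l, rfl⟩ := Subgroup.mem_zpowers_iff.1 hx
      have h5 : a * (a * b) * a⁻¹ = (a * b)⁻¹ := by
        rw [_root_.mul_inv_rev, hb', ← mul_assoc, ha, one_mul]
      rw [← conj_zpow, h5]
      exact zpow_mem (inv_mem (Subgroup.mem_zpowers _)) l
    rw [Subgroup.mem_normalizer_iff]
    intro x
    refine ⟨fun h => hconj x h, fun h => ?_⟩
    have h5 := hconj _ h
    have h6 : a * (a * x * a⁻¹) * a⁻¹ = x := by
      rw [ha']
      calc a * (a * x * a) * a = (a * a) * x * (a * a) := by group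
        _ = x := by rw [ha, one_mul, mul_one]
    rwa [h6] at h5
  refine ⟨Subgroup.zpowers (a * b) ⊔ Subgroup.zpowers a, ?_, h1.to_sup_of_normal_left' h3 h4, ?_, ?_⟩
  · rw [sup_le_iff, Subgroup.zpowers_le, Subgroup.zpowers_le]
    exact ⟨mul_mem haL hbL, haL⟩
  · exact Subgroup.mem_sup_right (Subgroup.mem_zpowers a)
  · have h5 : a⁻¹ * (a * b) ∈ Subgroup.zpowers (a * b) ⊔ Subgroup.zpowers a :=
      mul_mem (inv_mem (Subgroup.mem_sup_right (Subgroup.mem_zpowers a)))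
        (Subgroup.mem_sup_left (Subgroup.mem_zpowers _))
    rwa [inv_mul_cancel_left] at h5

/-- Abstract form of the application of the `Z*`-theorem: `z ∈ L` is isolated modulo the central
involution `c`; `z'` is an involution of `L` which is not in a 2-group with `z`.  Then for a
2-group `W ≤ L` commuting with `z` there is an `r`-subgroup of `L`, `r` odd, normalized by `W` and
not centralized by `z`. -/
theorem exists_X {G : Type*} [Group G] [Finite G] (L W : Subgroup G) {z c z' : G} (hzL : z ∈ L)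
    (hz : z * z = 1) (hz1 : z ≠ 1) (hcc : c * c = 1) (hc : ∀ x : G, c * x = x * c) (hzc : z ≠ c)
    (hW : W ≤ L) (hW2 : IsPGroup 2 W)
    (hC : ∀ g ∈ L, ∀ Q : Subgroup G, Q ≤ L → IsPGroup 2 Q → z ∈ Q → g * z * g⁻¹ ∈ Q →
      g * z * g⁻¹ = z ∨ g * z * g⁻¹ = c * z)
    (hz'L : z' ∈ L) (hz' : z' * z' = 1)
    (hno : ∀ Q ≤ L, IsPGroup 2 Q → z ∈ Q → z' ∉ Q) :
    ∃ r : ℕ, r.Prime ∧ r ≠ 2 ∧ ∃ X ≤ L, IsPGroup r X ∧ (∀ w ∈ W, ∀ x ∈ X, w * x * w⁻¹ ∈ X) ∧
      ∃ x ∈ X, z * x ≠ x * z := by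
  -- the subgroup `{1, c}` of `L`
  obtain ⟨c', hc'c', hc'c, hc'mem, hc'⟩ : ∃ c' : L, c' * c' = 1 ∧ (∀ x : L, c' * x = x * c') ∧
      (c ∈ L → (c' : G) = c) ∧ ((c' : G) = 1 ∨ (c' : G) = c) := by
    by_cases hcL : c ∈ L
    · exact ⟨⟨c, hcL⟩, Subtype.ext hcc, fun x => Subtype.ext (hc x), fun _ => rfl, Or.inr rfl⟩
    · exact ⟨1, mul_one 1, fun x => by rw [one_mul, mul_one], fun h => absurd h hcL, Or.inl rfl⟩
  let C : Subgroup L :=
    { carrier := {x | x = 1 ∨ x = c'}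
      one_mem' := Or.inl rfl
      mul_mem' := by
        rintro a b (ha | ha) (hb | hb)
        · left; rw [ha, hb, one_mul]
        · right; rw [ha, hb, one_mul]
        · right; rw [ha, hb, mul_one]
        · left; rw [ha, hb]; exact hc'c'
      inv_mem' := by
        rintro a (ha | ha)
        · left; rw [ha, inv_one]
        · right; rw [ha]; exact inv_eq_of_mul_eq_one_left hc'c' }
  have hCmem : ∀ x, x ∈ C ↔ x = 1 ∨ x = c' := fun x => Iff.rfl
  have hCn : C.Normal := by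
    refine ⟨fun n hn g => ?_⟩
    rcases hn with hn | hn
    · left; rw [hn]; simp
    · right; rw [hn, ← hc'c g]; simp
  have hC2 : IsPGroup 2 C := by
    rintro ⟨x, hx | hx⟩
    · refine ⟨0, Subtype.ext ?_⟩
      show x ^ 2 ^ 0 = 1
      rw [hx, one_pow]
    · refine ⟨1, Subtype.ext ?_⟩
      show x ^ 2 ^ 1 = 1
      rw [hx, pow_one, pow_two, hc'c']
  let zL : L := ⟨z, hzL⟩
  have hzL2 : zL * zL = 1 := Subtype.ext hz
  have hpz : IsPGroup 2 (Subgroup.zpowers zL) := by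
    rintro ⟨y, hy⟩
    obtain ⟨l, rfl⟩ := Subgroup.mem_zpowers_iff.1 hy
    refine ⟨1, Subtype.ext ?_⟩
    show (zL ^ l) ^ 2 ^ 1 = 1
    rw [← zpow_natCast, ← _root_.zpow_mul, mul_comm, _root_.zpow_mul, zpow_natCast, pow_one,
      pow_two, hzL2, _root_.one_zpow]
  obtain ⟨P, hP⟩ := hpz.exists_le_sylow
  have hzP : zL ∈ (P : Subgroup L) := hP (Subgroup.mem_zpowers _)
  have hCP : C ≤ (P : Subgroup L) := by
    have h1 : IsPGroup 2 ((P : Subgroup L) ⊔ C : Subgroup L) :=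
      P.isPGroup'.to_sup_of_normal_right hC2
    have h3 := P.is_maximal' h1 le_sup_left
    have h4 : C ≤ (P : Subgroup L) ⊔ C := le_sup_right
    rw [h3] at h4
    exact h4
  let π : L →* L ⧸ C := QuotientGroup.mk' C
  have hπ : Function.Surjective π := QuotientGroup.mk'_surjective C
  have hker : ∀ x, π x = 1 ↔ x = 1 ∨ x = c' := fun x => (QuotientGroup.eq_one_iff x).trans (hCmem x)
  have hzne : zL ≠ c' := by
    intro h
    have h1 : z = (c' : G) := congrArg Subtype.val h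
    rcases hc' with h3 | h3
    · exact hz1 (h1.trans h3)
    · exact hzc (h1.trans h3)
  have hzne1 : zL ≠ 1 := fun h => hz1 (congrArg Subtype.val h)
  have hord : orderOf (π zL) = 2 := by
    apply orderOf_eq_prime
    · rw [← map_pow, pow_two, hzL2, map_one]
    · intro h
      rcases (hker zL).1 h with h | h
      · exact hzne1 h
      · exact hzne h
  obtain ⟨N, hNn, hNodd, hN⟩ := S0215.result (P.mapSurjective hπ) (π zL) hord ⟨zL, hzP, rfl⟩ (by
    intro g hg
    obtain ⟨g, rfl⟩ := hπ g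
    obtain ⟨p, hp, hpe⟩ := hg
    have h1 : π (p⁻¹ * (g * zL * g⁻¹)) = 1 := by
      have h3 : π p = π g * π zL * (π g)⁻¹ := hpe
      rw [map_mul, map_inv, h3, map_mul, map_mul, map_inv]; group
    have h3 : p⁻¹ * (g * zL * g⁻¹) ∈ (P : Subgroup L) := hCP ((hker _).1 h1)
    have h4 : g * zL * g⁻¹ ∈ (P : Subgroup L) := by
      have := mul_mem hp h3
      rwa [mul_inv_cancel_left] at this
    have h5 := hC g g.2 ((P : Subgroup L).map L.subtype) (by
      rintro _ ⟨x, -, rfl⟩; exact x.2) (P.isPGroup'.map _) ⟨zL, hzP, rfl⟩ ⟨_, h4, rfl⟩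
    rcases h5 with h5 | h5
    · have h6 : g * zL * g⁻¹ = zL := Subtype.ext h5
      rw [← map_mul, ← map_inv, ← map_mul, h6]
    · have hcL : c ∈ L := by
        have h6 : c = (g : G) * z * (g : G)⁻¹ * z⁻¹ := by rw [h5]; group
        rw [h6]
        exact mul_mem (mul_mem (mul_mem g.2 hzL) (inv_mem g.2)) (inv_mem hzL)
      have h6 : g * zL * g⁻¹ = c' * zL := by
        apply Subtype.ext
        show (g : G) * z * (g : G)⁻¹ = (c' : G) * z
        rw [hc'mem hcL]; exact h5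
      rw [← map_mul, ← map_inv, ← map_mul, h6, map_mul, (hker c').2 (Or.inr rfl), one_mul])
  -- the preimage of `N`
  obtain ⟨O, hO, hNO⟩ := odd_part (N.comap π) c' hc'c' hc'c (by
    rintro n hn ⟨k, hk⟩
    apply (hker n).1
    have h1 : orderOf (π n) ∣ 2 ^ k := orderOf_dvd_of_pow_eq_one (by rw [← map_pow, hk, map_one])
    have h3 : orderOf (π n) ∣ Nat.card N := by
      have := orderOf_dvd_natCard (⟨π n, hn⟩ : N)
      rwa [← Subgroup.orderOf_coe] at this
    have h4 : Nat.Coprime (2 ^ k) (Nat.card N) :=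
      Nat.Coprime.pow_left k (Nat.coprime_two_left.2 hNodd)
    exact orderOf_eq_one_iff.1 (Nat.eq_one_of_dvd_coprimes h4 h1 h3))
  have hOn : ∀ g : L, ∀ x ∈ O, g * x * g⁻¹ ∈ O := by
    intro g x hx
    obtain ⟨h1, h3⟩ := (hO x).1 hx
    rw [hO]
    refine ⟨(inferInstance : (N.comap π).Normal).conj_mem x h1 g, ?_⟩
    rw [PronP.orderOf_conj']; exact h3
  set O' : Subgroup G := O.map L.subtype with hO'
  have hO'L : O' ≤ L := by rintro _ ⟨x, -, rfl⟩; exact x.2
  have hO'n : ∀ w ∈ W, ∀ x ∈ O', w * x * w⁻¹ ∈ O' := by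
    rintro w hw _ ⟨x, hx, rfl⟩
    exact ⟨_, hOn ⟨w, hW hw⟩ x hx, rfl⟩
  have hO'2 : ¬ 2 ∣ Nat.card O' := by
    intro hd
    obtain ⟨⟨y, hy⟩, hxo⟩ := exists_prime_orderOf_dvd_card' 2 hd
    obtain ⟨x, hx, hxy⟩ := hy
    have h1 := ((hO x).1 hx).2
    have h3 : orderOf x = 2 := by
      rw [← Subgroup.orderOf_coe] at hxo
      rw [← Subgroup.orderOf_coe x, ← hxo]
      exact congrArg orderOf hxy
    rw [h3] at h1
    exact absurd h1 (by decide)
  -- suppose `z` centralizes all invariant Sylow subgroups of `O'`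
  by_contra hcon
  have hcent : ∀ x ∈ O', z * x = x * z := by
    have hidx : (Subgroup.centralizer ({z} : Set G)).relIndex O' = 1 := by
      rw [Nat.eq_one_iff_not_exists_prime_dvd]
      intro r hr hd
      have : Fact r.Prime := ⟨hr⟩
      have hr2 : r ≠ 2 := by
        rintro rfl
        apply hO'2
        exact hd.trans (Subgroup.relIndex_dvd_card _ _)
      obtain ⟨Y, hYO, hY, hYi, hYW⟩ := Cfsg.Agent.Classification.QDW.FuCop.exists_inv hW2 hO'2 hO'n r
      apply hcon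
      refine ⟨r, hr, hr2, Y, hYO.trans hO'L, hY, hYW, ?_⟩
      by_contra hY'
      push Not at hY'
      apply hYi
      have h1 : Y ≤ Subgroup.centralizer ({z} : Set G) ⊓ O' := by
        intro y hy
        have hy1 : y ∈ Subgroup.centralizer ({z} : Set G) := by
          rw [Subgroup.mem_centralizer_singleton_iff]
          exact (hY' y hy).symm
        exact Subgroup.mem_inf.2 ⟨hy1, hYO hy⟩
      have h3 : (Subgroup.centralizer ({z} : Set G) ⊓ O').relIndex O' =
          (Subgroup.centralizer ({z} : Set G)).relIndex O' := Subgroup.inf_relIndex_right _ _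
      rw [← h3] at hd
      exact hd.trans (Subgroup.relIndex_dvd_of_le_left O' h1)
    rw [Subgroup.relIndex_eq_one] at hidx
    intro x hx
    have := hidx hx
    rw [Subgroup.mem_centralizer_singleton_iff] at this
    exact this.symm
  -- the commutator of `z` and `z'`
  have hzi : z⁻¹ = z := inv_eq_of_mul_eq_one_left hz
  have hz'i : z'⁻¹ = z' := inv_eq_of_mul_eq_one_left hz'
  have h1 := hN (π ⟨z', hz'L⟩)
  have h3 : zL * ⟨z', hz'L⟩ * zL⁻¹ * (⟨z', hz'L⟩ : L)⁻¹ ∈ N.comap π := by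
    rw [Subgroup.mem_comap, map_mul, map_mul, map_mul, map_inv, map_inv]
    exact h1
  have h4 : z * (z * z' * z⁻¹ * z'⁻¹) = (z * z' * z⁻¹ * z'⁻¹) * z := by
    rcases hNO _ h3 with h5 | h5
    · exact hcent _ ⟨_, h5, rfl⟩
    · have h6 : z * ((c' : G) * (z * z' * z⁻¹ * z'⁻¹)) = ((c' : G) * (z * z' * z⁻¹ * z'⁻¹)) * z :=
        hcent _ ⟨_, h5, rfl⟩
      have h7 : (c' : G) * z = z * (c' : G) := congrArg Subtype.val (hc'c zL)
      have h8 : (c' : G) * (z * (z * z' * z⁻¹ * z'⁻¹)) = (c' : G) * ((z * z' * z⁻¹ * z'⁻¹) * z) := by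
        rw [← mul_assoc, h7, mul_assoc, h6, mul_assoc]
      exact mul_left_cancel h8
  have h5 : (z * z') ^ 4 = 1 := by
    rw [hzi, hz'i] at h4
    have e1 : z * (z * z' * z * z') * z = z' * z * z' * z := by
      calc z * (z * z' * z * z') * z = (z * z) * (z' * z * z' * z) := by simp only [mul_assoc]
        _ = z' * z * z' * z := by rw [hz, one_mul]
    have e2 : z * (z * z' * z * z') * z = z * z' * z * z' := by
      rw [h4, mul_assoc, hz, mul_one]
    have e3 : z * z' * z * z' = z' * z * z' * z := e2.symm.trans e1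
    have e4 : (z * z') ^ 4 = (z * z' * z * z') * (z * z' * z * z') := by
      rw [pow_succ, pow_succ, pow_two]
      simp only [mul_assoc]
    rw [e4]
    nth_rewrite 1 [e3]
    calc z' * z * z' * z * (z * z' * z * z') = z' * z * z' * (z * z) * z' * z * z' := by
          simp only [mul_assoc]
      _ = z' * z * (z' * z') * z * z' := by rw [hz, mul_one]; simp only [mul_assoc]
      _ = z' * (z * z) * z' := by rw [hz', mul_one]; simp only [mul_assoc]
      _ = 1 := by rw [hz, mul_one, hz']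
  obtain ⟨Q, hQL, hQ2, hzQ, hz'Q⟩ := exists_two_group hzL hz'L hz hz' h5
  exact hno Q hQL hQ2 hzQ hz'Q

end Cfsg.Agent.H158.PronG
end

-- part: H158/PronH
section
/-!
# Two unit vectors of `K` are orthogonal or proportional (helper158)
-/

set_option autoImplicit false
set_option linter.unusedSectionVars false

namespace Cfsg.Agent.H158.PronH

open Quaternion Matrix Equiv
open Cfsg.Agent.H158.PronQ Cfsg.Agent.H158.PronMat Cfsg.Agent.H158.PronMono
open Cfsg.Agent.H158.PronFrame Cfsg.Agent.H158.PronTwo Cfsg.Agent.H158.PronK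
open Cfsg.Agent.H158.PronT Cfsg.Agent.H158.PronG Cfsg.Agent.H158.PronM2

variable {F : Type*} [Field F] {n : Type*} [Fintype n] [DecidableEq n]

/-- The matrix with columns `x`, `y`. -/
def Xc (x y : n → ℍ[F]) : Matrix n (Fin 2) ℍ[F] := Matrix.of fun c k => if k = 0 then x c else y c

theorem Xc_mulVec (x y : n → ℍ[F]) (v : Fin 2 → ℍ[F]) :
    Xc x y *ᵥ v = fun c => x c * v 0 + y c * v 1 := by
  funext c
  rw [Matrix.mulVec, dotProduct, Fin.sum_univ_two]
  rfl

theorem Xc_unit {x y : n → ℍ[F]} (hx : ip x x = 1) (hy : ip y y = 1) (hxy : ip x y = 0) :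
    (Xc x y)ᴴ * Xc x y = 1 := by
  have hyx : ip y x = 0 := by rw [← star_ip, hxy, star_zero]
  ext1 k l
  rw [Matrix.mul_apply]
  simp only [Matrix.conjTranspose_apply]
  fin_cases k <;> fin_cases l
  · exact hx
  · exact hxy
  · exact hyx
  · exact hy

theorem Xc_e0 (x y : n → ℍ[F]) : Xc x y *ᵥ e 0 = x := by
  rw [Xc_mulVec]
  funext c
  have e0 : (e 0 : Fin 2 → ℍ[F]) 0 = 1 := by rw [e, Pi.single_eq_same]
  have e1 : (e 0 : Fin 2 → ℍ[F]) 1 = 0 := by rw [e, Pi.single_eq_of_ne (by decide)]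
  rw [e0, e1, mul_one, mul_zero, add_zero]

theorem two_R0 {v : Fin 2 → ℍ[F]} (hv : ip v v = 1) (h0 : v 0 = 0) : R v hv nu = Rj 1 nu := by
  apply Subtype.ext
  have hm : (Rj (1 : Fin 2) (nu : U F)).1 = !![1, 0; 0, ((nu : U F) : ℍ[F])] := Rj1_mat nu
  have h1 : star (v 1) * v 1 = 1 := by
    rw [ip, Fin.sum_univ_two, h0, mul_zero, zero_add] at hv; exact hv
  have h1' : v 1 * star (v 1) = 1 := by
    rw [star_mul_self] at h1; rw [self_mul_star]; exact h1
  rw [hm, coe_nu]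
  ext1 a b
  rw [rf_apply]
  fin_cases a <;> fin_cases b
  · simp [h0]
  · simp [h0]
  · simp [h0]
  · simp [h1']; norm_num

theorem two_R1 {v : Fin 2 → ℍ[F]} (hv : ip v v = 1) (h0 : v 1 = 0) : R v hv nu = Rj 0 nu := by
  apply Subtype.ext
  have hm : (Rj (0 : Fin 2) (nu : U F)).1 = !![((nu : U F) : ℍ[F]), 0; 0, 1] := Rj0_mat nu
  have h1 : star (v 0) * v 0 = 1 := by
    rw [ip, Fin.sum_univ_two, h0, mul_zero, add_zero] at hv; exact hv
  have h1' : v 0 * star (v 0) = 1 := by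
    rw [star_mul_self] at h1; rw [self_mul_star]; exact h1
  rw [hm, coe_nu]
  ext1 a b
  rw [rf_apply]
  fin_cases a <;> fin_cases b
  · simp [h1']; norm_num
  · simp [h0]
  · simp [h0]
  · simp [h0]

theorem U_mul_star {q : ℍ[F]} (h : star q * q = 1) : q * star q = 1 := by
  rw [star_mul_self] at h; rw [self_mul_star]; exact h

/-- The conjugates of `z` by elements with a zero in the first column. -/
theorem z_conj (g : GU (Fin 2) F) (h : g.1 0 0 = 0 ∨ g.1 1 0 = 0) :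
    g * z * g⁻¹ = z ∨ g * z * g⁻¹ = sc nu * z := by
  have h1 : ip (g.1 *ᵥ e 0) (g.1 *ᵥ e 0) = 1 := by rw [ip_act, ip_e_e]
  have h3 : g * z * g⁻¹ = R (g.1 *ᵥ e 0) h1 nu := R_conj g (e 0) (ip_e_e 0) h1 nu
  rcases h with h | h
  · right
    rw [h3, two_R0 h1 (by rw [mulVec_e]; exact h), sc_eq_Rj]
    have h4 : (Rj (0 : Fin 2) (nu : U F)) * (Rj 1 nu * Rj 0 nu) =
        Rj 0 nu * (Rj 0 nu * Rj 1 nu) := by
      congr 1
      apply Subtype.ext
      have m0 : (Rj (0 : Fin 2) (nu : U F)).1 = !![((nu : U F) : ℍ[F]), 0; 0, 1] := Rj0_mat nu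
      have m1 : (Rj (1 : Fin 2) (nu : U F)).1 = !![1, 0; 0, ((nu : U F) : ℍ[F])] := Rj1_mat nu
      have c1 : (Rj (1 : Fin 2) (nu : U F) * Rj 0 nu).1 = (Rj 1 nu).1 * (Rj 0 nu).1 := rfl
      have c2 : (Rj (0 : Fin 2) (nu : U F) * Rj 1 nu).1 = (Rj 0 nu).1 * (Rj 1 nu).1 := rfl
      rw [c1, c2, m0, m1, Matrix.mul_fin_two, Matrix.mul_fin_two]
      apply mat_ext <;> simp
    rw [mul_assoc, h4, ← mul_assoc, ← map_mul, nu_sq, map_one, one_mul]
  · left
    rw [h3, two_R1 h1 (by rw [mulVec_e]; exact h)]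

theorem two_dim [Finite F] (h2 : (2 : F) ≠ 0) {L : Subgroup (GU (Fin 2) F)} {η : Fin 2 → ℍ[F]}
    (hη : ip η η = 1) (hW : ∀ w ∈ Q8 F, Rj 0 w ∈ L) (hηL : R η hη nu ∈ L)
    (hC : ∀ g ∈ L, ∀ Q ≤ L, IsPGroup 2 Q → z ∈ Q → g * z * g⁻¹ ∈ Q → g.1 0 0 = 0 ∨ g.1 1 0 = 0)
    (hno : ∀ Q ≤ L, IsPGroup 2 Q → z ∈ Q → R η hη nu ∉ Q) :
    ∃ (i : Fin 2) (h : U F), h ≠ 1 ∧ normSq ((h : ℍ[F]) - 1) = 0 ∧ Rj i h ∈ L := by
  have hnu : (nu : U F) ∈ Q8 F := Or.inr (Or.inl rfl)
  have hz1 : (z : GU (Fin 2) F) ≠ 1 := by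
    intro h
    have h1 := congrFun (congrFun (congrArg Subtype.val h) 0) 0
    have m0 : (z : GU (Fin 2) F).1 = !![((nu : U F) : ℍ[F]), 0; 0, 1] := Rj0_mat nu
    rw [m0, coe_nu] at h1
    have h3 : (-1 : ℍ[F]) = 1 := by simpa using h1
    have h4 : (2 : ℍ[F]) * 1 = 0 := by rw [two_mul]; nth_rw 1 [← h3]; simp
    exact one_ne_zero (two_ne h2 h4)
  have hz2 : (z : GU (Fin 2) F) ≠ sc nu := by
    intro h
    have h1 := congrFun (congrFun (congrArg Subtype.val h) 1) 1
    have m0 : (z : GU (Fin 2) F).1 = !![((nu : U F) : ℍ[F]), 0; 0, 1] := Rj0_mat nu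
    have m1 : (sc nu : GU (Fin 2) F).1 = !![((nu : U F) : ℍ[F]), 0; 0, ((nu : U F) : ℍ[F])] := sc_mat nu
    rw [m0, m1, coe_nu] at h1
    have h3 : (1 : ℍ[F]) = -1 := by simpa using h1
    have h4 : (2 : ℍ[F]) * 1 = 0 := by rw [two_mul]; nth_rw 2 [h3]; simp
    exact one_ne_zero (two_ne h2 h4)
  have hcc : (sc nu : GU (Fin 2) F) * sc nu = 1 := by rw [← map_mul, nu_sq, map_one]
  have hc : ∀ x : GU (Fin 2) F, sc nu * x = x * sc nu := by
    intro x
    apply Subtype.ext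
    ext1 a b
    have c1 := sc_mul_apply nu x a b
    have c2 := mul_sc_apply nu x a b
    rw [coe_nu] at c1 c2
    refine c1.trans (Eq.trans ?_ c2.symm)
    rw [neg_one_mul, mul_neg_one]
  have hRsq : R η hη nu * R η hη nu = 1 := by rw [← map_mul, nu_sq, map_one]
  obtain ⟨r, hr, hr2, X, hXL, hX, hXW, hXz⟩ := exists_X L ((Q8 F).map (Rj 0)) (hW nu hnu) z_sq hz1
    hcc hc hz2 (by rintro _ ⟨w, hw, rfl⟩; exact hW w hw) (Q8_isPGroup.map _)
    (fun g hg Q hQL hQ hzQ hgQ => z_conj g (hC g hg Q hQL hQ hzQ hgQ)) hηL hRsq hno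
  have : Fact r.Prime := ⟨hr⟩
  obtain ⟨i, h, h1, h3, h4⟩ := X_case h2 hr2 hX (fun w hw x hx => hXW _ ⟨w, hw, rfl⟩ x hx) hXz
  exact ⟨i, h, h1, h3, hXL h4⟩

section Main

variable [Finite F] (h2 : (2 : F) ≠ 0) (hns : ¬ IsSquare (2 : F)) (T : Sylow 2 (Perm n))
  (hT : ∀ a b : n, ∃ τ ∈ (T : Subgroup (Perm n)), τ a = b) {K : Subgroup (GU n F)}
  (hSK : SG (Q8 F) (T : Subgroup (Perm n)) ≤ K) (hom : sc (om h2) ∉ K)

include h2 hns hT hSK hom

/-- Two unit vectors of `K` are orthogonal, or their product has norm 1. -/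
theorem claim_g {x y : n → ℍ[F]} (hx : InS K x) (hy : InS K y) (h0 : ip x y ≠ 0) :
    normSq (ip x y) = 1 := by
  by_contra hN
  obtain ⟨hx1, hxK⟩ := hx
  obtain ⟨hy1, hyK⟩ := hy
  set c := ip x y with hc
  set ν : F := 1 - normSq c with hν
  have hν0 : ν ≠ 0 := fun h => hN (sub_eq_zero.1 h).symm
  obtain ⟨l, hl⟩ := exists_normSq (F := F) ν⁻¹
  have hlN : (l * star l : ℍ[F]) = ((ν⁻¹ : F) : ℍ[F]) := by rw [self_mul_star, hl]
  have hlN' : (star l * l : ℍ[F]) = ((ν⁻¹ : F) : ℍ[F]) := by rw [star_mul_self, hl]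
  set l' : ℍ[F] := star l * ((ν : F) : ℍ[F]) with hl'
  have hll' : l * l' = 1 := by
    rw [hl', ← mul_assoc, hlN, ← Quaternion.coe_mul, inv_mul_cancel₀ hν0, Quaternion.coe_one]
  set y' : n → ℍ[F] := y - fun a => x a * c with hy'
  have hyx : ip y x = star c := by rw [← star_ip]
  have hxy' : ip x y' = 0 := by
    rw [hy', ip_sub_right, ip_smul_right, hx1, one_mul, ← hc, sub_self]
  have hy'y' : ip y' y' = ((ν : F) : ℍ[F]) := by
    have h1 : ip y y' = ((ν : F) : ℍ[F]) := by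
      rw [hy', ip_sub_right, ip_smul_right, hy1, hyx, star_mul_self, hν, Quaternion.coe_sub,
        Quaternion.coe_one]
    have h3 : ip (fun a => x a * c) y' = 0 := by rw [ip_smul_left, hxy', mul_zero]
    have h4 : ip y' y' = ip y y' - ip (fun a => x a * c) y' := by
      conv_lhs => rw [hy', ip_sub_left]
    rw [h4, h1, h3, sub_zero]
  set y'' : n → ℍ[F] := fun a => y' a * l with hy''
  have hxy'' : ip x y'' = 0 := by rw [hy'', ip_smul_right, hxy', zero_mul]
  have hy''1 : ip y'' y'' = 1 := by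
    rw [hy'', ip_smul_left, ip_smul_right, hy'y', ← mul_assoc, ← Quaternion.coe_commutes,
      mul_assoc, hlN', ← Quaternion.coe_mul, mul_inv_cancel₀ hν0, Quaternion.coe_one]
  have hX := Xc_unit hx1 hy''1 hxy''
  set η : Fin 2 → ℍ[F] := ![c, l'] with hηdef
  have hXη : Xc x y'' *ᵥ η = y := by
    rw [Xc_mulVec]
    funext a
    show x a * c + y' a * l * l' = y a
    rw [mul_assoc, hll', mul_one, hy', Pi.sub_apply]
    abel
  have hη : ip η η = 1 := by rw [← ip_Phi hX, hXη, hy1]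
  set φ := Phi (Xc x y'') hX with hφ
  have hφ0 : ∀ w, φ (Rj 0 w) = R x hx1 w := by
    intro w
    rw [hφ, Rj, Phi_R hX _ _ (by rw [Xc_e0]; exact hx1)]
    exact R_congr (Xc_e0 _ _) _ _ _
  have hφη : ∀ w, φ (R η hη w) = R y hy1 w := by
    intro w
    rw [hφ, Phi_R hX _ _ (by rw [hXη]; exact hy1)]
    exact R_congr hXη _ _ _
  have hnu : (nu : U F) ∈ Q8 F := Or.inr (Or.inl rfl)
  obtain ⟨i, h, hh1, hhN, hhL⟩ := two_dim h2 (L := K.comap φ) hη
    (fun w hw => by show φ (Rj 0 w) ∈ K; rw [hφ0]; exact hxK w hw)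
    (by show φ (R η hη nu) ∈ K; rw [hφη]; exact hyK nu hnu)
    (by
      intro g hg Q hQL hQ hzQ hgQ
      have hgK : φ g ∈ K := hg
      obtain ⟨hu1, huK⟩ := InS.act ⟨hx1, hxK⟩ hgK
      have e1 : (φ g).1 *ᵥ x = Xc x y'' *ᵥ (g.1 *ᵥ e 0) := by
        conv_lhs => rw [← Xc_e0 x y'', hφ]
        exact Phi_mulVec hX g (e 0)
      have e2 : ip x ((φ g).1 *ᵥ x) = g.1 0 0 := by
        have h3 : ip (Xc x y'' *ᵥ e 0) (Xc x y'' *ᵥ (g.1 *ᵥ e 0)) = ip (e 0) (g.1 *ᵥ e 0) :=
          ip_Phi hX _ _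
        rw [Xc_e0, ← e1, ip_e, mulVec_e] at h3
        exact h3
      have e3 : R ((φ g).1 *ᵥ x) hu1 nu = φ (g * z * g⁻¹) := by
        rw [map_mul, map_mul, map_inv, hφ0, R_conj (φ g) x hx1 hu1]
      have h5 := f2' h2 hns T hT hSK hom hx1 hxK hu1 huK (Q := Q.map φ)
        (by rintro _ ⟨q, hq, rfl⟩; exact hQL hq) (hQ.map φ)
        ⟨z, hzQ, hφ0 nu⟩ ⟨_, hgQ, e3.symm⟩
      rw [e2] at h5
      rcases h5 with h5 | h5
      · left; exact h5
      · right
        have h6 := congrArg (fun v => (Xc x y'')ᴴ *ᵥ v) h5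
        have h7 : (fun a => x a * g.1 0 0) = Xc x y'' *ᵥ (fun a => (e 0 : Fin 2 → ℍ[F]) a * g.1 0 0) := by
          rw [mulVec_smul_right, Xc_e0]
        rw [e1, h7] at h6
        simp only [Matrix.mulVec_mulVec, hX, Matrix.one_mulVec] at h6
        have h8 : (Xc x y'')ᴴ * (Xc x y'' * g.1) = g.1 := by
          rw [← Matrix.mul_assoc, hX, Matrix.one_mul]
        rw [h8] at h6
        have h9 := congrFun h6 1
        rw [mulVec_e] at h9
        rw [e_mul_apply, if_neg (by decide)] at h9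
        exact h9)
    (by
      intro Q hQL hQ hzQ hηQ
      have h5 := f2' h2 hns T hT hSK hom hx1 hxK hy1 hyK (Q := Q.map φ)
        (by rintro _ ⟨q, hq, rfl⟩; exact hQL hq) (hQ.map φ)
        ⟨z, hzQ, hφ0 nu⟩ ⟨_, hηQ, hφη nu⟩
      rcases h5 with h5 | h5
      · exact h0 h5
      · apply hN
        have h6 : ip y y = star c * c := by
          conv_lhs => rw [h5]
          rw [← hc, ip_smul_left, ip_smul_right, hx1, one_mul]
        rw [hy1, star_mul_self] at h6
        have h7 := congrArg (fun q : ℍ[F] => q.re) h6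
        simpa using h7.symm)
  have hhK : φ (Rj i h) ∈ K := hhL
  have hXi : ip (Xc x y'' *ᵥ e i) (Xc x y'' *ᵥ e i) = 1 := by rw [ip_Phi hX, ip_e_e]
  rw [hφ, Rj, Phi_R hX _ _ hXi] at hhK
  exact no_transvection h2 hns T hT hSK hom hXi hhN hh1 hhK

end Main

end Cfsg.Agent.H158.PronH
end

-- part: H158/PronA
section
/-!
# Odd index subgroups of `GU n F`, 2 not a square (helper158)
-/

set_option autoImplicit false
set_option linter.unusedSectionVars false

namespace Cfsg.Agent.H158.PronA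

open Quaternion Matrix Equiv
open Cfsg.Agent.H158.PronQ Cfsg.Agent.H158.PronMat Cfsg.Agent.H158.PronMono
open Cfsg.Agent.H158.PronFrame Cfsg.Agent.H158.PronTwo Cfsg.Agent.H158.PronK
open Cfsg.Agent.H158.PronT Cfsg.Agent.H158.PronH Cfsg.Agent.H158.PronP

variable {F : Type*} [Field F] {n : Type*} [Fintype n] [DecidableEq n]

/-- A unitary matrix whose columns have only one nonzero entry is monomial. -/
theorem mono_of_cols {g : GU n F} (h1 : ∀ b, ∃ j, ∀ a, a ≠ j → g.1 a b = 0) :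
    ∃ σ : Perm n, Mono g.1 σ := by
  choose σ hσ using h1
  have hN : ∀ b c, ip (g.1 *ᵥ e b) (g.1 *ᵥ e c) = star (g.1 (σ b) b) * g.1 (σ b) c := by
    intro b c
    rw [PronMono.mulVec_e, PronMono.mulVec_e]
    unfold ip
    refine Finset.sum_eq_single (σ b) (fun a _ ha => ?_) (fun h => absurd (Finset.mem_univ _) h)
    show star (g.1 a b) * g.1 a c = 0
    rw [hσ b a ha, star_zero, zero_mul]
  have hinj : Function.Injective σ := by
    intro b c hbc
    by_contra hne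
    have h3 := hN b b
    rw [ip_act, ip_e_e] at h3
    have h4 := hN b c
    rw [ip_act, ip_e, e, Pi.single_eq_of_ne hne] at h4
    have h5 : normSq (star (g.1 (σ b) b)) ≠ 0 := by
      intro h0
      have h6 := congrArg normSq h3
      rw [map_mul, h0, zero_mul, map_one] at h6
      exact one_ne_zero h6
    have h6 := mul_eq_zero_left h5 h4.symm
    have h7 := hN c c
    rw [ip_act, ip_e_e, ← hbc, h6, mul_zero] at h7
    exact one_ne_zero h7
  refine ⟨Equiv.ofBijective σ (Finite.injective_iff_bijective.1 hinj), fun a b hab => ?_⟩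
  exact hσ b a hab

section Main

variable [Finite F] (h2 : (2 : F) ≠ 0) (hns : ¬ IsSquare (2 : F)) (T : Sylow 2 (Perm n))
  (hT : ∀ a b : n, ∃ τ ∈ (T : Subgroup (Perm n)), τ a = b) {K : Subgroup (GU n F)}
  (hSK : SG (Q8 F) (T : Subgroup (Perm n)) ≤ K) (hom : sc (om h2) ∉ K)

include h2 hns hT hSK hom

/-- The unit vectors of `K` are multiples of the basis vectors. -/
theorem thmA {y : n → ℍ[F]} (hy : InS K y) : ∃ j, ∀ a, a ≠ j → y a = 0 := by
  have hyy := hy.choose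
  have hN : ∀ j, y j ≠ 0 → normSq (y j) = 1 := by
    intro j hj
    have h1 : ip (e j) y = y j := ip_e j y
    have := claim_g h2 hns T hT hSK hom (InS_e hSK j) hy (by rw [h1]; exact hj)
    rwa [h1] at this
  obtain ⟨j, hj⟩ : ∃ j, y j ≠ 0 := by
    by_contra hcon
    push Not at hcon
    have h1 : ip y y = 0 := by
      unfold ip
      refine Finset.sum_eq_zero fun a _ => ?_
      rw [hcon a, mul_zero]
    rw [h1] at hyy
    exact zero_ne_one hyy
  refine ⟨j, fun k hkj => ?_⟩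
  by_contra hk
  have Nj := hN j hj
  have Nk := hN k hk
  have key : ∀ w ∈ Q8 F, star (y j) * qi * y j + star (y k) * (w : ℍ[F]) * y k - 1 ≠ 0 →
      normSq (star (y j) * qi * y j + star (y k) * (w : ℍ[F]) * y k - 1) = 1 := by
    intro w hw h0
    have hg : Rj j uI * Rj k w ∈ K := mul_mem (hSK (Rj_mem _ j uI_mem)) (hSK (Rj_mem _ k hw))
    have h1 := InS.act hy hg
    have h3 : (Rj j uI * Rj k w).1 *ᵥ y = fun a => if a = j then qi * y j else
        (fun a => if a = k then (w : ℍ[F]) * y k else y a) a := by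
      have h4 : (Rj j uI * Rj k w).1 = (Rj j uI).1 * (Rj k w).1 := rfl
      rw [h4, ← Matrix.mulVec_mulVec, Rj_mulVec, Rj_mulVec]
      funext a
      by_cases haj : a = j
      · subst haj
        rw [if_pos rfl, if_pos rfl]
        simp only [if_neg (Ne.symm hkj)]
        rfl
      · rw [if_neg haj, if_neg haj]
        by_cases hak : a = k
        · subst hak; rfl
        · simp only [if_neg hak]
    have h4 : ip y ((Rj j uI * Rj k w).1 *ᵥ y) =
        star (y j) * qi * y j + star (y k) * (w : ℍ[F]) * y k - 1 := by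
      rw [h3, ip_change, ip_change, hyy]
      simp only [if_neg (Ne.symm hkj)]
      have e1 : star (y j) * y j = 1 := by rw [star_mul_self, Nj, Quaternion.coe_one]
      have e2 : star (y k) * y k = 1 := by rw [star_mul_self, Nk, Quaternion.coe_one]
      rw [mul_sub, mul_sub, e1, e2]
      noncomm_ring
    have h5 := claim_g h2 hns T hT hSK hom hy h1 (by rw [h4]; exact h0)
    rwa [h4] at h5
  set u : ℍ[F] := star (y j) * qi * y j with hu
  set v : ℍ[F] := star (y k) * qi * y k with hv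
  have hre : ∀ x : ℍ[F], (star x * qi * x).re = 0 := by
    intro x; simp; ring
  have hure : u.re = 0 := hre _
  have hvre : v.re = 0 := hre _
  have hqi : normSq (qi : ℍ[F]) = 1 := by rw [normSq_def']; simp
  have hNu : normSq u = 1 := by rw [hu, map_mul, map_mul, normSq_star, Nj, hqi, one_mul, one_mul]
  have hNv : normSq v = 1 := by rw [hv, map_mul, map_mul, normSq_star, Nk, hqi, one_mul, one_mul]
  have k1 := key uI uI_mem (by
    intro h0
    have h1 := congrArg (fun q : ℍ[F] => q.re) h0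
    have h3 : ((uI : U F) : ℍ[F]) = qi := rfl
    rw [h3, ← hv] at h1
    simp only [Quaternion.re_sub, Quaternion.re_add, hure, hvre, Quaternion.re_one,
      Quaternion.re_zero] at h1
    rw [add_zero, zero_sub, neg_eq_zero] at h1
    exact one_ne_zero h1)
  have k2 := key (nu * uI) (mul_mem (Or.inr (Or.inl rfl)) uI_mem) (by
    intro h0
    have h1 := congrArg (fun q : ℍ[F] => q.re) h0
    have h3 : ((nu * uI : U F) : ℍ[F]) = -qi := by
      show (-1 : ℍ[F]) * qi = -qi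
      rw [neg_one_mul]
    have h4 : star (y k) * -qi * y k = -v := by rw [hv]; noncomm_ring
    rw [h3, h4] at h1
    simp only [Quaternion.re_sub, Quaternion.re_add, Quaternion.re_neg, hure, hvre,
      Quaternion.re_one, Quaternion.re_zero] at h1
    rw [neg_zero, add_zero, zero_sub, neg_eq_zero] at h1
    exact one_ne_zero h1)
  have h3 : ((uI : U F) : ℍ[F]) = qi := rfl
  have h3' : ((nu * uI : U F) : ℍ[F]) = -qi := by
    show (-1 : ℍ[F]) * qi = -qi
    rw [neg_one_mul]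
  have h4 : star (y k) * -qi * y k = -v := by rw [hv]; noncomm_ring
  rw [h3, ← hv] at k1
  rw [h3', h4] at k2
  rw [normSq_def'] at hNu hNv k1 k2
  rw [hure] at hNu
  rw [hvre] at hNv
  simp only [Quaternion.re_sub, Quaternion.re_add, Quaternion.re_neg, Quaternion.imI_sub,
    Quaternion.imI_add, Quaternion.imI_neg, Quaternion.imJ_sub, Quaternion.imJ_add,
    Quaternion.imJ_neg, Quaternion.imK_sub, Quaternion.imK_add, Quaternion.imK_neg, hure, hvre,
    Quaternion.re_one, Quaternion.imI_one, Quaternion.imJ_one, Quaternion.imK_one] at k1 k2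
  have h5 : (2 : F) * 2 = 0 := by linear_combination k1 + k2 - 2 * hNu - 2 * hNv
  rcases mul_eq_zero.1 h5 with h | h <;> exact h2 h

/-- `K` is monomial. -/
theorem K_mono {g : GU n F} (hg : g ∈ K) : ∃ σ : Perm n, Mono g.1 σ := by
  apply mono_of_cols
  intro b
  obtain ⟨j, hj⟩ := thmA h2 hns T hT hSK hom (InS.act (InS_e hSK b) hg)
  refine ⟨j, fun a ha => ?_⟩
  have := hj a ha
  rwa [PronMono.mulVec_e] at this

end Main

theorem comm_aux (h2 : (2 : F) ≠ 0) {u g : U F} (hg : g = om h2 ∨ g = (om h2)⁻¹)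
    (hu : om h2 * u * (om h2)⁻¹ * u⁻¹ ∈ Q8 F) :
    g * u * g⁻¹ * u⁻¹ ∈ Q8 F := by
  rcases hg with rfl | rfl
  · exact hu
  · have h1 : (om h2)⁻¹ * (om h2 * u * (om h2)⁻¹ * u⁻¹)⁻¹ * om h2 ∈ Q8 F :=
      om_conj_mem' h2 (inv_mem hu)
    have h3 : (om h2)⁻¹ * (om h2 * u * (om h2)⁻¹ * u⁻¹)⁻¹ * om h2 =
        (om h2)⁻¹ * u * (om h2)⁻¹⁻¹ * u⁻¹ := by group
    rwa [h3] at h1

/-- The main step. -/
theorem final_conj [Finite F] (h2 : (2 : F) ≠ 0) (hns : ¬ IsSquare (2 : F)) (T : Sylow 2 (Perm n))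
    (hT : ∀ a b : n, ∃ τ ∈ (T : Subgroup (Perm n)), τ a = b) {H : Subgroup (GU n F)}
    (hSH : SG (Q8 F) (T : Subgroup (Perm n)) ≤ H) {g : U F}
    (hg : g = om h2 ∨ g = (om h2)⁻¹) :
    ∃ x ∈ H ⊔ H.map (MulAut.conj (sc g)).toMonoidHom,
      H.map (MulAut.conj (sc g)).toMonoidHom = H.map (MulAut.conj x).toMonoidHom := by
  set K := H ⊔ H.map (MulAut.conj (sc g)).toMonoidHom with hK
  by_cases hgK : sc g ∈ K
  · exact ⟨sc g, hgK, rfl⟩
  have hom : sc (om h2) ∉ K := by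
    rcases hg with rfl | rfl
    · exact hgK
    · intro h
      apply hgK
      rw [map_inv]
      exact inv_mem h
  have hHK : H ≤ K := le_sup_left
  have hSK : SG (Q8 F) (T : Subgroup (Perm n)) ≤ K := hSH.trans hHK
  have hHgK : ∀ h ∈ H, sc g * h * (sc g)⁻¹ ∈ K := by
    intro h hh
    have h1 : H.map (MulAut.conj (sc g)).toMonoidHom ≤ K := le_sup_right
    exact h1 (PronProd.conj_mem_map_conj hh)
  have hscRj : ∀ (j : n) (a : U F), sc g * Rj j a * (sc g)⁻¹ = Rj j (g * a * g⁻¹) := by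
    intro j a
    have hm : Mono (sc g : GU n F).1 1 := by
      intro b c hbc
      rw [coe_sc]
      exact Matrix.diagonal_apply_ne (fun _ => (g : ℍ[F])) hbc
    have h1 : (g : ℍ[F]) = (sc g : GU n F).1 ((1 : Perm n) j) j := by
      rw [coe_sc]
      exact (Matrix.diagonal_apply_eq (fun _ => (g : ℍ[F])) j).symm
    exact hm.conj_Rj j h1 a
  have hPj : ∀ j : n, H.comap (Rj j) ≤ Q8 F := by
    intro j
    refine le_Q8_of_conj h2 hns (P₂ := K.comap (Rj j)) ?_ (Subgroup.comap_mono hHK)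
      (om_notMem_comap h2 hns T hT hSK hom j) hg ?_
    · intro w hw
      exact hSH (Rj_mem _ j hw)
    · intro x hx
      show Rj j (g * x * g⁻¹) ∈ K
      rw [← hscRj]
      exact hHgK _ hx
  have hconj : ∀ h ∈ H, sc g * h * (sc g)⁻¹ ∈ H := by
    intro h hh
    obtain ⟨σ, hσ⟩ := K_mono h2 hns T hT hSK hom (hHK hh)
    have h1 : sc g * h * (sc g)⁻¹ * h⁻¹ ∈ SG (Q8 F) (T : Subgroup (Perm n)) := by
      have hσi : Mono (h⁻¹).1 σ⁻¹ := by
        have := hσ.star
        rwa [← coe_inv_GU] at this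
      refine ⟨1, one_mem _, ?_, fun b => ?_⟩
      · intro c d hcd
        have h3 : (sc g * h * (sc g)⁻¹ * h⁻¹).1 = (sc g * h * (sc g)⁻¹).1 * (h⁻¹).1 := rfl
        rw [h3, hσi.mul_apply, ← map_inv, mul_sc_apply, sc_mul_apply,
          hσ c (σ⁻¹ d) (by simpa using hcd), mul_zero, zero_mul, zero_mul]
      · obtain ⟨u, hu⟩ := hσ.entry (σ⁻¹ b)
        have hun : ∀ w ∈ Q8 F, u * w * u⁻¹ ∈ Q8 F := by
          intro w hw
          apply hPj (σ (σ⁻¹ b))
          show Rj _ (u * w * u⁻¹) ∈ H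
          rw [← hσ.conj_Rj (σ⁻¹ b) hu]
          exact mul_mem (mul_mem hh (hSH (Rj_mem _ _ hw))) (inv_mem hh)
        refine ⟨g * u * g⁻¹ * u⁻¹, comm_aux h2 hg (om_comm h2 (norm_Q8 h2 hns hun)), ?_⟩
        have h3 : (sc g * h * (sc g)⁻¹ * h⁻¹).1 = (sc g * h * (sc g)⁻¹).1 * (h⁻¹).1 := rfl
        rw [h3, hσi.mul_apply, ← map_inv, mul_sc_apply, sc_mul_apply, coe_inv_GU,
          Matrix.conjTranspose_apply]
        have h4 : (1 : Perm n) b = σ (σ⁻¹ b) := by simp
        have h5 : h.1 b (σ⁻¹ b) = (u : ℍ[F]) := by rw [hu]; simp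
        rw [h4, ← hu, h5]
        show (g : ℍ[F]) * u * ((g⁻¹ : U F) : ℍ[F]) * ((u⁻¹ : U F) : ℍ[F]) = _
        rw [PronQ.coe_inv u]
    have h3 := mul_mem (hSH h1) hh
    rwa [inv_mul_cancel_right] at h3
  refine ⟨1, one_mem _, ?_⟩
  rw [Cfsg.Agent.H94.Pronormal.map_conj_one]
  apply Subgroup.eq_of_le_of_card_ge
  · rintro _ ⟨x, hx, rfl⟩
    exact hconj x hx
  · rw [Subgroup.card_map_of_injective (MulAut.conj (sc g : GU n F)).injective]

end Cfsg.Agent.H158.PronA
end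

-- part: H158/PronB
section
/-!
# Odd index subgroups of `GU n F` are pronormal (helper158)
-/

set_option autoImplicit false
set_option linter.unusedSectionVars false

namespace Cfsg.Agent.H158.PronB

open Quaternion Matrix Equiv
open Cfsg.Agent.H158.PronQ Cfsg.Agent.H158.PronMat Cfsg.Agent.H158.PronMono
open Cfsg.Agent.H158.PronFrame Cfsg.Agent.H158.PronTwo Cfsg.Agent.H158.PronK
open Cfsg.Agent.H158.PronProd Cfsg.Agent.H158.PronM2

section Abstract

variable {G : Type*} [Group G]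

theorem pronormal_conj {H : Subgroup G} (h : Cfsg.IsPronormal H) (c : G) :
    Cfsg.IsPronormal (H.map (MulAut.conj c).toMonoidHom) := by
  intro g
  obtain ⟨x, hx, hxe⟩ := h (c⁻¹ * g * c)
  refine ⟨c * x * c⁻¹, ?_, ?_⟩
  · have h1 := conj_mem_map_conj (g := c) hx
    rw [Subgroup.map_sup] at h1
    rw [← Cfsg.Agent.H94.Pronormal.map_conj_mul] at h1
    rw [← Cfsg.Agent.H94.Pronormal.map_conj_mul]
    have h3 : c * (c⁻¹ * g * c) = g * c := by group
    rwa [h3] at h1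
  · rw [← Cfsg.Agent.H94.Pronormal.map_conj_mul, ← Cfsg.Agent.H94.Pronormal.map_conj_mul]
    have h3 : g * c = c * (c⁻¹ * g * c) := by group
    have h4 : c * x * c⁻¹ * c = c * x := by group
    rw [h3, h4, Cfsg.Agent.H94.Pronormal.map_conj_mul, hxe,
      ← Cfsg.Agent.H94.Pronormal.map_conj_mul]

/-- It suffices to look at the overgroups of a given Sylow subgroup. -/
theorem pn_of_sylow [Finite G] (S : Sylow 2 G)
    (h1 : ∀ H : Subgroup G, (S : Subgroup G) ≤ H →
      ∀ m ∈ Subgroup.normalizer ((S : Subgroup G) : Set G),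
      ∃ x ∈ H ⊔ H.map (MulAut.conj m).toMonoidHom,
        H.map (MulAut.conj m).toMonoidHom = H.map (MulAut.conj x).toMonoidHom)
    (h2 : ∀ a ∈ Subgroup.normalizer ((S : Subgroup G) : Set G),
      ∀ b ∈ Subgroup.normalizer ((S : Subgroup G) : Set G),
      a * b * a⁻¹ * b⁻¹ ∈ (S : Subgroup G)) : PN G := by
  refine ⟨fun H hH => ?_, fun P a ha b hb => ?_⟩
  · obtain ⟨P, hP⟩ := exists_sylow_le' hH
    obtain ⟨c, rfl⟩ := MulAction.exists_smul_eq G S P
    have h3 : (S : Subgroup G) ≤ H.map (MulAut.conj c⁻¹).toMonoidHom := by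
      intro s hs
      rw [mem_map_conj, inv_inv]
      apply hP
      rw [Sylow.coe_subgroup_smul, Subgroup.mem_pointwise_smul_iff_inv_smul_mem]
      have h0 : (MulAut.conj c)⁻¹ • (c * s * c⁻¹) = s := by
        rw [← map_inv, MulAut.smul_def, MulAut.conj_apply, inv_inv]
        group
      rw [h0]; exact hs
    have h4 := Cfsg.Agent.H94.Pronormal.isPronormal_of_sylow S _ h3 (h1 _ h3)
    have h5 := pronormal_conj h4 c
    rw [← Cfsg.Agent.H94.Pronormal.map_conj_mul, mul_inv_cancel,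
      Cfsg.Agent.H94.Pronormal.map_conj_one] at h5
    exact h5
  · obtain ⟨c, rfl⟩ := MulAction.exists_smul_eq G S P
    have hmem : ∀ x, x ∈ ((c • S : Sylow 2 G) : Subgroup G) ↔ c⁻¹ * x * c ∈ (S : Subgroup G) := by
      intro x
      rw [Sylow.coe_subgroup_smul, Subgroup.mem_pointwise_smul_iff_inv_smul_mem, ← map_inv,
        MulAut.smul_def, MulAut.conj_apply, inv_inv]
    have hn : ∀ x ∈ Subgroup.normalizer (((c • S : Sylow 2 G) : Subgroup G) : Set G),
        c⁻¹ * x * c ∈ Subgroup.normalizer ((S : Subgroup G) : Set G) := by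
      intro x hx
      rw [Subgroup.mem_normalizer_iff] at hx ⊢
      intro y
      have h3 := hx (c * y * c⁻¹)
      rw [hmem, hmem] at h3
      have e1 : c⁻¹ * (c * y * c⁻¹) * c = y := by group
      have e2 : c⁻¹ * (x * (c * y * c⁻¹) * x⁻¹) * c =
        c⁻¹ * x * c * y * (c⁻¹ * x * c)⁻¹ := by group
      rw [e1, e2] at h3
      exact h3
    rw [hmem]
    have h3 := h2 _ (hn a ha) _ (hn b hb)
    have e1 : c⁻¹ * a * c * (c⁻¹ * b * c) * (c⁻¹ * a * c)⁻¹ * (c⁻¹ * b * c)⁻¹ =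
      c⁻¹ * (a * b * a⁻¹ * b⁻¹) * c := by group
    rwa [e1] at h3

theorem pn_of_selfNorm [Finite G] (S : Sylow 2 G)
    (h : Subgroup.normalizer ((S : Subgroup G) : Set G) ≤ (S : Subgroup G)) : PN G := by
  refine pn_of_sylow S (fun H hH m hm => ?_) (fun a ha b hb => ?_)
  · refine ⟨m, Subgroup.mem_sup_left (hH (h hm)), rfl⟩
  · exact mul_mem (mul_mem (mul_mem (h ha) (h hb)) (inv_mem (h ha))) (inv_mem (h hb))

theorem comm_mod {S : Subgroup G} {x y s t : G} (hx : x ∈ Subgroup.normalizer (S : Set G))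
    (hy : y ∈ Subgroup.normalizer (S : Set G)) (hxy : x * y = y * x) (hs : s ∈ S) (ht : t ∈ S) :
    (x * s) * (y * t) * (x * s)⁻¹ * (y * t)⁻¹ ∈ S := by
  have h0 : y⁻¹ * x⁻¹ * y = x⁻¹ := by
    rw [← _root_.mul_inv_rev, hxy, _root_.mul_inv_rev]; group
  have h1 : (x * s) * (y * t) * (x * s)⁻¹ * (y * t)⁻¹ =
      (x * s * x⁻¹) * ((x * y) * (t * s⁻¹) * (x * y)⁻¹) * (y * t⁻¹ * y⁻¹) := by
    calc (x * s) * (y * t) * (x * s)⁻¹ * (y * t)⁻¹
        = x * s * y * t * s⁻¹ * x⁻¹ * t⁻¹ * y⁻¹ := by group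
      _ = x * s * y * t * s⁻¹ * (y⁻¹ * x⁻¹ * y) * t⁻¹ * y⁻¹ := by rw [h0]
      _ = _ := by group
  rw [h1]
  refine mul_mem (mul_mem ?_ ?_) ?_
  · exact (Subgroup.mem_normalizer_iff.1 hx s).1 hs
  · exact (Subgroup.mem_normalizer_iff.1 (mul_mem hx hy) _).1 (mul_mem ht (inv_mem hs))
  · exact (Subgroup.mem_normalizer_iff.1 hy _).1 (inv_mem ht)

/-- A Sylow `p`-subgroup of a transitive group of prime power degree is transitive. -/
theorem sylow_transitive {α : Type*} [Fintype α] [DecidableEq α] {k : ℕ}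
    (hα : Fintype.card α = 2 ^ k) (T : Sylow 2 (Perm α)) (a b : α) :
    ∃ τ ∈ (T : Subgroup (Perm α)), τ a = b := by
  have h1 : (MulAction.stabilizer (Perm α) a).index = 2 ^ k := by
    rw [MulAction.index_stabilizer_of_transitive, Nat.card_eq_fintype_card, hα]
  have h3 : 2 ^ k ∣ ((MulAction.stabilizer (Perm α) a) ⊓ (T : Subgroup (Perm α))).index := by
    rw [← h1]
    exact Subgroup.index_dvd_of_le inf_le_left
  have h4 : (MulAction.stabilizer (Perm α) a).relIndex (T : Subgroup (Perm α)) *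
      (T : Subgroup (Perm α)).index =
      ((MulAction.stabilizer (Perm α) a) ⊓ (T : Subgroup (Perm α))).index := by
    rw [← Subgroup.inf_relIndex_right]
    exact Subgroup.relIndex_mul_index inf_le_right
  rw [← h4] at h3
  have h5 : Nat.Coprime (2 ^ k) (T : Subgroup (Perm α)).index :=
    Nat.Coprime.pow_left k ((Nat.Prime.coprime_iff_not_dvd Nat.prime_two).2 T.not_dvd_index)
  have h6 := h5.dvd_of_dvd_mul_right h3
  have h7 : (MulAction.stabilizer (Perm α) a).relIndex (T : Subgroup (Perm α)) =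
      (MulAction.orbit (T : Subgroup (Perm α)) a).ncard := by
    rw [← MulAction.index_stabilizer]
    rfl
  rw [h7] at h6
  have h8 : (MulAction.orbit (T : Subgroup (Perm α)) a).ncard ≤ 2 ^ k := by
    rw [← hα, ← Nat.card_eq_fintype_card]
    exact Set.ncard_le_card _
  have h9 : 0 < (MulAction.orbit (T : Subgroup (Perm α)) a).ncard :=
    (Set.ncard_pos (Set.toFinite _)).2 ⟨a, MulAction.mem_orbit_self a⟩
  have h10 : (MulAction.orbit (T : Subgroup (Perm α)) a).ncard = Nat.card α := by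
    rw [Nat.card_eq_fintype_card, hα]
    exact le_antisymm h8 (Nat.le_of_dvd h9 h6)
  have h11 : MulAction.orbit (T : Subgroup (Perm α)) a = Set.univ := by
    apply Set.eq_univ_of_forall
    intro x
    by_contra hx
    have h12 : MulAction.orbit (T : Subgroup (Perm α)) a ⊂ Set.univ :=
      ⟨Set.subset_univ _, fun h => hx (h (Set.mem_univ x))⟩
    have h13 := Set.ncard_lt_ncard h12 (Set.toFinite _)
    rw [h10, Set.ncard_univ] at h13
    exact lt_irrefl _ h13
  have h12 : b ∈ MulAction.orbit (T : Subgroup (Perm α)) a := by rw [h11]; trivial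
  obtain ⟨τ, hτ⟩ := h12
  exact ⟨τ.1, τ.2, hτ⟩

end Abstract

variable {F : Type*} [Field F] {n : Type*} [Fintype n] [DecidableEq n]

/-- The case where 2 is not a square. -/
theorem pn_nonsq [Finite F] (h2 : (2 : F) ≠ 0) (hns : ¬ IsSquare (2 : F)) {k : ℕ}
    (hn : Fintype.card n = 2 ^ k) : PN (GU n F) := by
  obtain ⟨T⟩ : Nonempty (Sylow 2 (Perm n)) := inferInstance
  have hT := sylow_transitive hn T
  obtain ⟨S, hS⟩ := exists_sylow_SG (F := F) h2 hns T hT
  have hcop : ∀ x ∈ Subgroup.normalizer ((S : Subgroup (GU n F)) : Set (GU n F)),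
      ∃ u : U F, (u = 1 ∨ u = om h2 ∨ u = (om h2)⁻¹) ∧ ∃ s ∈ (S : Subgroup (GU n F)), x = sc u * s := by
    intro x hx
    rw [hS] at hx ⊢
    rcases norm_SG_Q8 h2 hns T hT hx with h | h | h
    · exact ⟨1, Or.inl rfl, x, h, by rw [map_one, one_mul]⟩
    · exact ⟨om h2, Or.inr (Or.inl rfl), _, h, by group⟩
    · exact ⟨(om h2)⁻¹, Or.inr (Or.inr rfl), _, h, by rw [map_inv]; group⟩
  have hsc : ∀ u : U F, (u = 1 ∨ u = om h2 ∨ u = (om h2)⁻¹) →
      sc u ∈ Subgroup.normalizer ((S : Subgroup (GU n F)) : Set (GU n F)) := by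
    have h1 : sc (om h2) ∈ Subgroup.normalizer ((S : Subgroup (GU n F)) : Set (GU n F)) := by
      rw [Subgroup.mem_normalizer_iff, hS]
      intro s
      refine ⟨fun h => sc_om_conj h2 h, fun h => ?_⟩
      have h3 := sc_om_conj' h2 h
      have h4 : (sc (om h2))⁻¹ * (sc (om h2) * s * (sc (om h2))⁻¹) * sc (om h2) = s := by group
      rwa [h4] at h3
    rintro u (rfl | rfl | rfl)
    · rw [map_one]; exact one_mem _
    · exact h1
    · rw [map_inv]; exact inv_mem h1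
  have hcomm : ∀ u v : U F, (u = 1 ∨ u = om h2 ∨ u = (om h2)⁻¹) →
      (v = 1 ∨ v = om h2 ∨ v = (om h2)⁻¹) → u * v = v * u := by
    rintro u v (rfl | rfl | rfl) (rfl | rfl | rfl) <;> group
  refine pn_of_sylow S (fun H hH m hm => ?_) (fun a ha b hb => ?_)
  · obtain ⟨u, hu, s, hs, rfl⟩ := hcop m hm
    have h3 : H.map (MulAut.conj (sc u * s)).toMonoidHom = H.map (MulAut.conj (sc u)).toMonoidHom := by
      rw [Cfsg.Agent.H94.Pronormal.map_conj_mul,
        Cfsg.Agent.H94.Pronormal.map_conj_of_mem_normalizer (Subgroup.le_normalizer (hH hs))]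
    rw [h3]
    rw [hS] at hH
    rcases hu with rfl | hu
    · exact ⟨1, one_mem _, by rw [map_one]⟩
    · exact PronA.final_conj h2 hns T hT hH hu
  · obtain ⟨u, hu, s, hs, rfl⟩ := hcop a ha
    obtain ⟨v, hv, t, ht, rfl⟩ := hcop b hb
    refine comm_mod (hsc u hu) (hsc v hv) ?_ hs ht
    rw [← map_mul, ← map_mul, hcomm u v hu hv]

/-- The case where 2 is a square. -/
theorem pn_sq [Finite F] (h2 : (2 : F) ≠ 0) (hs : IsSquare (2 : F)) : PN (GU n F) := by
  have := Fintype.ofFinite F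
  obtain ⟨T⟩ : Nonempty (Sylow 2 (Perm n)) := inferInstance
  -- a Sylow subgroup of `U F` containing `i`
  have hu4 : (uI : U F) * uI = nu := by
    apply Subtype.ext; show (qi : ℍ[F]) * qi = -1; exact qi_mul_qi
  have hz : IsPGroup 2 (Subgroup.zpowers (uI : U F)) := by
    rintro ⟨y, hy⟩
    obtain ⟨l, rfl⟩ := Subgroup.mem_zpowers_iff.1 hy
    refine ⟨2, Subtype.ext ?_⟩
    show ((uI : U F) ^ l) ^ 2 ^ 2 = 1
    rw [← zpow_natCast, ← _root_.zpow_mul, mul_comm, _root_.zpow_mul, zpow_natCast,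
      show 2 ^ 2 = 2 * 2 from rfl, pow_mul, pow_two uI, hu4, pow_two, nu_sq, _root_.one_zpow]
  obtain ⟨W, hW⟩ := hz.exists_le_sylow
  have hself : ∀ u : U F, (∀ w ∈ (W : Subgroup (U F)), u * w * u⁻¹ ∈ (W : Subgroup (U F))) →
      u ∈ (W : Subgroup (U F)) := by
    obtain ⟨e⟩ := exists_equivSL (F := F) h2
    have hodd : Odd (Fintype.card F) := by
      refine Nat.odd_iff.2 (FiniteField.odd_card_of_char_ne_two fun h => h2 ?_)
      have h0 := ringChar.Nat.cast_ringChar (R := F)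
      rw [h] at h0
      exact_mod_cast h0
    have h8 : Fintype.card F % 8 = 1 ∨ Fintype.card F % 8 = 7 := by
      have h3 := FiniteField.isSquare_two_iff.1 hs
      obtain ⟨l, hl⟩ := hodd
      omega
    intro u hu
    have h3 := (S2431.result hodd (W.mapSurjective (f := e.toMonoidHom) e.surjective)).2.1 h8
    have h4 : e u ∈ Subgroup.normalizer ((W.mapSurjective (f := e.toMonoidHom) e.surjective :
        Subgroup (Matrix.SpecialLinearGroup (Fin 2) F)) : Set _) := by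
      apply Subgroup.mem_normalizer_fintype
      rintro _ ⟨w, hw, rfl⟩
      refine ⟨u * w * u⁻¹, hu w hw, ?_⟩
      rw [map_mul, map_mul, map_inv]
      rfl
    rw [h3] at h4
    obtain ⟨w, hw, hwe⟩ := h4
    have h5 : w = u := e.injective hwe
    rw [← h5]; exact hw
  have hnorm := SG_self h2 T ⟨uI, hW (Subgroup.mem_zpowers _), hu4⟩ hself
  obtain ⟨S, hS⟩ := exists_sylow_eq (SG (W : Subgroup (U F)) (T : Subgroup (Perm n)))
    (SG_isPGroup W.isPGroup' T.isPGroup') (by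
      intro m hm _
      apply hnorm
      exact Subgroup.mem_normalizer_fintype hm)
  apply pn_of_selfNorm S
  rw [hS]
  exact hnorm

theorem pn_GU [Finite F] (h2 : (2 : F) ≠ 0) {k : ℕ} (hn : Fintype.card n = 2 ^ k) :
    PN (GU n F) := by
  by_cases hs : IsSquare (2 : F)
  · exact pn_sq h2 hs
  · exact pn_nonsq h2 hs hn

end Cfsg.Agent.H158.PronB
end
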