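import Mathlib.GroupTheory.Perm.Sign
import Mathlib.GroupTheory.Sylow
import Cfsg.Agent.H158.PronMat
import Mathlib.Tactic
import Cfsg.Agent.Blocks.CentralSylow
import Cfsg.Agent.H710.NormalCompl
import Cfsg.Agent.H94.Matching
set_option linter.all false

-- part: H158/PronMono
section
/-!
# Monomial unitary matrices over the quaternions (helper158)
-/

set_option autoImplicit false
set_option linter.unusedSectionVars false

namespace Cfsg.Agent.H158.PronMono

open Quaternion Matrix Equiv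
open Cfsg.Agent.H158.PronQ Cfsg.Agent.H158.PronMat

variable {F : Type*} [Field F] {n : Type*} [Fintype n] [DecidableEq n]

/-- The matrix `g` is monomial with permutation `σ`. -/
def Mono (g : Matrix n n ℍ[F]) (σ : Perm n) : Prop := ∀ a b, a ≠ σ b → g a b = 0

theorem Mono.mul_apply {g h : Matrix n n ℍ[F]} {τ : Perm n} (hh : Mono h τ)
    (a b : n) : (g * h) a b = g a (τ b) * h (τ b) b := by
  rw [Matrix.mul_apply]
  refine Finset.sum_eq_single (τ b) (fun c _ hc => ?_) (fun h => absurd (Finset.mem_univ _) h)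
  rw [hh c b hc, mul_zero]

theorem Mono.mul {g h : Matrix n n ℍ[F]} {σ τ : Perm n} (hg : Mono g σ) (hh : Mono h τ) :
    Mono (g * h) (σ * τ) := by
  intro a b hab
  rw [hh.mul_apply, hg a (τ b) hab, zero_mul]

theorem Mono.star {g : Matrix n n ℍ[F]} {σ : Perm n} (hg : Mono g σ) : Mono gᴴ σ⁻¹ := by
  intro a b hab
  rw [Matrix.conjTranspose_apply, hg b a (fun h => hab (by rw [h]; simp)), star_zero]

theorem Mono.one : Mono (1 : Matrix n n ℍ[F]) 1 := by
  intro a b hab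
  exact Matrix.one_apply_ne hab

theorem Mono.entry {g : GU n F} {σ : Perm n} (hg : Mono (g : Matrix n n ℍ[F]) σ) (b : n) :
    ∃ u : U F, (u : ℍ[F]) = (g : Matrix n n ℍ[F]) (σ b) b := by
  have h1 := congrFun (congrFun (star_mul_coe g) b) b
  rw [hg.mul_apply, Matrix.conjTranspose_apply, Matrix.one_apply_eq] at h1
  refine ⟨⟨(g : Matrix n n ℍ[F]) (σ b) b, ?_⟩, rfl⟩
  rw [mem_U]
  rw [star_mul_self] at h1
  exact Quaternion.coe_injective (by rw [h1]; rfl)

theorem U_ne_zero (u : U F) : (u : ℍ[F]) ≠ 0 := by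
  intro h
  have := normSq_U u
  rw [h, map_zero] at this
  exact zero_ne_one this

theorem Mono.unique {g : GU n F} {σ τ : Perm n} (hg : Mono (g : Matrix n n ℍ[F]) σ)
    (hg' : Mono (g : Matrix n n ℍ[F]) τ) : σ = τ := by
  ext b
  by_contra h
  obtain ⟨u, hu⟩ := hg.entry b
  rw [hg' (σ b) b h] at hu
  exact U_ne_zero u hu

/-- The standard basis vectors. -/
def e (b : n) : n → ℍ[F] := Pi.single b 1

theorem ip_e (b : n) (y : n → ℍ[F]) : ip (e b) y = y b := by
  unfold ip e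
  rw [Finset.sum_eq_single b]
  · rw [Pi.single_eq_same, star_one, one_mul]
  · intro c _ hc
    rw [Pi.single_eq_of_ne hc, star_zero, zero_mul]
  · intro h; exact absurd (Finset.mem_univ _) h

theorem ip_e_e (b : n) : ip (e b) (e b : n → ℍ[F]) = 1 := by
  rw [ip_e, e, Pi.single_eq_same]

theorem mulVec_e (g : Matrix n n ℍ[F]) (b : n) : g *ᵥ e b = fun a => g a b := by
  funext a
  rw [Matrix.mulVec, dotProduct, Finset.sum_eq_single b]
  · rw [e, Pi.single_eq_same, mul_one]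
  · intro c _ hc
    rw [e, Pi.single_eq_of_ne hc, mul_zero]
  · intro h; exact absurd (Finset.mem_univ _) h

theorem e_mul_apply (b a : n) (c : ℍ[F]) : (e b : n → ℍ[F]) a * c = if a = b then c else 0 := by
  by_cases h : a = b
  · rw [if_pos h, h, e, Pi.single_eq_same, one_mul]
  · rw [if_neg h, e, Pi.single_eq_of_ne h, zero_mul]

theorem Mono.mulVec_e {g : Matrix n n ℍ[F]} {σ : Perm n} (hg : Mono g σ) (b : n) :
    g *ᵥ e b = fun a => (e (σ b) : n → ℍ[F]) a * g (σ b) b := by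
  rw [PronMono.mulVec_e]
  funext a
  rw [e_mul_apply]
  split_ifs with h
  · rw [h]
  · exact hg a b h

/-- The norm one group acting on the `b`-th coordinate. -/
def Rj (b : n) : U F →* GU n F := R (e b) (ip_e_e b)

theorem Rj_apply (b : n) (h : U F) (c d : n) : ((Rj b h : GU n F) : Matrix n n ℍ[F]) c d =
    if c = d then (if c = b then (h : ℍ[F]) else 1) else 0 := by
  rw [Rj, coe_R, Matrix.add_apply, tv_apply, e_mul_apply]
  by_cases hcd : c = d
  · subst hcd
    rw [if_pos rfl, Matrix.one_apply_eq]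
    by_cases hcb : c = b
    · subst hcb
      rw [if_pos rfl, if_pos rfl, e, Pi.single_eq_same, star_one, mul_one, add_sub_cancel]
    · rw [if_neg hcb, if_neg hcb, zero_mul, add_zero]
  · rw [if_neg hcd, Matrix.one_apply_ne hcd]
    by_cases hcb : c = b
    · subst hcb
      rw [if_pos rfl, e, Pi.single_eq_of_ne (fun h => hcd h.symm), star_zero, mul_zero, add_zero]
    · rw [if_neg hcb, zero_mul, add_zero]

theorem Rj_mono (b : n) (h : U F) : Mono ((Rj b h : GU n F) : Matrix n n ℍ[F]) 1 := by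
  intro c d hcd
  rw [Rj_apply, if_neg (show ¬ c = d from hcd)]

theorem R_congr {x y : n → ℍ[F]} (hxy : x = y) (hx : ip x x = 1) (hy : ip y y = 1) (h : U F) :
    R x hx h = R y hy h := by subst hxy; rfl

theorem Mono.conj_Rj {g : GU n F} {σ : Perm n} (hg : Mono (g : Matrix n n ℍ[F]) σ) (b : n)
    {u : U F} (hu : (u : ℍ[F]) = (g : Matrix n n ℍ[F]) (σ b) b) (h : U F) :
    g * Rj b h * g⁻¹ = Rj (σ b) (u * h * u⁻¹) := by
  rw [Rj, R_conj g (e b) (ip_e_e b) (by rw [ip_act, ip_e_e])]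
  rw [R_congr (hg.mulVec_e b) _ (by rw [← hu]; exact ip_smul_unit (ip_e_e _) u)]
  rw [Rj, ← R_smul (e (σ b)) (ip_e_e _) u (ip_smul_unit (ip_e_e _) u)]
  exact R_congr (by rw [hu]) _ _ _

/-- The wreath product of `W` and `T`. -/
def SG (W : Subgroup (U F)) (T : Subgroup (Perm n)) : Subgroup (GU n F) where
  carrier := {g | ∃ σ ∈ T, Mono (g : Matrix n n ℍ[F]) σ ∧
    ∀ b, ∃ w ∈ W, (w : ℍ[F]) = (g : Matrix n n ℍ[F]) (σ b) b}
  one_mem' := by
    refine ⟨1, one_mem _, Mono.one, fun b => ⟨1, one_mem _, ?_⟩⟩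
    show (1 : ℍ[F]) = (1 : Matrix n n ℍ[F]) b b
    rw [Matrix.one_apply_eq]
  mul_mem' := by
    rintro g h ⟨σ, hσ, hg, hg'⟩ ⟨τ, hτ, hh, hh'⟩
    refine ⟨σ * τ, mul_mem hσ hτ, hg.mul hh, fun b => ?_⟩
    obtain ⟨w, hw, hwe⟩ := hg' (τ b)
    obtain ⟨v, hv, hve⟩ := hh' b
    refine ⟨w * v, mul_mem hw hv, ?_⟩
    rw [Submonoid.coe_mul, Submonoid.coe_mul, hh.mul_apply, hwe, hve]
    rfl
  inv_mem' := by
    rintro g ⟨σ, hσ, hg, hg'⟩
    refine ⟨σ⁻¹, inv_mem hσ, ?_, fun b => ?_⟩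
    · rw [coe_inv_GU]; exact hg.star
    · obtain ⟨w, hw, hwe⟩ := hg' (σ⁻¹ b)
      refine ⟨w⁻¹, inv_mem hw, ?_⟩
      rw [coe_inv_GU, Matrix.conjTranspose_apply, PronQ.coe_inv, hwe]
      simp

theorem mem_SG {W : Subgroup (U F)} {T : Subgroup (Perm n)} {g : GU n F} :
    g ∈ SG W T ↔ ∃ σ ∈ T, Mono (g : Matrix n n ℍ[F]) σ ∧
      ∀ b, ∃ w ∈ W, (w : ℍ[F]) = (g : Matrix n n ℍ[F]) (σ b) b := Iff.rfl

theorem Rj_mem {W : Subgroup (U F)} (T : Subgroup (Perm n)) (b : n) {w : U F} (hw : w ∈ W) :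
    Rj b w ∈ SG W T := by
  refine ⟨1, one_mem _, Rj_mono b w, fun c => ?_⟩
  rw [Perm.one_apply, Rj_apply, if_pos rfl]
  by_cases h : c = b
  · exact ⟨w, hw, by rw [if_pos h]⟩
  · exact ⟨1, one_mem _, by rw [if_neg h]; rfl⟩

theorem mem_of_Rj_mem {W : Subgroup (U F)} {T : Subgroup (Perm n)} {b : n} {w : U F}
    (hw : Rj b w ∈ SG W T) : w ∈ W := by
  obtain ⟨σ, -, hσ, hent⟩ := hw
  have h1 := hσ.unique (Rj_mono b w)
  subst h1
  obtain ⟨v, hv, hve⟩ := hent b
  rw [Perm.one_apply, Rj_apply, if_pos rfl, if_pos rfl] at hve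
  have : v = w := Subtype.ext hve
  rw [← this]; exact hv

/-- Permutation matrices. -/
def PM : Perm n →* GU n F where
  toFun σ := ⟨Matrix.of fun a b => if a = σ b then 1 else 0, by
    rw [mem_GU]
    constructor
    · ext1 a b
      rw [Matrix.mul_apply, Finset.sum_eq_single (σ b)]
      · simp only [Matrix.conjTranspose_apply, Matrix.of_apply, if_true, mul_one]
        by_cases hab : a = b
        · subst hab; rw [if_pos rfl, star_one, Matrix.one_apply_eq]
        · rw [if_neg (fun h => hab (σ.injective h.symm)), star_zero, Matrix.one_apply_ne hab]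
      · intro c _ hc
        simp only [Matrix.conjTranspose_apply, Matrix.of_apply]
        rw [if_neg hc, mul_zero]
      · intro h; exact absurd (Finset.mem_univ _) h
    · ext1 a b
      rw [Matrix.mul_apply, Finset.sum_eq_single (σ⁻¹ a)]
      · simp only [Matrix.conjTranspose_apply, Matrix.of_apply]
        by_cases hab : a = b
        · subst hab; simp
        · have h1 : b ≠ σ (σ⁻¹ a) := by simpa using fun h => hab h.symm
          rw [if_neg h1, star_zero, mul_zero, Matrix.one_apply_ne hab]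
      · intro c _ hc
        simp only [Matrix.conjTranspose_apply, Matrix.of_apply]
        have h1 : a ≠ σ c := fun h => hc (by rw [h]; simp)
        rw [if_neg h1, zero_mul]
      · intro h; exact absurd (Finset.mem_univ _) h⟩
  map_one' := by
    apply Subtype.ext
    ext1 a b
    show (if a = (1 : Perm n) b then (1 : ℍ[F]) else 0) = (1 : Matrix n n ℍ[F]) a b
    rw [Perm.one_apply, Matrix.one_apply]
  map_mul' := by
    intro σ τ
    apply Subtype.ext
    ext1 a b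
    show (if a = (σ * τ) b then (1 : ℍ[F]) else 0) = ((Matrix.of fun a b => if a = σ b then 1 else 0) *
      (Matrix.of fun a b => if a = τ b then 1 else 0) : Matrix n n ℍ[F]) a b
    rw [Matrix.mul_apply, Finset.sum_eq_single (τ b)]
    · simp only [Matrix.of_apply, if_true, mul_one, Perm.mul_apply]
      congr
    · intro c _ hc
      simp only [Matrix.of_apply]
      rw [if_neg hc, mul_zero]
    · intro h; exact absurd (Finset.mem_univ _) h

theorem PM_apply (σ : Perm n) (a b : n) : ((PM σ : GU n F) : Matrix n n ℍ[F]) a b =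
    if a = σ b then 1 else 0 := rfl

theorem PM_mono (σ : Perm n) : Mono ((PM σ : GU n F) : Matrix n n ℍ[F]) σ := by
  intro a b hab
  rw [PM_apply, if_neg hab]

theorem PM_mem (W : Subgroup (U F)) {T : Subgroup (Perm n)} {σ : Perm n} (hσ : σ ∈ T) :
    PM σ ∈ SG W T :=
  ⟨σ, hσ, PM_mono σ, fun b => ⟨1, one_mem _, by rw [PM_apply, if_pos rfl]; rfl⟩⟩

/-- Scalar matrices. -/
def sc : U F →* GU n F where
  toFun u := ⟨Matrix.diagonal fun _ => (u : ℍ[F]), by
    rw [mem_GU, Matrix.diagonal_conjTranspose, Matrix.diagonal_mul_diagonal,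
      Matrix.diagonal_mul_diagonal]
    constructor
    · rw [← Matrix.diagonal_one]
      congr 1
      funext a
      exact Unitary.coe_star_mul_self u
    · rw [← Matrix.diagonal_one]
      congr 1
      funext a
      exact Unitary.coe_mul_star_self u⟩
  map_one' := Subtype.ext Matrix.diagonal_one
  map_mul' := fun u v => Subtype.ext (Matrix.diagonal_mul_diagonal _ _).symm

theorem coe_sc (u : U F) : ((sc u : GU n F) : Matrix n n ℍ[F]) = Matrix.diagonal fun _ => (u : ℍ[F]) :=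
  rfl

theorem sc_mul_apply (u : U F) (g : GU n F) (a b : n) :
    ((sc u * g : GU n F) : Matrix n n ℍ[F]) a b = u * (g : Matrix n n ℍ[F]) a b := by
  rw [Submonoid.coe_mul, coe_sc, Matrix.diagonal_mul]

theorem mul_sc_apply (u : U F) (g : GU n F) (a b : n) :
    ((g * sc u : GU n F) : Matrix n n ℍ[F]) a b = (g : Matrix n n ℍ[F]) a b * u := by
  rw [Submonoid.coe_mul, coe_sc, Matrix.mul_diagonal]

theorem SG_isPGroup [Finite F] {W : Subgroup (U F)} {T : Subgroup (Perm n)} (hW : IsPGroup 2 W)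
    (hT : IsPGroup 2 T) : IsPGroup 2 (SG W T) := by
  rintro ⟨g, σ, hσ, hg, hent⟩
  obtain ⟨k, hk⟩ := hT ⟨σ, hσ⟩
  have hk' : σ ^ 2 ^ k = 1 := congrArg Subtype.val hk
  obtain ⟨l, hl⟩ := IsPGroup.iff_card.1 hW
  -- powers of `g` are monomial
  have hgS : g ∈ SG W T := ⟨σ, hσ, hg, hent⟩
  have hpow : ∀ j : ℕ, Mono ((g ^ j : GU n F) : Matrix n n ℍ[F]) (σ ^ j) := by
    intro j
    induction j with
    | zero => rw [pow_zero, pow_zero]; exact Mono.one
    | succ j ih => rw [pow_succ, pow_succ, Submonoid.coe_mul]; exact ih.mul hg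
  obtain ⟨τ, hτ, hd, hdent⟩ := pow_mem hgS (2 ^ k)
  have hd1 := hpow (2 ^ k)
  rw [hk'] at hd1
  have := hd.unique hd1
  subst this
  set d := g ^ 2 ^ k with hdd
  choose w hw hwe using hdent
  have hdpow : ∀ j : ℕ, Mono ((d ^ j : GU n F) : Matrix n n ℍ[F]) 1 ∧
      ∀ b, ((d ^ j : GU n F) : Matrix n n ℍ[F]) b b = ((w b ^ j : U F) : ℍ[F]) := by
    intro j
    induction j with
    | zero =>
      refine ⟨by rw [pow_zero]; exact Mono.one, fun b => ?_⟩
      rw [pow_zero, pow_zero]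
      exact Matrix.one_apply_eq b
    | succ j ih =>
      refine ⟨?_, fun b => ?_⟩
      · rw [pow_succ, Submonoid.coe_mul]
        have := ih.1.mul hd
        rwa [mul_one] at this
      · rw [pow_succ, pow_succ, Submonoid.coe_mul, hd.mul_apply]
        have h1 := hwe b
        rw [Perm.one_apply] at h1
        rw [Perm.one_apply, ih.2 b, ← h1]
        rfl
  refine ⟨k + l, Subtype.ext ?_⟩
  show g ^ 2 ^ (k + l) = 1
  rw [pow_add, pow_mul, ← hdd]
  apply Subtype.ext
  ext1 a b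
  show _ = (1 : Matrix n n ℍ[F]) a b
  obtain ⟨h1, h3⟩ := hdpow (2 ^ l)
  by_cases hab : a = b
  · subst hab
    have h4 : w a ^ 2 ^ l = 1 := by
      rw [← hl]
      have : (⟨w a, hw a⟩ : W) ^ Nat.card W = 1 := pow_card_eq_one'
      exact congrArg Subtype.val this
    rw [h3, h4, Matrix.one_apply_eq]; rfl
  · rw [h1 a b hab, Matrix.one_apply_ne hab]

end Cfsg.Agent.H158.PronMono
end

-- part: H158/PronOdd
section
/-!
# Elements of odd order in groups with a central Sylow 2-subgroup (helper158)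
-/

set_option autoImplicit false

namespace Cfsg.Agent.H158.PronOdd

open Subgroup

/-- If the only 2-elements of `N` are `1` and a central element `c` with `c² = 1`, then the
elements of odd order of `N` form a subgroup `O`, and `N ⊆ O ∪ c O`. -/
theorem odd_part {G : Type*} [Group G] [Finite G] (N : Subgroup G) (c : G) (hcc : c * c = 1)
    (hc : ∀ x : G, c * x = x * c) (h2 : ∀ n ∈ N, (∃ k : ℕ, n ^ 2 ^ k = 1) → n = 1 ∨ n = c) :
    ∃ O : Subgroup G, (∀ e, e ∈ O ↔ e ∈ N ∧ Odd (orderOf e)) ∧ ∀ n ∈ N, n ∈ O ∨ c * n ∈ O := by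
  obtain ⟨P⟩ : Nonempty (Sylow 2 N) := inferInstance
  have hP : (P : Subgroup N) ≤ Subgroup.center N := by
    intro x hx
    rw [Subgroup.mem_center_iff]
    intro y
    apply Subtype.ext
    obtain ⟨k, hk⟩ := P.isPGroup' ⟨x, hx⟩
    have hk' : (x : G) ^ 2 ^ k = 1 := congrArg (fun z : (P : Subgroup N) => ((z : N) : G)) hk
    rcases h2 x x.2 ⟨k, hk'⟩ with h | h
    · show (y : G) * x = x * y
      rw [h]; simp
    · show (y : G) * x = x * y
      rw [h]; exact (hc _).symm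
  obtain ⟨K, -, -, -, hK⟩ := Cfsg.Agent.Blocks.CentralSylow.exists_complement P hP
  have hO : ∀ e, e ∈ K.map N.subtype ↔ e ∈ N ∧ Odd (orderOf e) := by
    intro e
    constructor
    · rintro ⟨x, hx, rfl⟩
      refine ⟨x.2, ?_⟩
      have h1 := (hK x).1 hx
      rw [← Nat.not_even_iff_odd, even_iff_two_dvd]
      rwa [← Subgroup.orderOf_coe] at h1
    · rintro ⟨he, ho⟩
      refine ⟨⟨e, he⟩, (hK _).2 ?_, rfl⟩
      rw [← Subgroup.orderOf_coe, ← even_iff_two_dvd, Nat.not_even_iff_odd]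
      exact ho
  refine ⟨K.map N.subtype, hO, fun n hn => ?_⟩
  have hpos : 0 < orderOf n := orderOf_pos n
  obtain ⟨a, m, hm, ham⟩ := Nat.exists_eq_two_pow_mul_odd hpos.ne'
  rcases Nat.eq_zero_or_pos a with h0 | h0
  · left
    rw [hO]
    refine ⟨hn, ?_⟩
    rw [ham, h0, pow_zero, one_mul]; exact hm
  · right
    have h3 : (n ^ m) ^ 2 ^ a = 1 := by
      rw [← pow_mul, mul_comm, ← ham, pow_orderOf_eq_one]
    have h4 : n ^ m ≠ 1 := by
      intro h5
      have h6 := orderOf_dvd_of_pow_eq_one h5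
      rw [ham] at h6
      have h7 : 2 ∣ m := (dvd_mul_of_dvd_left (dvd_pow_self 2 h0.ne') m).trans h6
      exact (Nat.not_even_iff_odd.2 hm) (even_iff_two_dvd.2 h7)
    have h5 : n ^ m = c := (h2 _ (pow_mem hn m) ⟨a, h3⟩).resolve_left h4
    have hcN : c ∈ N := h5 ▸ pow_mem hn m
    rw [hO]
    refine ⟨mul_mem hcN hn, ?_⟩
    have h6 : (c * n) ^ m = 1 := by
      have hcm : Commute c n := hc n
      rw [hcm.mul_pow, h5]
      obtain ⟨l, rfl⟩ := hm
      rw [pow_succ, pow_mul, pow_two, hcc, one_pow, one_mul, hcc]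
    exact Odd.of_dvd_nat hm (orderOf_dvd_of_pow_eq_one h6)

/-- A finite group with a self-normalizing Sylow 2-subgroup `Q` whose commutators lie in
`{1, c}`, with `c` central, has a normal 2-complement. -/
theorem odd_core {R : Type*} [Group R] [Finite R] (Q : Sylow 2 R) (c : R) (hcc : c * c = 1)
    (hc : ∀ x : R, c * x = x * c) (hcQ : c ∈ (Q : Subgroup R)) {e : ℕ}
    (hQe : ∀ v ∈ (Q : Subgroup R), v ^ 2 ^ e = 1)
    (hself : normalizer ((Q : Subgroup R) : Set R) ≤ Q)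
    (hcomm : ∀ x ∈ (Q : Subgroup R), ∀ y ∈ (Q : Subgroup R),
      x * y * x⁻¹ * y⁻¹ = 1 ∨ x * y * x⁻¹ * y⁻¹ = c) :
    ∃ A : Subgroup R, (∀ x, x ∈ A ↔ Odd (orderOf x)) ∧
      ∀ x, ∃ a ∈ A, ∃ v ∈ (Q : Subgroup R), x = a * v := by
  let M : Subgroup R :=
    { carrier := {x | x = 1 ∨ x = c}
      one_mem' := Or.inl rfl
      mul_mem' := by
        rintro a b (rfl | rfl) (rfl | rfl)
        · left; simp
        · right; simp
        · right; simp
        · left; exact hcc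
      inv_mem' := by
        rintro a (rfl | rfl)
        · left; simp
        · right; exact inv_eq_of_mul_eq_one_left hcc }
  have hMmem : ∀ x, x ∈ M ↔ x = 1 ∨ x = c := fun x => Iff.rfl
  have hMn : M.Normal := by
    refine ⟨fun n hn g => ?_⟩
    rcases hn with rfl | rfl
    · left; simp
    · right; rw [← hc g]; simp
  obtain ⟨K, hKn, hKQ, hKM⟩ := Cfsg.Agent.H710.NormalCompl.exists_normal_sup_inf Q M hself hcomm
  have h2 : ∀ n ∈ K, (∃ k : ℕ, n ^ 2 ^ k = 1) → n = 1 ∨ n = c := by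
    rintro n hn ⟨k, hk⟩
    have hpg : IsPGroup 2 (Subgroup.zpowers n) := by
      rintro ⟨x, hx⟩
      obtain ⟨l, rfl⟩ := Subgroup.mem_zpowers_iff.1 hx
      refine ⟨k, Subtype.ext ?_⟩
      show (n ^ l) ^ 2 ^ k = 1
      rw [← zpow_natCast, ← zpow_mul, mul_comm, zpow_mul, zpow_natCast, hk, one_zpow]
    obtain ⟨Q', hQ'⟩ := hpg.exists_le_sylow
    obtain ⟨g, hg⟩ := MulAction.exists_smul_eq R Q' Q
    have h3 : g * n * g⁻¹ ∈ (Q : Subgroup R) := by
      rw [← hg, Sylow.coe_subgroup_smul, Subgroup.mem_pointwise_smul_iff_inv_smul_mem]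
      have h0 : (MulAut.conj g)⁻¹ • (g * n * g⁻¹) = n := by
        rw [← map_inv, MulAut.smul_def, MulAut.conj_apply, inv_inv]
        group
      rw [h0]
      exact hQ' (Subgroup.mem_zpowers n)
    have h4 : g * n * g⁻¹ ∈ M := hKM ⟨hKn.conj_mem n hn g, h3⟩
    have h5 := hMn.conj_mem _ h4 g⁻¹
    have h6 : g⁻¹ * (g * n * g⁻¹) * g⁻¹⁻¹ = n := by group
    rw [h6] at h5
    exact h5
  obtain ⟨O, hO, hKO⟩ := odd_part K c hcc hc h2
  have hdec : ∀ x : R, ∃ k ∈ K, ∃ v ∈ (Q : Subgroup R), x = k * v := by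
    intro x
    have hx : x ∈ K ⊔ (Q : Subgroup R) := by rw [hKQ]; trivial
    rw [Subgroup.mem_sup_of_normal_left] at hx
    obtain ⟨k, hk, v, hv, he⟩ := hx
    exact ⟨k, hk, v, hv, he.symm⟩
  have hoddK : ∀ x : R, Odd (orderOf x) → x ∈ K := by
    intro x hx
    obtain ⟨k, hk, v, hv, he⟩ := hdec x
    have h3 : (QuotientGroup.mk' K) (x ^ 2 ^ e) = 1 := by
      have hk1 : (QuotientGroup.mk' K) k = 1 := (QuotientGroup.eq_one_iff _).2 hk
      rw [map_pow, he, map_mul, hk1, one_mul, ← map_pow, hQe v hv, map_one]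
    have h4 : x ^ 2 ^ e ∈ K := (QuotientGroup.eq_one_iff _).1 h3
    have h5 : Nat.Coprime (orderOf x) (2 ^ e) :=
      Nat.Coprime.pow_right e (Nat.coprime_two_right.2 hx)
    have h6 : x = (x ^ 2 ^ e) ^ ((orderOf x).gcdB (2 ^ e)) := by
      have h7 : x ^ (((orderOf x : ℕ) : ℤ) * (orderOf x).gcdA (2 ^ e) +
          ((2 ^ e : ℕ) : ℤ) * (orderOf x).gcdB (2 ^ e)) = x := by
        rw [← Nat.gcd_eq_gcd_ab, h5.gcd_eq_one]; simp
      rw [zpow_add, zpow_mul, zpow_natCast, pow_orderOf_eq_one, one_zpow, one_mul, zpow_mul,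
        zpow_natCast] at h7
      exact h7.symm
    rw [h6]
    exact zpow_mem h4 _
  refine ⟨O, fun x => ?_, fun x => ?_⟩
  · rw [hO]
    exact ⟨fun h => h.2, fun h => ⟨hoddK x h, h⟩⟩
  · obtain ⟨k, hk, v, hv, rfl⟩ := hdec x
    rcases hKO k hk with h | h
    · exact ⟨k, h, v, hv, rfl⟩
    · refine ⟨c * k, h, c * v, mul_mem hcQ hv, ?_⟩
      rw [mul_assoc, ← mul_assoc k, ← hc k, mul_assoc c k v, ← mul_assoc, ← mul_assoc, hcc,
        one_mul]

end Cfsg.Agent.H158.PronOdd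
end

-- part: H158/PronFrame
section
/-!
# The frame of a monomial Sylow 2-subgroup (helper158)
-/

set_option autoImplicit false
set_option linter.unusedSectionVars false

namespace Cfsg.Agent.H158.PronFrame

open Quaternion Matrix Equiv
open Cfsg.Agent.H158.PronQ Cfsg.Agent.H158.PronMat Cfsg.Agent.H158.PronMono

variable {F : Type*} [Field F] {n : Type*} [Fintype n] [DecidableEq n]

theorem mul_eq_zero_left {q y : ℍ[F]} (hq : normSq q ≠ 0) (h : q * y = 0) : y = 0 := by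
  have h1 : normSq q • y = 0 := by
    rw [← Quaternion.coe_mul_eq_smul, ← star_mul_self, mul_assoc, h, mul_zero]
  exact (smul_eq_zero.1 h1).resolve_left hq

theorem mul_eq_zero_right {q y : ℍ[F]} (hq : normSq q ≠ 0) (h : y * q = 0) : y = 0 := by
  have h1 : normSq q • y = 0 := by
    rw [← Quaternion.mul_coe_eq_smul, ← self_mul_star, ← mul_assoc, h, zero_mul]
  exact (smul_eq_zero.1 h1).resolve_left hq

/-- The quaternion `-1`. -/
def nu : U F := -1

theorem coe_nu : ((nu : U F) : ℍ[F]) = -1 := rfl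

theorem nu_sq : (nu : U F) * nu = 1 := by apply Subtype.ext; simp [nu]

theorem rf_apply (x : n → ℍ[F]) (hx : ip x x = 1) (a b : n) :
    (R x hx nu).1 a b =
      (1 : Matrix n n ℍ[F]) a b - 2 * (x a * star (x b)) := by
  rw [coe_R, Matrix.add_apply, tv_apply]
  rw [coe_nu]
  noncomm_ring

theorem two_ne (h2 : (2 : F) ≠ 0) {q : ℍ[F]} (h : 2 * q = 0) : q = 0 := by
  have h1 : (2 : F) • q = 0 := by
    rw [← Quaternion.coe_mul_eq_smul]
    exact h
  exact (smul_eq_zero.1 h1).resolve_left h2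

theorem sum_normSq {x : n → ℍ[F]} (hx : ip x x = 1) : ∑ a, normSq (x a) = 1 := by
  have h1 := congrArg QuaternionAlgebra.re hx
  have h3 : ip x x = ((∑ a, normSq (x a) : F) : ℍ[F]) := by
    unfold ip
    simp only [star_mul_self]
    exact (map_sum (algebraMap F ℍ[F]) _ _).symm
  rw [h3] at hx
  exact Quaternion.coe_injective (by rw [hx]; rfl)

/-- The reflections `1 - 2 x x*` lying in a wreath product. -/
theorem rf_mem_SG (h2 : (2 : F) ≠ 0) {W : Subgroup (U F)} {T : Subgroup (Perm n)}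
    {x : n → ℍ[F]} {hx : ip x x = 1} (h : R x hx nu ∈ SG W T) :
    (∃ j, ∀ a, a ≠ j → x a = 0) ∨
    ∃ a b, a ≠ b ∧ swap a b ∈ T ∧ Mono (R x hx nu).1 (swap a b) ∧
      (∀ c, c ≠ a → c ≠ b → x c = 0) ∧ 2 * normSq (x b) = 1 ∧
      ∃ w ∈ W, x a = -((w : ℍ[F]) * x b) := by
  obtain ⟨σ, hσ, hmono, hent⟩ := h
  by_cases h1 : σ = 1
  · left
    subst h1
    obtain ⟨a, -, ha⟩ : ∃ a ∈ Finset.univ, normSq (x a) ≠ 0 := by
      by_contra hcon
      push Not at hcon
      have := sum_normSq hx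
      rw [Finset.sum_eq_zero hcon] at this
      exact zero_ne_one this
    refine ⟨a, fun b hb => ?_⟩
    have h3 := hmono b a hb
    rw [rf_apply, Matrix.one_apply_ne hb, zero_sub, neg_eq_zero] at h3
    have h4 := two_ne h2 h3
    have h5 : normSq (star (x a)) ≠ 0 := by rw [normSq_star]; exact ha
    exact mul_eq_zero_right h5 h4
  · right
    obtain ⟨b, hb⟩ : ∃ b, σ b ≠ b := by
      by_contra hcon
      push Not at hcon
      exact h1 (Perm.ext hcon)
    have hbb : (2 : F) * normSq (x b) = 1 := by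
      have h3 := hmono b b (fun h => hb h.symm)
      rw [rf_apply, Matrix.one_apply_eq, self_mul_star, sub_eq_zero] at h3
      have h4 : ((2 * normSq (x b) : F) : ℍ[F]) = 1 := by
        rw [Quaternion.coe_mul]; exact h3.symm
      exact Quaternion.coe_injective (by rw [h4]; rfl)
    have hNb : normSq (x b) ≠ 0 := by
      intro h0; rw [h0, mul_zero] at hbb; exact zero_ne_one hbb
    have hNb' : normSq (star (x b)) ≠ 0 := by rw [normSq_star]; exact hNb
    have hzero : ∀ c, c ≠ σ b → c ≠ b → x c = 0 := by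
      intro c hc hcb
      have h3 := hmono c b hc
      rw [rf_apply, Matrix.one_apply_ne hcb, zero_sub, neg_eq_zero] at h3
      exact mul_eq_zero_right hNb' (two_ne h2 h3)
    obtain ⟨w, hw, hwe⟩ := hent b
    have hxa : x (σ b) = -((w : ℍ[F]) * x b) := by
      rw [hwe, rf_apply, Matrix.one_apply_ne hb, zero_sub, neg_mul, neg_neg, mul_assoc,
        mul_assoc, star_mul_self]
      rw [Quaternion.mul_coe_eq_smul]
      have h3 : (2 : ℍ[F]) * (normSq (x b) • x (σ b)) = (2 * normSq (x b)) • x (σ b) := by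
        rw [mul_smul, ← Quaternion.coe_mul_eq_smul 2]
        rfl
      rw [h3, hbb, one_smul]
    have hσ' : σ = swap (σ b) b := by
      have hfix : ∀ c, c ≠ σ b → c ≠ b → σ c = c := by
        intro c hc hcb
        by_contra hne
        have h3 := hmono c c (fun h => hne h.symm)
        rw [rf_apply, hzero c hc hcb, zero_mul, mul_zero, sub_zero, Matrix.one_apply_eq] at h3
        exact one_ne_zero h3
      ext c
      by_cases hc : c = σ b
      · subst hc
        rw [swap_apply_left]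
        by_contra hne
        have h3 : σ (σ b) ≠ σ b := fun h => hb (σ.injective h)
        have h4 := hfix (σ (σ b)) h3 hne
        exact h3 (σ.injective h4)
      · by_cases hcb : c = b
        · subst hcb; rw [swap_apply_right]
        · rw [swap_apply_of_ne_of_ne hc hcb, hfix c hc hcb]
    refine ⟨σ b, b, hb, hσ' ▸ hσ, hσ' ▸ hmono, hzero, hbb, w, hw, hxa⟩

theorem sq_ne_swap {σ : Perm n} {a b : n} (hab : a ≠ b) : σ * σ ≠ swap a b := by
  intro h
  have h1 := congrArg Perm.sign h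
  rw [Perm.sign_mul, Perm.sign_swap hab] at h1
  rcases Int.units_eq_one_or (Perm.sign σ) with h3 | h3 <;> rw [h3] at h1 <;> exact absurd h1 (by decide)

/-- An element normalizing the wreath product is monomial. -/
theorem exists_mono (h2 : (2 : F) ≠ 0) {W : Subgroup (U F)} {T : Subgroup (Perm n)}
    (hW : ∃ w₀ ∈ W, w₀ * w₀ = nu) {g : GU n F} (hg : ∀ s ∈ SG W T, g * s * g⁻¹ ∈ SG W T) :
    ∃ σ : Perm n, Mono g.1 σ := by
  obtain ⟨w₀, hw₀, hw₀2⟩ := hW
  have h1 : ∀ b, ∃ j, ∀ a, a ≠ j → g.1 a b = 0 := by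
    intro b
    have hx : ip (g.1 *ᵥ e b) (g.1 *ᵥ e b) = 1 := by rw [ip_act, ip_e_e]
    have hz : R (g.1 *ᵥ e b) hx nu = (g * Rj b w₀ * g⁻¹) * (g * Rj b w₀ * g⁻¹) := by
      rw [← R_conj g (e b) (ip_e_e b) hx nu, ← hw₀2]
      show g * Rj b (w₀ * w₀) * g⁻¹ = _
      rw [map_mul]; group
    have hy := hg _ (Rj_mem T b hw₀)
    have hzS : R (g.1 *ᵥ e b) hx nu ∈ SG W T := by rw [hz]; exact mul_mem hy hy
    rcases rf_mem_SG h2 hzS with ⟨j, hj⟩ | ⟨a, c, hac, -, hm, -⟩
    · refine ⟨j, fun a ha => ?_⟩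
      have := hj a ha
      rwa [PronMono.mulVec_e] at this
    · exfalso
      obtain ⟨τ, -, hτ, -⟩ := hy
      have hm' : Mono (R (g.1 *ᵥ e b) hx nu).1 (τ * τ) := by
        rw [hz]; exact hτ.mul hτ
      exact sq_ne_swap hac (hm'.unique hm)
  choose σ hσ using h1
  have hN : ∀ b c, ip (g.1 *ᵥ e b) (g.1 *ᵥ e c) = star (g.1 (σ b) b) * g.1 (σ b) c := by
    intro b c
    rw [PronMono.mulVec_e, PronMono.mulVec_e]
    unfold ip
    refine Finset.sum_eq_single (σ b) (fun a _ ha => ?_) (fun h => absurd (Finset.mem_univ _) h)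
    show star (g.1 a b) * g.1 a c = 0
    rw [hσ b a ha, star_zero, zero_mul]
  have hinj : Function.Injective σ := by
    intro b c hbc
    by_contra hne
    have h3 := hN b b
    rw [ip_act, ip_e_e] at h3
    have h4 := hN b c
    rw [ip_act, ip_e, e, Pi.single_eq_of_ne hne] at h4
    have h5 : normSq (star (g.1 (σ b) b)) ≠ 0 := by
      intro h0
      have h6 := congrArg normSq h3
      rw [map_mul, h0, zero_mul, map_one] at h6
      exact one_ne_zero h6
    have h6 := mul_eq_zero_left h5 h4.symm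
    have h7 := hN c c
    rw [ip_act, ip_e_e, ← hbc, h6, mul_zero] at h7
    exact one_ne_zero h7
  refine ⟨Equiv.ofBijective σ (Finite.injective_iff_bijective.1 hinj), fun a b hab => ?_⟩
  exact hσ b a hab

/-- The normalizer of the wreath product. -/
theorem norm_mono (h2 : (2 : F) ≠ 0) {W : Subgroup (U F)} (T : Sylow 2 (Perm n))
    (hW : ∃ w₀ ∈ W, w₀ * w₀ = nu) {g : GU n F}
    (hg : g ∈ Subgroup.normalizer ((SG W (T : Subgroup (Perm n)) : Subgroup (GU n F)) : Set (GU n F))) :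
    ∃ σ ∈ (T : Subgroup (Perm n)), Mono g.1 σ ∧
      ∀ b (u : U F), (u : ℍ[F]) = g.1 (σ b) b → ∀ w ∈ W, u * w * u⁻¹ ∈ W := by
  have hg1 : ∀ s ∈ SG W (T : Subgroup (Perm n)), g * s * g⁻¹ ∈ SG W (T : Subgroup (Perm n)) :=
    fun s hs => (Subgroup.mem_normalizer_iff.1 hg s).1 hs
  have hg2 : ∀ s ∈ SG W (T : Subgroup (Perm n)), g⁻¹ * s * g ∈ SG W (T : Subgroup (Perm n)) :=
    fun s hs => (Subgroup.mem_normalizer_iff.1 hg _).2 (by
      have : g * (g⁻¹ * s * g) * g⁻¹ = s := by group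
      rw [this]; exact hs)
  obtain ⟨σ, hσ⟩ := exists_mono h2 hW hg1
  have hσi : Mono (g⁻¹).1 σ⁻¹ := by
    have := hσ.star
    rwa [← coe_inv_GU] at this
  have hconj : ∀ τ ∈ (T : Subgroup (Perm n)), σ * τ * σ⁻¹ ∈ (T : Subgroup (Perm n)) := by
    intro τ hτ
    obtain ⟨ρ, hρ, hρm, -⟩ := hg1 _ (PM_mem (F := F) W hτ)
    have h3 : Mono (g * PM τ * g⁻¹).1 (σ * τ * σ⁻¹) := (hσ.mul (PM_mono τ)).mul hσi
    rw [← h3.unique hρm] at hρ
    exact hρ
  have hconj' : ∀ τ ∈ (T : Subgroup (Perm n)), σ⁻¹ * τ * σ ∈ (T : Subgroup (Perm n)) := by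
    intro τ hτ
    obtain ⟨ρ, hρ, hρm, -⟩ := hg2 _ (PM_mem (F := F) W hτ)
    have h3 : Mono (g⁻¹ * PM τ * g).1 (σ⁻¹ * τ * σ) := (hσi.mul (PM_mono τ)).mul hσ
    rw [← h3.unique hρm] at hρ
    exact hρ
  have hσT : σ ∈ (T : Subgroup (Perm n)) := by
    apply Cfsg.Agent.H94.Syl2Sym.sym_selfNorm T
    rw [Subgroup.mem_normalizer_iff]
    intro τ
    refine ⟨fun h => hconj τ h, fun h => ?_⟩
    have := hconj' _ h
    have h3 : σ⁻¹ * (σ * τ * σ⁻¹) * σ = τ := by group
    rwa [h3] at this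
  refine ⟨σ, hσT, hσ, fun b u hu w hw => ?_⟩
  have h3 := hg1 _ (Rj_mem (T : Subgroup (Perm n)) b hw)
  rw [hσ.conj_Rj b hu] at h3
  exact mem_of_Rj_mem h3

/-- The wreath product of a self-normalizing `W` is self-normalizing. -/
theorem SG_self (h2 : (2 : F) ≠ 0) {W : Subgroup (U F)} (T : Sylow 2 (Perm n))
    (hW : ∃ w₀ ∈ W, w₀ * w₀ = nu) (hself : ∀ u : U F, (∀ w ∈ W, u * w * u⁻¹ ∈ W) → u ∈ W) :
    Subgroup.normalizer ((SG W (T : Subgroup (Perm n)) : Subgroup (GU n F)) : Set (GU n F)) ≤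
      SG W (T : Subgroup (Perm n)) := by
  intro g hg
  obtain ⟨σ, hσT, hσ, hu⟩ := norm_mono h2 T hW hg
  refine ⟨σ, hσT, hσ, fun b => ?_⟩
  obtain ⟨u, hue⟩ := hσ.entry b
  exact ⟨u, hself u (hu b u hue), hue⟩

/-- The normalizer of the wreath product of `Q8` and a transitive 2-group. -/
theorem norm_SG_Q8 (h2 : (2 : F) ≠ 0) (hns : ¬ IsSquare (2 : F)) (T : Sylow 2 (Perm n))
    (hT : ∀ a b : n, ∃ τ ∈ (T : Subgroup (Perm n)), τ a = b) {g : GU n F}
    (hg : g ∈ Subgroup.normalizer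
      ((SG (Q8 F) (T : Subgroup (Perm n)) : Subgroup (GU n F)) : Set (GU n F))) :
    g ∈ SG (Q8 F) (T : Subgroup (Perm n)) ∨ (sc (om h2))⁻¹ * g ∈ SG (Q8 F) (T : Subgroup (Perm n)) ∨
      sc (om h2) * g ∈ SG (Q8 F) (T : Subgroup (Perm n)) := by
  obtain ⟨σ, hσT, hσ, hu⟩ := norm_mono h2 T ⟨uI, uI_mem, by
    apply Subtype.ext; show (qi : ℍ[F]) * qi = -1; exact qi_mul_qi⟩ hg
  choose u hue using fun b => hσ.entry b
  have hun : ∀ b, ∀ w ∈ Q8 F, u b * w * (u b)⁻¹ ∈ Q8 F := fun b => hu b (u b) (hue b)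
  -- the cosets of the entries agree
  have hstep : ∀ τ ∈ (T : Subgroup (Perm n)), ∀ b, u (τ b) * (u b)⁻¹ ∈ Q8 F := by
    intro τ hτ b
    have h3 := (Subgroup.mem_normalizer_iff.1 hg _).1 (PM_mem (F := F) (Q8 F) hτ)
    obtain ⟨ρ, hρ, hρm, hρe⟩ := h3
    have hσi : Mono (g⁻¹).1 σ⁻¹ := by
      have := hσ.star
      rwa [← coe_inv_GU] at this
    have h4 : Mono (g * PM τ * g⁻¹).1 (σ * τ * σ⁻¹) := (hσ.mul (PM_mono τ)).mul hσi
    have h5 := hρm.unique h4
    subst h5
    obtain ⟨w, hw, hwe⟩ := hρe (σ b)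
    have h6 : (σ * τ * σ⁻¹) (σ b) = σ (τ b) := by simp
    rw [h6] at hwe
    have h7 : (g * PM τ * g⁻¹).1 (σ (τ b)) (σ b) = g.1 (σ (τ b)) (τ b) * star (g.1 (σ b) b) := by
      have h8 : (g * PM τ * g⁻¹).1 = (g.1 * (PM τ : GU n F).1) * (g⁻¹).1 := rfl
      rw [h8, hσi.mul_apply, coe_inv_GU, Matrix.conjTranspose_apply, (PM_mono τ).mul_apply]
      have h9 : σ⁻¹ (σ b) = b := by simp
      rw [h9, PM_apply, if_pos rfl, mul_one]
    rw [h7, ← hue, ← hue, ← PronQ.coe_inv] at hwe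
    have h10 : w = u (τ b) * (u b)⁻¹ := Subtype.ext hwe
    rw [← h10]; exact hw
  have hall : ∀ a b, u b * (u a)⁻¹ ∈ Q8 F := by
    intro a b
    obtain ⟨τ, hτ, rfl⟩ := hT a b
    exact hstep τ hτ a
  by_cases hne : Nonempty n
  · obtain ⟨a⟩ := hne
    have hmem : ∀ v : U F, (∀ b, v * u b ∈ Q8 F) → sc v * g ∈ SG (Q8 F) (T : Subgroup (Perm n)) := by
      intro v hv
      refine ⟨σ, hσT, ?_, fun b => ⟨v * u b, hv b, ?_⟩⟩
      · intro c d hcd
        rw [sc_mul_apply, hσ c d hcd, mul_zero]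
      · rw [sc_mul_apply, ← hue b]; rfl
    rcases norm_Q8 h2 hns (hun a) with h | h
    · left
      refine ⟨σ, hσT, hσ, fun b => ⟨u b, ?_, hue b⟩⟩
      have := mul_mem (hall a b) h
      rwa [inv_mul_cancel_right] at this
    · right
      rcases half_mem h2 h with h3 | h3
      · left
        rw [← map_inv]
        apply hmem
        intro b
        have h4 : (om h2)⁻¹ * u b = ((om h2)⁻¹ * (u b * (u a)⁻¹) * om h2) * ((om h2)⁻¹ * u a) := by
          group
        rw [h4]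
        exact mul_mem (om_conj_mem' h2 (hall a b)) h3
      · right
        apply hmem
        intro b
        have h4 : om h2 * u b = (om h2 * (u b * (u a)⁻¹) * (om h2)⁻¹) * (om h2 * u a) := by
          group
        rw [h4]
        exact mul_mem (om_conj_mem h2 (hall a b)) h3
  · left
    refine ⟨σ, hσT, hσ, fun b => absurd ⟨b⟩ hne⟩

/-- `sc ω` normalizes the wreath product. -/
theorem sc_om_conj (h2 : (2 : F) ≠ 0) {T : Subgroup (Perm n)} {s : GU n F}
    (hs : s ∈ SG (Q8 F) T) : sc (om h2) * s * (sc (om h2))⁻¹ ∈ SG (Q8 F) T := by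
  obtain ⟨σ, hσT, hσ, hent⟩ := hs
  refine ⟨σ, hσT, ?_, fun b => ?_⟩
  · intro c d hcd
    rw [← map_inv, mul_sc_apply, sc_mul_apply, hσ c d hcd, mul_zero, zero_mul]
  · obtain ⟨w, hw, hwe⟩ := hent b
    refine ⟨om h2 * w * (om h2)⁻¹, om_conj_mem h2 hw, ?_⟩
    rw [← map_inv, mul_sc_apply, sc_mul_apply, ← hwe]; rfl

theorem sc_om_conj' (h2 : (2 : F) ≠ 0) {T : Subgroup (Perm n)} {s : GU n F}
    (hs : s ∈ SG (Q8 F) T) : (sc (om h2))⁻¹ * s * sc (om h2) ∈ SG (Q8 F) T := by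
  obtain ⟨σ, hσT, hσ, hent⟩ := hs
  refine ⟨σ, hσT, ?_, fun b => ?_⟩
  · intro c d hcd
    rw [← map_inv, mul_sc_apply, sc_mul_apply, hσ c d hcd, mul_zero, zero_mul]
  · obtain ⟨w, hw, hwe⟩ := hent b
    refine ⟨(om h2)⁻¹ * w * om h2, om_conj_mem' h2 hw, ?_⟩
    rw [← map_inv, mul_sc_apply, sc_mul_apply, ← hwe]; rfl

end Cfsg.Agent.H158.PronFrame
end
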